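import Cfsg.Agent.Lib.Transfer.Fusion
import Mathlib.GroupTheory.GroupAction.ConjAct

/-!
# Transfer for abelian Hall and abelian Sylow subgroups
-/

namespace CfsgLib.Transfer

open Cfsg Subgroup
open scoped commutatorElement IsMulCommutative

section Hall

variable {G : Type*} [Group G] [Finite G]

/-- An abelian subgroup of order prime to its index meets `G' ⊓ Z(G)` trivially. -/
theorem inf_commutator_inf_center_eq_bot (H : Subgroup G) [IsMulCommutative H]
    (hHall : Nat.Coprime (Nat.card H) H.index) :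
    H ⊓ _root_.commutator G ⊓ Subgroup.center G = ⊥ := by
  refine eq_bot_iff.mpr ?_
  rintro z ⟨⟨hzH, hzc⟩, hzZ⟩
  set τ := MonoidHom.transfer (MonoidHom.id H) with hτ
  have h1 : τ z = 1 := Abelianization.commutator_subset_ker τ hzc
  rw [hτ, MonoidHom.transfer_eq_pow _ _ fun k g₀ _ => Commute.inv_mul_cancel
    (Commute.pow_right (Subgroup.mem_center_iff.mp hzZ g₀) k)] at h1
  have h2 : (⟨z, hzH⟩ : H) ^ H.index = 1 := (Subtype.ext rfl : _ = _).trans h1
  have h3 := (powCoprime hHall).injective
    (show powCoprime hHall ⟨z, hzH⟩ = powCoprime hHall 1 by simpa using h2)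
  exact Subgroup.mem_bot.mpr (congrArg Subtype.val h3)

/-- Fitting's decomposition of an abelian normal Hall subgroup. -/
theorem abelian_normal_hall (A : Subgroup G) [hA : A.Normal] [IsMulCommutative A]
    (hHall : Nat.Coprime (Nat.card A) A.index) :
    ⁅A, (⊤ : Subgroup G)⁆ = _root_.commutator G ⊓ A ∧
      (_root_.commutator G ⊓ A) ⊓ (Subgroup.center G ⊓ A) = ⊥ ∧
      (_root_.commutator G ⊓ A) ⊔ (Subgroup.center G ⊓ A) = A := by
  classical
  have hbot : (_root_.commutator G ⊓ A) ⊓ (Subgroup.center G ⊓ A) = ⊥ :=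
    eq_bot_iff.mpr fun x hx => (inf_commutator_inf_center_eq_bot A hHall).le
      ⟨⟨hx.2.2, hx.1.1⟩, hx.2.1⟩
  have hker : A ≤ (MulAut.conjNormal (H := A)).ker := by
    intro a ha
    refine MulEquiv.ext fun b => Subtype.ext ?_
    rw [MulAut.conjNormal_apply]
    have := congrArg Subtype.val (mul_comm (⟨a, ha⟩ : A) b)
    simp only [Subgroup.coe_mul] at this
    show a * (b : G) * a⁻¹ = b
    rw [this, mul_inv_cancel_right]
  set c : G ⧸ A →* MulAut A := QuotientGroup.lift A MulAut.conjNormal hker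
  let _ : Fintype (G ⧸ A) := Fintype.ofFinite _
  have hcomm : ∀ (g : G) (a : A), ((c (g : G ⧸ A) a : A) : G) = g * a * g⁻¹ :=
    fun g a => MulAut.conjNormal_apply g a
  have hdec : A ≤ ⁅A, (⊤ : Subgroup G)⁆ ⊔ (Subgroup.center G ⊓ A) := by
    intro x hx
    have key : ∀ a : A, ((a ^ A.index : A) : G) ∈
        ⁅A, (⊤ : Subgroup G)⁆ ⊔ (Subgroup.center G ⊓ A) := by
      intro a
      set e : A := ∏ q : G ⧸ A, c q a
      have he : ((e : A) : G) ∈ Subgroup.center G ⊓ A := by
        refine ⟨Subgroup.mem_center_iff.mpr fun g => ?_, e.2⟩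
        have h1 : c (g : G ⧸ A) e = e := by
          rw [map_prod]
          exact Fintype.prod_equiv (Equiv.mulLeft (g : G ⧸ A)) _ _ fun q => by simp
        have h2 := congrArg Subtype.val h1
        rw [hcomm, mul_inv_eq_iff_eq_mul] at h2
        exact h2
      have hq : ∏ q : G ⧸ A, a * (c q a)⁻¹ ∈ (⁅A, (⊤ : Subgroup G)⁆).subgroupOf A := by
        refine Subgroup.prod_mem _ fun q _ => ?_
        obtain ⟨g, rfl⟩ := QuotientGroup.mk_surjective q
        rw [mem_subgroupOf]
        have h := commutator_mem_commutator a.2 (mem_top g)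
        simp only [Subgroup.coe_mul, Subgroup.coe_inv, hcomm]
        simpa [commutatorElement_def, mul_assoc] using h
      have hsplit : a ^ A.index = (∏ q : G ⧸ A, a * (c q a)⁻¹) * e := by
        rw [← Finset.prod_mul_distrib]
        simp [Finset.prod_const, Subgroup.index_eq_card, Nat.card_eq_fintype_card, mul_assoc]
      rw [hsplit, Subgroup.coe_mul]
      exact mul_mem (mem_sup_left (mem_subgroupOf.mp hq)) (mem_sup_right he)
    have h := key ((powCoprime hHall).symm ⟨x, hx⟩)
    rwa [show ((powCoprime hHall).symm ⟨x, hx⟩) ^ A.index = ⟨x, hx⟩ from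
      (powCoprime hHall).apply_symm_apply _] at h
  have hle : ⁅A, (⊤ : Subgroup G)⁆ ≤ _root_.commutator G ⊓ A :=
    le_inf (commutator_mono le_top le_rfl) (commutator_le_left A ⊤)
  refine ⟨le_antisymm hle ?_, hbot, le_antisymm (sup_le inf_le_right inf_le_right)
    (hdec.trans (sup_le_sup_right hle _))⟩
  intro x hx
  obtain ⟨y, hy, z, hz, rfl⟩ := mem_sup_of_normal_left.mp (hdec hx.2)
  have hz1 : z ∈ (_root_.commutator G ⊓ A) ⊓ (Subgroup.center G ⊓ A) := by
    refine ⟨?_, hz⟩
    have := mul_mem (inv_mem (hle hy)) hx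
    simpa using this
  rw [hbot] at hz1
  rw [Subgroup.mem_bot.mp hz1, mul_one]
  exact hy

end Hall

section Sylow

variable {G : Type*} [Group G] [Finite G] {p : ℕ} [hp : Fact p.Prime]

theorem commutator_inf_le_commutator_normalizer (P : Sylow p G)
    (hP : IsMulCommutative (P : Subgroup G)) :
    _root_.commutator G ⊓ (P : Subgroup G) ≤
      ⁅(P : Subgroup G), Subgroup.normalizer ((P : Subgroup G) : Set G)⁆ := by
  refine commutator_inf_le_of_fusion P _ fun x hx g hg => ?_
  obtain ⟨n, hn, hne⟩ := exists_normalizer_conj_of_isMulCommutative P hP (X := {x})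
    (Set.singleton_subset_iff.mpr hx)
    (by rw [Set.image_singleton]; exact Set.singleton_subset_iff.mpr hg)
  rw [← hne x rfl]
  have h := commutator_mem_commutator (inv_mem hx) (inv_mem hn)
  simpa [commutatorElement_def, mul_assoc] using h

omit [Finite G] hp in
theorem commutator_sylow_normalizer_le (P : Sylow p G) :
    ⁅(P : Subgroup G), Subgroup.normalizer ((P : Subgroup G) : Set G)⁆ ≤ (P : Subgroup G) := by
  rw [commutator_le]
  intro a ha n hn
  have := mul_mem ha ((mem_normalizer_iff.mp hn a⁻¹).mp (inv_mem ha))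
  simpa [commutatorElement_def, mul_assoc] using this

/-- For abelian `P`: `P ⊓ O^p(G) = [P, N(P)]`. -/
theorem inf_pResidual_eq_commutator_normalizer (P : Sylow p G)
    (hP : IsMulCommutative (P : Subgroup G)) :
    (P : Subgroup G) ⊓ pResidual p G =
      ⁅(P : Subgroup G), Subgroup.normalizer ((P : Subgroup G) : Set G)⁆ := by
  refine le_antisymm ?_ (le_inf (commutator_sylow_normalizer_le P) ?_)
  · refine le_trans (fun x hx => ?_) (commutator_inf_le_commutator_normalizer P hP)
    have h1 : x ∈ (Subgroup.transferFocal (P : Subgroup G)).ker ⊓ (P : Subgroup G) :=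
      ⟨pResidual_le_ker (P.2.to_quotient _) _ hx.2, hx.1⟩
    rw [Subgroup.ker_transferFocal_inf_eq_focalSubgroup] at h1
    exact ⟨Subgroup.focalSubgroup_le_commutator _ h1, hx.1⟩
  · rw [commutator_le]
    intro a ha n hn
    have htame := (isTameInter_self P).1
    rw [inf_idem] at htame
    obtain ⟨s, hs, k, hk, rfl⟩ := exists_mul_of_sylow_normalizer P htame hn
    have hk' : k ∈ pResidual p G := map_subtype_pResidual_le _ hk
    have hsa : a * s = s * a := congrArg Subtype.val (hP.is_comm.comm ⟨a, ha⟩ ⟨s, hs.1⟩)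
    have h : s * ((a * k * a⁻¹) * k⁻¹) * s⁻¹ ∈ pResidual p G :=
      pResidual_normal.conj_mem _ (mul_mem (pResidual_normal.conj_mem _ hk' a) (inv_mem hk')) s
    convert h using 1
    rw [commutatorElement_def, ← mul_assoc a s k, hsa]
    group

/-- For abelian `P`: `P ⊓ G' = [P, N(P)]`. -/
theorem commutator_inf_eq_commutator_normalizer (P : Sylow p G)
    (hP : IsMulCommutative (P : Subgroup G)) :
    _root_.commutator G ⊓ (P : Subgroup G) =
      ⁅(P : Subgroup G), Subgroup.normalizer ((P : Subgroup G) : Set G)⁆ :=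
  le_antisymm (commutator_inf_le_commutator_normalizer P hP)
    (le_inf (commutator_mono le_top le_top) (commutator_sylow_normalizer_le P))

/-- For abelian `P`: `P = [P, N(P)] × C_P(N(P))`. -/
theorem commutator_normalizer_inf_sup (P : Sylow p G) (hP : IsMulCommutative (P : Subgroup G)) :
    ⁅(P : Subgroup G), Subgroup.normalizer ((P : Subgroup G) : Set G)⁆ ⊓
        ((P : Subgroup G) ⊓ Subgroup.centralizer
          ((Subgroup.normalizer ((P : Subgroup G) : Set G) : Subgroup G) : Set G)) = ⊥ ∧
    ⁅(P : Subgroup G), Subgroup.normalizer ((P : Subgroup G) : Set G)⁆ ⊔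
        ((P : Subgroup G) ⊓ Subgroup.centralizer
          ((Subgroup.normalizer ((P : Subgroup G) : Set G) : Subgroup G) : Set G)) =
      (P : Subgroup G) := by
  set N := Subgroup.normalizer ((P : Subgroup G) : Set G) with hN
  set A : Subgroup N := (P : Subgroup G).subgroupOf N with hA
  have hPN : (P : Subgroup G) ≤ N := le_normalizer
  have : A.Normal := normal_subgroupOf_iff_le_normalizer hPN |>.mpr le_rfl
  have : IsMulCommutative A :=
    ⟨⟨fun a b => Subtype.ext (Subtype.ext
      (congrArg Subtype.val (hP.is_comm.comm ⟨a.1.1, a.2⟩ ⟨b.1.1, b.2⟩) :))⟩⟩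
  have hHall : Nat.Coprime (Nat.card A) A.index := (P.subtype hPN).card_coprime_index
  obtain ⟨h1, h2, h3⟩ := abelian_normal_hall A hHall
  have hAmap : A.map N.subtype = (P : Subgroup G) := by
    rw [hA, subgroupOf_map_subtype, inf_eq_left.mpr hPN]
  have hcomm : (_root_.commutator N ⊓ A).map N.subtype = ⁅(P : Subgroup G), N⁆ := by
    rw [← h1, map_commutator, hAmap, ← MonoidHom.range_eq_map, range_subtype]
  have hcent : (Subgroup.center N ⊓ A).map N.subtype =
      (P : Subgroup G) ⊓ Subgroup.centralizer (N : Set G) := by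
    ext x
    constructor
    · rintro ⟨y, ⟨hy1, hy2⟩, rfl⟩
      exact ⟨hy2, mem_centralizer_iff.mpr fun n hn =>
        congrArg Subtype.val (Subgroup.mem_center_iff.mp hy1 ⟨n, hn⟩)⟩
    · rintro ⟨hx1, hx2⟩
      exact ⟨⟨x, hPN hx1⟩, ⟨Subgroup.mem_center_iff.mpr fun n =>
        Subtype.ext (mem_centralizer_iff.mp hx2 n n.2), hx1⟩, rfl⟩
  rw [← hcomm, ← hcent, ← Subgroup.map_inf _ _ _ N.subtype_injective, ← Subgroup.map_sup, h2, h3,
    Subgroup.map_bot, hAmap]
  exact ⟨rfl, rfl⟩

end Sylow

end CfsgLib.Transfer
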