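import Cfsg.Prelude.Def_Transfer

/-!
# The `p`-residual `O^p(G)` (`Cfsg.pResidual`) and normal `p`-complements

General API used by the transfer, fusion and p-local files.
-/

namespace CfsgLib.Transfer

open Cfsg Subgroup

section Residual

variable {G : Type*} [Group G] {p : ℕ}

theorem mem_pResidual_of_coprime {g : G} (h : Nat.Coprime (orderOf g) p) : g ∈ pResidual p G :=
  subset_closure h

theorem pResidual_le_iff {K : Subgroup G} :
    pResidual p G ≤ K ↔ ∀ g : G, Nat.Coprime (orderOf g) p → g ∈ K :=
  closure_le K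

theorem map_pResidual_le {H : Type*} [Group H] (f : G →* H) :
    (pResidual p G).map f ≤ pResidual p H := by
  rw [pResidual, MonoidHom.map_closure, closure_le]
  rintro _ ⟨g, hg, rfl⟩
  exact mem_pResidual_of_coprime (Nat.Coprime.coprime_dvd_left (orderOf_map_dvd f g) hg)

theorem map_pResidual_mulEquiv {H : Type*} [Group H] (e : G ≃* H) :
    (pResidual p G).map e.toMonoidHom = pResidual p H := by
  refine le_antisymm (map_pResidual_le _) ?_
  intro h hh
  exact ⟨e.symm h, map_pResidual_le e.symm.toMonoidHom ⟨h, hh, rfl⟩, e.apply_symm_apply h⟩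

instance pResidual_characteristic : (pResidual p G).Characteristic :=
  characteristic_iff_map_eq.mpr fun e => map_pResidual_mulEquiv e

instance pResidual_normal : (pResidual p G).Normal :=
  normal_of_characteristic _

theorem map_subtype_pResidual_le (H : Subgroup G) :
    (pResidual p H).map H.subtype ≤ pResidual p G :=
  map_pResidual_le H.subtype

theorem map_subtype_pResidual_mono {H K : Subgroup G} (h : H ≤ K) :
    (pResidual p H).map H.subtype ≤ (pResidual p K).map K.subtype := by
  have := Subgroup.map_mono (f := K.subtype) (map_pResidual_le (p := p) (Subgroup.inclusion h))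
  rwa [Subgroup.map_map, subtype_comp_inclusion] at this

variable [Finite G] [hp : Fact p.Prime]

/-- Some power of `p` carries every element into a `p'`-element. -/
theorem exists_pow_prime_pow_coprime (g : G) :
    ∃ k : ℕ, Nat.Coprime (orderOf (g ^ p ^ k)) p := by
  obtain ⟨k, m, hm, hkm⟩ :=
    Nat.exists_eq_pow_mul_and_not_dvd (orderOf_pos g).ne' p hp.out.ne_one
  refine ⟨k, ?_⟩
  rw [orderOf_pow, hkm, Nat.gcd_eq_right (dvd_mul_right _ _),
    Nat.mul_div_cancel_left _ (pow_pos hp.out.pos k)]
  exact ((Nat.Prime.coprime_iff_not_dvd hp.out).mpr hm).symm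

theorem isPGroup_quotient_pResidual : IsPGroup p (G ⧸ pResidual p G) := by
  rw [isPGroup_iff_pow_pow_eq_one]
  intro x
  obtain ⟨g, rfl⟩ := QuotientGroup.mk_surjective x
  obtain ⟨k, hk⟩ := exists_pow_prime_pow_coprime (p := p) g
  refine ⟨k, ?_⟩
  rw [← QuotientGroup.mk_pow, QuotientGroup.eq_one_iff]
  exact mem_pResidual_of_coprime hk

omit [Finite G] hp in
theorem eq_one_of_coprime_of_isPGroup (hG : IsPGroup p G) {g : G}
    (hg : Nat.Coprime (orderOf g) p) : g = 1 := by
  obtain ⟨k, hk⟩ := isPGroup_iff_orderOf_dvd_pow.mp hG g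
  exact orderOf_eq_one_iff.mp ((hg.pow_right k).eq_one_of_dvd hk)

omit [Finite G] hp in
theorem pResidual_le_ker {H : Type*} [Group H] (hH : IsPGroup p H) (f : G →* H) :
    pResidual p G ≤ f.ker :=
  pResidual_le_iff.mpr fun g hg =>
    eq_one_of_coprime_of_isPGroup hH (hg.coprime_dvd_left (orderOf_map_dvd f g))

omit [Finite G] hp in
/-- `O^p(G)` lies in every normal subgroup with `p`-group quotient. -/
theorem pResidual_le_of_isPGroup_quotient {N : Subgroup G} [N.Normal]
    (h : IsPGroup p (G ⧸ N)) : pResidual p G ≤ N :=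
  (pResidual_le_ker h (QuotientGroup.mk' N)).trans (QuotientGroup.ker_mk' N).le

theorem exists_index_pResidual : ∃ n : ℕ, (pResidual p G).index = p ^ n := by
  obtain ⟨n, hn⟩ := IsPGroup.iff_card.mp (isPGroup_quotient_pResidual (p := p) (G := G))
  exact ⟨n, by rw [index_eq_card, hn]⟩

/-- A normal subgroup of `p`-power index together with any Sylow `p`-subgroup generates `G`. -/
theorem sup_sylow_eq_top {N : Subgroup G} [N.Normal] (hN : IsPGroup p (G ⧸ N)) (P : Sylow p G) :
    N ⊔ (P : Subgroup G) = ⊤ := by
  rw [← index_eq_one]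
  obtain ⟨n, hn⟩ := IsPGroup.iff_card.mp hN
  have h1 : (N ⊔ (P : Subgroup G)).index ∣ p ^ n := by
    rw [← hn, ← index_eq_card]
    exact index_dvd_of_le le_sup_left
  have h2 : (N ⊔ (P : Subgroup G)).index ∣ (P : Subgroup G).index := index_dvd_of_le le_sup_right
  exact Nat.eq_one_of_dvd_coprimes
    (((Nat.Prime.coprime_iff_not_dvd hp.out).mpr P.not_dvd_index).pow_left n) h1 h2

theorem pResidual_sup_sylow (P : Sylow p G) : pResidual p G ⊔ (P : Subgroup G) = ⊤ :=
  sup_sylow_eq_top isPGroup_quotient_pResidual P

/-- Every element is a `p`-element of a given Sylow subgroup times an element of `O^p(G)`. -/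
theorem exists_mul_mem_pResidual (P : Sylow p G) (g : G) :
    ∃ x ∈ (P : Subgroup G), ∃ k ∈ pResidual p G, g = x * k := by
  have h : g ∈ (P : Subgroup G) ⊔ pResidual p G := by
    rw [sup_comm, pResidual_sup_sylow]; exact mem_top g
  obtain ⟨x, hx, k, hk, rfl⟩ := mem_sup_of_normal_right.mp h
  exact ⟨x, hx, k, hk, rfl⟩

theorem map_pResidual_of_surjective {H : Type*} [Group H] (f : G →* H)
    (hf : Function.Surjective f) : (pResidual p G).map f = pResidual p H := by
  have := Finite.of_surjective f hf
  refine le_antisymm (map_pResidual_le f) ?_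
  have hn : ((pResidual p G).map f).Normal := pResidual_normal.map f hf
  refine pResidual_le_of_isPGroup_quotient ?_
  refine (isPGroup_quotient_pResidual (p := p) (G := G)).of_surjective
    (QuotientGroup.map _ _ f (le_comap_map f _)) ?_
  intro y
  obtain ⟨h, rfl⟩ := QuotientGroup.mk_surjective y
  obtain ⟨g, rfl⟩ := hf h
  exact ⟨(g : G ⧸ pResidual p G), rfl⟩

omit [Finite G] hp in
/-- `O^p(O^p(G)) = O^p(G)`. -/
theorem pResidual_pResidual : pResidual p (pResidual p G : Subgroup G) = ⊤ := by
  refine eq_top_iff.mpr ?_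
  have h : pResidual p G ≤ (pResidual p (pResidual p G : Subgroup G)).map
      (pResidual p G).subtype := by
    refine pResidual_le_iff.mpr fun g hg => ?_
    exact ⟨⟨g, mem_pResidual_of_coprime hg⟩,
      mem_pResidual_of_coprime (by rwa [Subgroup.orderOf_mk]), rfl⟩
  intro x _
  obtain ⟨y, hy, hyx⟩ := h x.2
  rwa [← Subtype.ext hyx]

omit [Finite G] hp in
/-- A subgroup of order prime to `p` lies in `O^p(G)`. -/
theorem le_pResidual_of_coprime {H : Subgroup G} (h : (Nat.card H).Coprime p) :
    H ≤ pResidual p G := fun _x hx =>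
  mem_pResidual_of_coprime (h.coprime_dvd_left (Subgroup.orderOf_dvd_natCard H hx))

end Residual

section Complement

variable {G : Type*} [Group G] [Finite G] {p : ℕ} [hp : Fact p.Prime]

omit [Finite G] in
theorem coprime_card_of_isComplement' {N : Subgroup G} {P : Sylow p G} [P.FiniteIndex]
    (h : N.IsComplement' (P : Subgroup G)) : (Nat.card N).Coprime p := by
  have h' : (P : Subgroup G).index = Nat.card N := h.index_eq_card
  rw [← h']
  exact ((Nat.Prime.coprime_iff_not_dvd hp.out).mpr P.not_dvd_index).symm

/-- A normal complement of a Sylow `p`-subgroup is `O^p(G)`. -/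
theorem eq_pResidual_of_isComplement' {N : Subgroup G} [N.Normal] {P : Sylow p G}
    (h : N.IsComplement' (P : Subgroup G)) : N = pResidual p G := by
  refine le_antisymm (le_pResidual_of_coprime (coprime_card_of_isComplement' h)) ?_
  exact pResidual_le_of_isPGroup_quotient (P.2.of_equiv h.symm.QuotientMulEquiv.symm)

theorem isComplement'_pResidual_iff (P : Sylow p G) :
    (pResidual p G).IsComplement' (P : Subgroup G) ↔
      (P : Subgroup G) ⊓ pResidual p G = ⊥ := by
  constructor
  · intro h
    rw [inf_comm]
    exact h.disjoint.eq_bot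
  · intro h
    refine isComplement'_of_disjoint_and_mul_eq_univ (disjoint_iff.mpr (by rwa [inf_comm])) ?_
    rw [← Subgroup.normal_mul (pResidual p G) (P : Subgroup G), pResidual_sup_sylow, coe_top]

theorem hasNormalPComplement_of_inf_pResidual (P : Sylow p G)
    (h : (P : Subgroup G) ⊓ pResidual p G = ⊥) : HasNormalPComplement p G :=
  ⟨P, pResidual p G, inferInstance, (isComplement'_pResidual_iff P).mpr h⟩

theorem hasNormalPComplement_of_coprime_pResidual
    (h : (Nat.card (pResidual p G)).Coprime p) : HasNormalPComplement p G := by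
  obtain ⟨P⟩ : Nonempty (Sylow p G) := inferInstance
  refine hasNormalPComplement_of_inf_pResidual P ?_
  obtain ⟨n, hn⟩ := IsPGroup.iff_card.mp P.2
  refine (disjoint_of_coprime_natCard ?_).eq_bot
  rw [hn]
  exact h.symm.pow_left n

theorem hasNormalPComplement_iff_coprime :
    HasNormalPComplement p G ↔ (Nat.card (pResidual p G)).Coprime p := by
  refine ⟨?_, hasNormalPComplement_of_coprime_pResidual⟩
  rintro ⟨P, N, hN, h⟩
  rw [← eq_pResidual_of_isComplement' h]
  exact coprime_card_of_isComplement' h

theorem hasNormalPComplement_iff_inf (P : Sylow p G) :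
    HasNormalPComplement p G ↔ (P : Subgroup G) ⊓ pResidual p G = ⊥ := by
  refine ⟨fun h => ?_, hasNormalPComplement_of_inf_pResidual P⟩
  obtain ⟨n, hn⟩ := IsPGroup.iff_card.mp P.2
  refine (disjoint_of_coprime_natCard ?_).eq_bot
  rw [hn]
  exact (hasNormalPComplement_iff_coprime.mp h).symm.pow_left n

theorem exists_complement_iff (P : Sylow p G) :
    (∃ N : Subgroup G, N.Normal ∧ N.IsComplement' (P : Subgroup G)) ↔
      HasNormalPComplement p G := by
  refine ⟨fun ⟨N, hN, h⟩ => ⟨P, N, hN, h⟩, fun h => ⟨pResidual p G, inferInstance, ?_⟩⟩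
  exact (isComplement'_pResidual_iff P).mpr ((hasNormalPComplement_iff_inf P).mp h)

/-- `G` has a normal `p`-complement iff some normal `p'`-subgroup has `p`-group quotient. -/
theorem hasNormalPComplement_iff_exists :
    HasNormalPComplement p G ↔
      ∃ (N : Subgroup G) (_ : N.Normal), (Nat.card N).Coprime p ∧ IsPGroup p (G ⧸ N) := by
  refine ⟨fun h => ⟨pResidual p G, inferInstance, hasNormalPComplement_iff_coprime.mp h,
    isPGroup_quotient_pResidual⟩, ?_⟩
  rintro ⟨N, hN, h1, h2⟩
  refine hasNormalPComplement_of_coprime_pResidual (h1.coprime_dvd_left ?_)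
  exact card_dvd_of_le (pResidual_le_of_isPGroup_quotient h2)

/-- With a normal `p`-complement, its elements are exactly the `p'`-elements. -/
theorem mem_pResidual_iff_coprime (h : HasNormalPComplement p G) {x : G} :
    x ∈ pResidual p G ↔ Nat.Coprime (orderOf x) p :=
  ⟨fun hx => (hasNormalPComplement_iff_coprime.mp h).coprime_dvd_left
    (Subgroup.orderOf_dvd_natCard _ hx), mem_pResidual_of_coprime⟩

theorem hasNormalPComplement_subgroup (h : HasNormalPComplement p G) (H : Subgroup G) :
    HasNormalPComplement p H := by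
  refine hasNormalPComplement_of_coprime_pResidual ?_
  rw [Nat.card_congr ((pResidual p H).equivMapOfInjective H.subtype
    H.subtype_injective).toEquiv]
  exact (hasNormalPComplement_iff_coprime.mp h).coprime_dvd_left
    (card_dvd_of_le (map_subtype_pResidual_le H))

theorem hasNormalPComplement_of_surjective {H : Type*} [Group H] (f : G →* H)
    (hf : Function.Surjective f) (h : HasNormalPComplement p G) :
    HasNormalPComplement p H := by
  have := Finite.of_surjective f hf
  refine hasNormalPComplement_of_coprime_pResidual ?_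
  rw [← map_pResidual_of_surjective f hf]
  exact (hasNormalPComplement_iff_coprime.mp h).coprime_dvd_left (card_map_dvd _ f)

theorem hasNormalPComplement_of_injective {H : Type*} [Group H] [Finite H] (f : H →* G)
    (hf : Function.Injective f) (h : HasNormalPComplement p G) :
    HasNormalPComplement p H :=
  hasNormalPComplement_of_surjective (MonoidHom.ofInjective hf).symm.toMonoidHom
    (MonoidHom.ofInjective hf).symm.surjective (hasNormalPComplement_subgroup h f.range)

theorem hasNormalPComplement_of_isPGroup (h : IsPGroup p G) : HasNormalPComplement p G := by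
  refine hasNormalPComplement_of_coprime_pResidual ?_
  have : pResidual p G = ⊥ := by
    rw [← le_bot_iff]
    exact pResidual_le_iff.mpr fun g hg => by simp [eq_one_of_coprime_of_isPGroup h hg]
  rw [this, card_bot]
  exact Nat.coprime_one_left p

/-- In a group with a normal `p`-complement, `p'`-elements normalizing a `p`-subgroup centralize it. -/
theorem mem_centralizer_of_hasNormalPComplement (h : HasNormalPComplement p G) {Q : Subgroup G}
    (hQ : IsPGroup p Q) {g : G} (hg : g ∈ Subgroup.normalizer (Q : Set G))
    (hgc : Nat.Coprime (orderOf g) p) : g ∈ Subgroup.centralizer (Q : Set G) := by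
  rw [mem_centralizer_iff]
  intro x hx
  have h1 : g * x * g⁻¹ * x⁻¹ ∈ Q := mul_mem ((mem_normalizer_iff.mp hg x).mp hx) (inv_mem hx)
  have h2 : g * x * g⁻¹ * x⁻¹ ∈ pResidual p G := by
    have hg' := mem_pResidual_of_coprime (G := G) hgc
    have := mul_mem hg' (pResidual_normal.conj_mem _ (inv_mem hg') x)
    simpa [mul_assoc] using this
  have h3 := eq_one_of_coprime_of_isPGroup hQ (g := ⟨_, h1⟩)
    (by rw [Subgroup.orderOf_mk]; exact (mem_pResidual_iff_coprime h).mp h2)
  have h4 : g * x * g⁻¹ * x⁻¹ = 1 := congrArg Subtype.val h3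
  rw [mul_inv_eq_one, mul_inv_eq_iff_eq_mul] at h4
  exact h4.symm

end Complement

end CfsgLib.Transfer
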