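import Cfsg.Agent.Lib.Transfer.ClassThree
import Cfsg.Agent.Lib.PGroups.Basic

/-!
# `p`-groups of small class: `Ω₁` has exponent `p`, the power map
-/

namespace CfsgLib.Transfer

open Subgroup
open scoped commutatorElement

variable {R : Type*} [Group R] {p : ℕ}

/-- Class at most two with `p` odd, or class at most three with `p > 3`. -/
def SmallClass (p : ℕ) (R : Type*) [Group R] : Prop :=
  (p ≠ 2 ∧ ⁅_root_.commutator R, (⊤ : Subgroup R)⁆ = ⊥) ∨
    (3 < p ∧ ⁅⁅_root_.commutator R, (⊤ : Subgroup R)⁆, (⊤ : Subgroup R)⁆ = ⊥)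

theorem commute_of_commutator_top_eq_bot {H : Subgroup R} (h : ⁅H, (⊤ : Subgroup R)⁆ = ⊥)
    {a : R} (ha : a ∈ H) (z : R) : Commute a z :=
  commutatorElement_eq_one_iff_mul_comm.mp
    (Subgroup.mem_bot.mp (h ▸ commutator_mem_commutator ha (mem_top z)))

theorem SmallClass.mul_pow [hp : Fact p.Prime] (h : SmallClass p R) {x y : R}
    (hc : ⁅x⁻¹, y⁻¹⁆ ^ p = 1)
    (hd : 3 < p → ∀ c : R, y * x = x * y * c → ⁅c⁻¹, x⁻¹⁆ ^ p = 1 ∧ ⁅c⁻¹, y⁻¹⁆ ^ p = 1) :
    (x * y) ^ p = x ^ p * y ^ p := by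
  have hp2 : p ≠ 2 := by rcases h with h | h <;> omega
  refine mul_pow_prime_of_class_three hp.out hp2 (by rw [inv_pow, hc, inv_one]) fun c hcr => ?_
  have hcm : c⁻¹ ∈ _root_.commutator R := by
    refine inv_mem ?_
    have : c = ⁅y⁻¹, x⁻¹⁆ := by
      have e : c = (x * y)⁻¹ * (y * x) := by rw [hcr, inv_mul_cancel_left]
      rw [e, commutatorElement_def]; group
    rw [this]
    exact commutator_mem_commutator (mem_top _) (mem_top _)
  have hrel : ∀ z : R, c * z = z * c * ⁅c⁻¹, z⁻¹⁆ := fun z => by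
    rw [commutatorElement_def]; group
  rcases h with ⟨-, h2⟩ | ⟨h3, h3'⟩
  · have hz : ∀ z : R, c * z = z * c * 1 := fun z => by
      rw [mul_one]
      exact (commute_of_commutator_top_eq_bot h2 (inv_mem hcm) z).eq |> fun e => by simpa using e
    exact ⟨1, 1, hz x, hz y, .one_left _, .one_left _, .one_left _, .one_left _, .inl ⟨rfl, rfl⟩⟩
  · have hm : ∀ z : R, ⁅c⁻¹, z⁻¹⁆ ∈ ⁅_root_.commutator R, (⊤ : Subgroup R)⁆ := fun z =>
      commutator_mem_commutator hcm (mem_top _)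
    exact ⟨_, _, hrel x, hrel y, commute_of_commutator_top_eq_bot h3' (hm x) x,
      commute_of_commutator_top_eq_bot h3' (hm x) y, commute_of_commutator_top_eq_bot h3' (hm y) x,
      commute_of_commutator_top_eq_bot h3' (hm y) y, .inr ⟨h3, (hd h3 c hcr).1, (hd h3 c hcr).2⟩⟩

variable [Finite R] [hp : Fact p.Prime]

theorem SmallClass.mul_pow_eq_one (h : SmallClass p R) (hR : IsPGroup p R) {x y : R}
    (hx : x ^ p = 1) (hy : y ^ p = 1) : (x * y) ^ p = 1 := by
  suffices key : ∀ n : ℕ, ∀ H : Subgroup R, Nat.card H ≤ n → ∀ x ∈ H, ∀ y ∈ H,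
      x ^ p = 1 → y ^ p = 1 → (x * y) ^ p = 1 from
    key _ ⊤ le_rfl x (mem_top x) y (mem_top y) hx hy
  intro n
  induction n with
  | zero => exact fun H hH => absurd hH (Nat.card_pos (α := H)).not_ge
  | succ n ih =>
      intro H hH x hxH y hyH hx hy
      rcases eq_or_ne (Subgroup.zpowers (⟨x, hxH⟩ : H)) ⊤ with htop | hne
      · obtain ⟨k, hk⟩ := mem_zpowers_iff.mp (htop ▸ mem_top (⟨y, hyH⟩ : H))
        have hk' : x ^ k = y := by simpa using congrArg Subtype.val hk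
        have hcomm : Commute x y := hk' ▸ Commute.zpow_right (Commute.refl x) k
        rw [hcomm.mul_pow, hx, hy, one_mul]
      obtain ⟨M, hM, hxM⟩ := (eq_top_or_exists_le_coatom _).resolve_left hne
      have hMn : M.Normal := CfsgLib.PGroups.normal_of_isCoatom' (hR.to_subgroup H) hM
      set M' := M.map H.subtype
      have hMlt : Nat.card M' < Nat.card H := by
        refine card_lt_of_lt (lt_of_le_of_ne (map_subtype_le _) fun he => hM.1 ?_)
        exact Subgroup.map_injective H.subtype_injective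
          (by rw [← MonoidHom.range_eq_map, range_subtype]; exact he)
      have IH := ih M' (by omega)
      have hxM' : x ∈ M' := ⟨⟨x, hxH⟩, hxM (mem_zpowers _), rfl⟩
      have hconj : ∀ z ∈ H, ∀ a ∈ M', z * a * z⁻¹ ∈ M' := by
        rintro z hz _ ⟨a, ha, rfl⟩
        exact ⟨⟨z, hz⟩ * a * ⟨z, hz⟩⁻¹, hMn.conj_mem a ha _, rfl⟩
      have hcp : ∀ z ∈ H, ∀ a ∈ M', a ^ p = 1 → ⁅a⁻¹, z⁻¹⁆ ^ p = 1 := by
        intro z hz a ha hap
        have he : ⁅a⁻¹, z⁻¹⁆ = a⁻¹ * (z⁻¹ * a * z⁻¹⁻¹) := by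
          rw [commutatorElement_def]; group
        rw [he]
        refine IH a⁻¹ (inv_mem ha) _ (hconj z⁻¹ (inv_mem hz) a ha) (by rw [inv_pow, hap, inv_one]) ?_
        rw [conj_pow, hap, mul_one, mul_inv_cancel]
      have hcM : ⁅x⁻¹, y⁻¹⁆ ∈ M' := by
        have h1 := mul_mem (inv_mem hxM') (hconj y⁻¹ (inv_mem hyH) x hxM')
        simpa [commutatorElement_def, mul_assoc] using h1
      rw [h.mul_pow (hcp y hyH x hxM' hx) fun _ c hcr => ?_, hx, hy, one_mul]
      have hce : c = ⁅x⁻¹, y⁻¹⁆⁻¹ := by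
        have e : c = (x * y)⁻¹ * (y * x) := by rw [hcr, inv_mul_cancel_left]
        rw [e, commutatorElement_def]; group
      have hc1 : c ^ p = 1 := by rw [hce, inv_pow, hcp y hyH x hxM' hx, inv_one]
      have hc2 : c ∈ M' := hce ▸ inv_mem hcM
      exact ⟨hcp x hxH c hc2 hc1, hcp y hyH c hc2 hc1⟩

/-- `Ω₁` of a `p`-group of small class has exponent `p`. -/
theorem SmallClass.pow_eq_one_of_mem_closure (h : SmallClass p R) (hR : IsPGroup p R) {g : R}
    (hg : g ∈ Subgroup.closure {x : R | x ^ p = 1}) : g ^ p = 1 := by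
  induction hg using Subgroup.closure_induction with
  | mem x hx => exact hx
  | one => exact one_pow p
  | mul a b _ _ ha hb => exact h.mul_pow_eq_one hR ha hb
  | inv a _ ha => rw [inv_pow, ha, inv_one]

/-- The `p`-power map is a homomorphism when moreover `R' ≤ Ω₁(R)`. -/
theorem SmallClass.mul_pow_of_commutator_le (h : SmallClass p R) (hR : IsPGroup p R)
    (hder : _root_.commutator R ≤ Subgroup.closure {x : R | x ^ p = 1}) (x y : R) :
    (x * y) ^ p = x ^ p * y ^ p :=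
  have hd : ∀ a b : R, ⁅a, b⁆ ^ p = 1 := fun a b =>
    h.pow_eq_one_of_mem_closure hR (hder (commutator_mem_commutator (mem_top a) (mem_top b)))
  h.mul_pow (hd _ _) fun _ _ _ => ⟨hd _ _, hd _ _⟩

end CfsgLib.Transfer
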