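import Cfsg.Agent.Lib.Transfer.NormalAbelian
import Cfsg.Agent.Lib.Transfer.SmallClass
import Cfsg.Agent.Lib.PGroups.MaxAbelian

/-!
# `p`-groups of rank at most two; normal elementary subgroups of order `p²` and `p⁴`
-/

namespace CfsgLib.Transfer

open Cfsg Subgroup
open scoped commutatorElement Pointwise

theorem mem_of_elementary_bound {G : Type*} [Group G] [Finite G] {p k : ℕ} {W : Subgroup G}
    (hW : IsMulCommutative W) (hWe : ∀ w ∈ W, w ^ p = 1)
    (hrk : ∀ E : Subgroup G, IsElementaryAbelian p E → Nat.card E ≤ k) (hk : k ≤ Nat.card W)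
    {t : G} (ht : t ∈ Subgroup.centralizer (W : Set G)) (htp : t ^ p = 1) : t ∈ W := by
  have hle : W ⊔ zpowers t ≤ Subgroup.centralizer ((W ⊔ zpowers t : Subgroup G) : Set G) := by
    have h1 : W ≤ Subgroup.centralizer ((W ⊔ zpowers t : Subgroup G) : Set G) := by
      rw [le_centralizer_iff]
      exact sup_le (Subgroup.le_centralizer W) (zpowers_le.mpr ht)
    refine sup_le h1 ?_
    rw [le_centralizer_iff]
    refine sup_le ?_ (Subgroup.le_centralizer _)
    rw [le_centralizer_iff]
    exact zpowers_le.mpr ht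
  have hE : IsElementaryAbelian p (W ⊔ zpowers t : Subgroup G) := by
    refine ⟨⟨⟨fun a b => Subtype.ext (mem_centralizer_iff.mp (hle b.2) a a.2)⟩⟩, fun z hz => ?_⟩
    let f : Subgroup G :=
      { carrier := {z | z ∈ W ⊔ zpowers t ∧ z ^ p = 1}
        one_mem' := ⟨one_mem _, one_pow p⟩
        mul_mem' := fun {a b} ha hb => ⟨mul_mem ha.1 hb.1, by
          rw [(show Commute a b from mem_centralizer_iff.mp (hle hb.1) a ha.1).mul_pow, ha.2, hb.2,
            one_mul]⟩
        inv_mem' := fun {a} ha => ⟨inv_mem ha.1, by rw [inv_pow, ha.2, inv_one]⟩ }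
    have hf : W ⊔ zpowers t ≤ f := sup_le (fun w hw => ⟨mem_sup_left hw, hWe w hw⟩)
      (zpowers_le.mpr ⟨mem_sup_right (mem_zpowers t), htp⟩)
    exact (hf hz).2
  rw [eq_of_le_of_card_ge (le_sup_left : W ≤ W ⊔ zpowers t) ((hrk _ hE).trans hk)]
  exact mem_sup_right (mem_zpowers t)

variable {G : Type*} [Group G] [Finite G] {p : ℕ} [hp : Fact p.Prime]

/-- For odd `p`, a `p`-group with only one subgroup of order `p` is cyclic. -/
theorem isCyclic_of_unique_order_p (hp2 : p ≠ 2) (hG : IsPGroup p G)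
    (h : ∀ x y : G, x ^ p = 1 → x ≠ 1 → y ^ p = 1 → y ∈ zpowers x) : IsCyclic G := by
  suffices key : ∀ n : ℕ, ∀ H : Subgroup G, Nat.card H ≤ n → IsCyclic H by
    have := key _ ⊤ le_rfl
    exact isCyclic_of_surjective Subgroup.topEquiv Subgroup.topEquiv.surjective
  intro n
  induction n with
  | zero => exact fun H hH => absurd hH (Nat.card_pos (α := H)).not_ge
  | succ n ih =>
      intro H hH
      by_contra hnc
      have : Nontrivial H := by
        by_contra hn
        rw [not_nontrivial_iff_subsingleton] at hn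
        exact hnc isCyclic_of_subsingleton
      obtain ⟨M, hM⟩ : ∃ M : Subgroup H, IsCoatom M :=
        (eq_top_or_exists_le_coatom (⊥ : Subgroup H)).resolve_left bot_ne_top |>.imp fun _ h => h.1
      have hMc : IsCyclic M := by
        have hlt : Nat.card (M.map H.subtype) < Nat.card H := by
          refine card_lt_of_lt (lt_of_le_of_ne (map_subtype_le _) fun he => hM.1 ?_)
          exact Subgroup.map_injective H.subtype_injective
            (by rw [← MonoidHom.range_eq_map, range_subtype]; exact he)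
        have := ih (M.map H.subtype) (by omega)
        exact isCyclic_of_surjective (M.equivMapOfInjective H.subtype H.subtype_injective).symm
          (M.equivMapOfInjective H.subtype H.subtype_injective).symm.surjective
      obtain ⟨⟨-, hexp⟩, hcard⟩ := Cfsg.Agent.S0127.result hp2 (hG.to_subgroup H) hnc M hMc
        (CfsgLib.PGroups.index_of_isCoatom (hG.to_subgroup H) hM)
      set W := Subgroup.closure {x : H | x ^ p = 1}
      obtain ⟨w, hw⟩ := exists_prime_orderOf_dvd_card' (G := W) p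
        (hcard ▸ dvd_pow_self p two_ne_zero)
      have hw1 : ((w : H) : G) ≠ 1 := fun he => by
        rw [← Subgroup.orderOf_coe, ← Subgroup.orderOf_coe, he, orderOf_one] at hw
        exact hp.out.ne_one hw.symm
      have hwp : ((w : H) : G) ^ p = 1 := by
        rw [← SubmonoidClass.coe_pow, hexp _ w.2]; rfl
      have hle : W.map H.subtype ≤ zpowers ((w : H) : G) := by
        rintro _ ⟨z, hz, rfl⟩
        refine h _ _ hwp hw1 ?_
        show ((z : H) : G) ^ p = 1
        rw [← SubmonoidClass.coe_pow, hexp _ hz]; rfl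
      have h2 := card_le_of_le hle
      rw [card_map_of_injective H.subtype_injective, hcard, Nat.card_zpowers, Subgroup.orderOf_coe,
        Subgroup.orderOf_coe, hw] at h2
      nlinarith [hp.out.two_le]

/-- A noncyclic `p`-group, `p` odd, has a normal elementary abelian subgroup of order `p²`. -/
theorem exists_normal_elementary_card_sq (hp2 : p ≠ 2) (hG : IsPGroup p G) (hnc : ¬ IsCyclic G) :
    ∃ A : Subgroup G, A.Normal ∧ IsElementaryAbelian p A ∧ Nat.card A = p ^ 2 := by
  obtain ⟨A, hAn, hA, hAe, hmax⟩ := exists_maximal_normal_elementary (G := G) (p := p)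
  by_cases hcard : p ^ 2 ≤ Nat.card A
  · obtain ⟨B, hBn, hBA, hBc, -⟩ := exists_normal_card hG A 2 hcard
    exact ⟨B, hBn, ⟨⟨⟨fun a b => Subtype.ext (congrArg Subtype.val
      (hA.is_comm.comm ⟨a, hBA a.2⟩ ⟨b, hBA b.2⟩) :)⟩⟩, fun b hb => by
        simpa using hAe b (hBA hb)⟩, hBc⟩
  exfalso
  refine hnc (isCyclic_of_unique_order_p hp2 hG fun x y hx hx1 hy => ?_)
  obtain ⟨k, hk⟩ := IsPGroup.iff_card.mp (hG.to_subgroup A)
  have hk1 : k ≤ 1 := by
    by_contra hc
    exact hcard (hk ▸ Nat.pow_le_pow_right hp.out.pos (by omega))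
  have hAp : Nat.card A ≤ p := hk ▸ (Nat.pow_le_pow_right hp.out.pos hk1).trans (pow_one p).le
  have hAc : A ≤ Subgroup.center G := by
    rcases (by omega : k = 0 ∨ k = 1) with rfl | rfl
    · have hb : A = ⊥ := card_eq_one.mp (by simpa using hk)
      rw [hb]; exact bot_le
    · exact CfsgLib.PGroups.le_center_of_card_prime hG (by simpa using hk)
  have hall : ∀ z : G, z ^ p = 1 → z ∈ A := fun z hz =>
    mem_of_maximal_elementary hp2 hG hA hAe hmax (mem_centralizer_iff.mpr fun a ha =>
      (Subgroup.mem_center_iff.mp (hAc ha) z).symm) hz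
  have hxA : zpowers x ≤ A := zpowers_le.mpr (hall x hx)
  rw [eq_of_le_of_card_ge hxA (by rw [Nat.card_zpowers, orderOf_eq_prime hx hx1]; exact hAp)]
  exact hall y hy

/-- Without a normal elementary subgroup of order `p³` the rank is at most two (`p` odd). -/
theorem card_le_sq_of_no_normal_cube (hp2 : p ≠ 2) (hG : IsPGroup p G)
    (h : ∀ A : Subgroup G, A.Normal → IsMulCommutative A → (∀ a ∈ A, a ^ p = 1) →
      Nat.card A ≠ p ^ 3)
    (E : Subgroup G) (hE : IsMulCommutative E) (hEe : ∀ e ∈ E, e ^ p = 1) :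
    Nat.card E ≤ p ^ 2 := by
  obtain ⟨A, hAn, hA, hAe, hmax⟩ := exists_maximal_normal_elementary (G := G) (p := p)
  obtain ⟨k, hk⟩ := IsPGroup.iff_card.mp (hG.to_subgroup A)
  have hk2 : k ≤ 2 := by
    by_contra hc
    obtain ⟨B, hBn, hBA, hBc, -⟩ :=
      exists_normal_card hG A 3 (hk ▸ Nat.pow_le_pow_right hp.out.pos (by omega))
    exact h B hBn ⟨⟨fun a b => Subtype.ext (congrArg Subtype.val
      (hA.is_comm.comm ⟨a, hBA a.2⟩ ⟨b, hBA b.2⟩) :)⟩⟩ (fun b hb => by simpa using hAe b (hBA hb)) hBc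
  obtain ⟨B, hBn, hBA, hBc, hBi⟩ := exists_normal_card hG A k hk.ge
  rw [eq_of_le_of_card_ge hBA (by omega)] at hBi
  set C := Subgroup.centralizer (A : Set G)
  have hEC : E ⊓ C ≤ A := fun x hx =>
    mem_of_maximal_elementary hp2 hG hA hAe hmax hx.2 (hEe x hx.1)
  by_cases hAE : A ≤ E
  · have : E ≤ A := fun x hx => hEC ⟨hx, mem_centralizer_iff.mpr fun a ha =>
      congrArg Subtype.val (hE.is_comm.comm ⟨a, hAE ha⟩ ⟨x, hx⟩)⟩
    exact (card_le_of_le this).trans (hk ▸ Nat.pow_le_pow_right hp.out.pos hk2)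
  have hlt : E ⊓ C < A := lt_of_le_of_ne hEC fun he => hAE (he ▸ inf_le_left)
  have h1 : p * Nat.card (E ⊓ C : Subgroup G) ≤ Nat.card A :=
    CfsgLib.PGroups.mul_card_le_of_lt (hG.to_subgroup A) hlt
  have h2 : (C.relIndex E) ≤ p ^ (k * (k - 1) / 2) :=
    le_trans (Nat.le_of_dvd (Nat.pos_of_ne_zero index_ne_zero_of_finite)
      (relIndex_dvd_index_of_normal C E)) hBi
  have h3 : Nat.card (E ⊓ C : Subgroup G) * C.relIndex E = Nat.card E := by
    have := (C.subgroupOf E).card_mul_index
    rwa [← Nat.card_congr (subgroupOfEquivOfLe (inf_le_left : E ⊓ C ≤ E)).toEquiv,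
      inf_subgroupOf_left]
  rw [hk] at h1
  have hpp : p ^ (k * (k - 1) / 2) ≤ p := by
    have : k * (k - 1) / 2 ≤ 1 := by
      rcases (by omega : k = 0 ∨ k = 1 ∨ k = 2) with rfl | rfl | rfl <;> norm_num
    exact (Nat.pow_le_pow_right hp.out.pos this).trans (pow_one p).le
  have hA2 : p ^ k ≤ p ^ 2 := Nat.pow_le_pow_right hp.out.pos hk2
  calc Nat.card E = Nat.card (E ⊓ C : Subgroup G) * C.relIndex E := h3.symm
    _ ≤ Nat.card (E ⊓ C : Subgroup G) * p := Nat.mul_le_mul_left _ (h2.trans hpp)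
    _ ≤ p ^ k := by rw [mul_comm]; exact h1
    _ ≤ p ^ 2 := hA2

/-- For `p > 3` and rank at most two, `Ω₁` has exponent `p`. -/
theorem pow_eq_one_of_rank_two (hp3 : 3 < p) (hG : IsPGroup p G)
    (hrk : ∀ E : Subgroup G, IsElementaryAbelian p E → Nat.card E ≤ p ^ 2) {g : G}
    (hg : g ∈ Subgroup.closure {x : G | x ^ p = 1}) : g ^ p = 1 := by
  suffices key : ∀ n : ℕ, ∀ H : Subgroup G, Nat.card H ≤ n → ∀ x y : H,
      x ^ p = 1 → y ^ p = 1 → (x * y) ^ p = 1 by
    induction hg using Subgroup.closure_induction with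
    | mem x hx => exact hx
    | one => exact one_pow p
    | mul a b _ _ ha hb =>
        have := key _ ⊤ le_rfl ⟨a, mem_top a⟩ ⟨b, mem_top b⟩ (Subtype.ext ha) (Subtype.ext hb)
        exact congrArg Subtype.val this
    | inv a _ ha => rw [inv_pow, ha, inv_one]
  intro n
  induction n with
  | zero => exact fun H hH => absurd hH (Nat.card_pos (α := H)).not_ge
  | succ n ih =>
      intro H hH x y hx hy
      have hHp := hG.to_subgroup H
      -- proper subgroups
      have hsub : ∀ S : Subgroup H, S ≠ ⊤ → ∀ u ∈ S, ∀ v ∈ S, u ^ p = 1 → v ^ p = 1 →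
          (u * v) ^ p = 1 := by
        intro S hS u hu v hv hup hvp
        have hlt : Nat.card (S.map H.subtype) < Nat.card H := by
          refine card_lt_of_lt (lt_of_le_of_ne (map_subtype_le _) fun he => hS ?_)
          exact Subgroup.map_injective H.subtype_injective
            (by rw [← MonoidHom.range_eq_map, range_subtype]; exact he)
        have h1 := ih (S.map H.subtype) (by omega) ⟨u, u, hu, rfl⟩ ⟨v, v, hv, rfl⟩
          (Subtype.ext (congrArg Subtype.val hup :)) (Subtype.ext (congrArg Subtype.val hvp :))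
        exact Subtype.ext (congrArg Subtype.val h1 :)
      by_cases hgen : Subgroup.closure {x, y} = ⊤
      swap
      · exact hsub _ hgen x (subset_closure (by simp)) y (subset_closure (by simp)) hx hy
      by_cases hcyc : IsCyclic H
      · let _ := IsCyclic.commGroup (α := H)
        rw [mul_pow, hx, hy, one_mul]
      obtain ⟨W, hWn, ⟨hWa, hWe⟩, hWc⟩ :=
        exists_normal_elementary_card_sq (by omega : p ≠ 2) hHp hcyc
      have hrkH : ∀ E : Subgroup H, IsElementaryAbelian p E → Nat.card E ≤ p ^ 2 := by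
        intro E hE
        rw [← card_map_of_injective (K := E) H.subtype_injective]
        refine hrk _ ⟨?_, ?_⟩
        · have := hE.1; exact Subgroup.map_isMulCommutative E _
        · rintro _ ⟨e, he, rfl⟩
          rw [← map_pow, hE.2 e he, map_one]
      set T := Subgroup.centralizer (W : Set H)
      have hTn : T.Normal := inferInstance
      have hTW : ∀ t ∈ T, t ^ p = 1 → t ∈ W := fun t ht htp =>
        mem_of_elementary_bound hWa hWe hrkH hWc.ge ht htp
      -- the index of `T` is at most `p`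
      obtain ⟨B, -, hBW, hBc, hBi⟩ := exists_normal_card hHp W 2 hWc.ge
      rw [eq_of_le_of_card_ge hBW (by omega)] at hBi
      have hcT : _root_.commutator H ≤ T := by
        refine Subgroup.Normal.quotient_commutative_iff_commutator_le.mp ?_
        have hcardq : Nat.card (H ⧸ T) ∣ p := by
          obtain ⟨j, hj⟩ := IsPGroup.iff_card.mp (hHp.to_quotient T)
          rw [hj]
          have h1 : p ^ j ≤ p ^ (2 * (2 - 1) / 2) := by
            rw [← hj, ← index_eq_card]; exact hBi
          have h2 := (Nat.pow_le_pow_iff_right hp.out.one_lt).mp h1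
          rcases (by norm_num at h2; omega : j = 0 ∨ j = 1) with rfl | rfl <;> simp
        rcases (Nat.dvd_prime hp.out).mp hcardq with h1 | h1
        · have := (Nat.card_eq_one_iff_unique.mp h1).1
          exact ⟨⟨fun a b => Subsingleton.elim _ _⟩⟩
        · have := isCyclic_of_prime_card h1
          exact ⟨⟨IsCyclic.commGroup.mul_comm⟩⟩
      -- the commutator lies in `W`
      obtain ⟨M, hM, hxM⟩ : ∃ M : Subgroup H, IsCoatom M ∧ x ∈ M := by
        rcases eq_top_or_exists_le_coatom (zpowers x) with h | ⟨M, hM, hle⟩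
        · exact absurd ⟨⟨x, fun z => (by rw [h]; exact mem_top z : z ∈ zpowers x)⟩⟩ hcyc
        · exact ⟨M, hM, hle (mem_zpowers x)⟩
      have hMn : M.Normal := CfsgLib.PGroups.normal_of_isCoatom' hHp hM
      have hcW : ⁅x⁻¹, y⁻¹⁆ ∈ W := by
        refine hTW _ (hcT (commutator_mem_commutator (mem_top _) (mem_top _))) ?_
        rw [show ⁅x⁻¹, y⁻¹⁆ = x⁻¹ * (y⁻¹ * x * y) by rw [commutatorElement_def]; group]
        refine hsub M hM.1 _ (inv_mem hxM) _ ?_ (by rw [inv_pow, hx, inv_one]) ?_
        · simpa using hMn.conj_mem x hxM y⁻¹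
        · have := conj_pow (i := p) (a := y⁻¹) (b := x)
          rw [inv_inv] at this
          rw [this, hx, mul_one, inv_mul_cancel]
      have hderW : _root_.commutator H ≤ W := by
        refine Subgroup.Normal.quotient_commutative_iff_commutator_le.mp ⟨⟨fun a b => ?_⟩⟩
        set π := QuotientGroup.mk' W
        have hπxy : Commute (π x) (π y) := by
          have h1 : π ⁅x⁻¹, y⁻¹⁆ = 1 := (QuotientGroup.eq_one_iff _).mpr hcW
          rw [map_commutatorElement, commutatorElement_eq_one_iff_mul_comm, map_inv, map_inv] at h1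
          exact Commute.inv_inv_iff.mp h1
        have hpair : ∀ u ∈ ({x, y} : Set H), ∀ v ∈ ({x, y} : Set H), Commute (π u) (π v) := by
          rintro u (rfl | rfl) v (rfl | rfl)
          · exact .refl _
          · exact hπxy
          · exact hπxy.symm
          · exact .refl _
        have hc : ∀ v ∈ ({x, y} : Set H), ∀ z : H, Commute (π z) (π v) := by
          intro v hv z
          have hle : Subgroup.closure {x, y} ≤ (Subgroup.centralizer {π v}).comap π :=
            (closure_le _).mpr fun u hu => by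
              rw [SetLike.mem_coe, mem_comap, mem_centralizer_singleton_iff]
              exact (hpair u hu v hv).eq
          exact mem_centralizer_singleton_iff.mp (hle (hgen ▸ mem_top z))
        obtain ⟨a, rfl⟩ := QuotientGroup.mk_surjective a
        obtain ⟨b, rfl⟩ := QuotientGroup.mk_surjective b
        have hle : Subgroup.closure {x, y} ≤ (Subgroup.centralizer {π a}).comap π :=
          (closure_le _).mpr fun u hu => by
            rw [SetLike.mem_coe, mem_comap, mem_centralizer_singleton_iff]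
            exact (hc u hu a).symm.eq
        exact (mem_centralizer_singleton_iff.mp (hle (hgen ▸ mem_top b))).symm
      -- class at most three
      have hsc : SmallClass p H := by
        refine Or.inr ⟨hp3, ?_⟩
        obtain ⟨Z, hZn, hZW, hZc, -⟩ := exists_normal_card hHp W 1
          (hWc ▸ Nat.pow_le_pow_right hp.out.pos one_le_two)
        rw [pow_one] at hZc
        have hZcen := CfsgLib.PGroups.le_center_of_card_prime hHp hZc
        have hWq : Nat.card (W.map (QuotientGroup.mk' Z)) = p := by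
          have h1 := CfsgLib.Core.card_mul_card_map_mk' Z W hZW
          rw [hZc, hWc, pow_two] at h1
          exact Nat.eq_of_mul_eq_mul_left hp.out.pos h1
        have : (W.map (QuotientGroup.mk' Z)).Normal :=
          Subgroup.Normal.map hWn _ (QuotientGroup.mk'_surjective Z)
        have hWqc := CfsgLib.PGroups.le_center_of_card_prime (hHp.to_quotient Z) hWq
        have h1 : ⁅_root_.commutator H, (⊤ : Subgroup H)⁆ ≤ Z := by
          refine commutator_le.mpr fun a ha b _ => ?_
          refine (QuotientGroup.eq_one_iff _).mp ?_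
          show QuotientGroup.mk' Z ⁅a, b⁆ = 1
          rw [map_commutatorElement, commutatorElement_eq_one_iff_mul_comm]
          exact (Subgroup.mem_center_iff.mp (hWqc (mem_map_of_mem _ (hderW ha))) _).symm
        refine eq_bot_iff.mpr ((commutator_mono h1 le_rfl).trans (commutator_le.mpr fun a ha b _ => ?_))
        rw [Subgroup.mem_bot, commutatorElement_eq_one_iff_mul_comm]
        exact (Subgroup.mem_center_iff.mp (hZcen ha) b).symm
      exact hsc.mul_pow_eq_one hHp hx hy

/-- For odd `p`, an `E_{p^4}` forces a normal `E_{p^4}`. -/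
theorem exists_normal_elementary_card_four (hp2 : p ≠ 2) (hG : IsPGroup p G) (E : Subgroup G)
    (hE : IsElementaryAbelian p E) (hE4 : Nat.card E = p ^ 4) :
    ∃ A : Subgroup G, A.Normal ∧ IsElementaryAbelian p A ∧ Nat.card A = p ^ 4 := by
  obtain ⟨A, hAn, hA, hAe, hmax⟩ := exists_maximal_normal_elementary (G := G) (p := p)
  have hAe' : ∀ a ∈ A, a ^ p = 1 := fun a ha => by simpa using hAe a ha
  have hsubel : ∀ B ≤ A, IsElementaryAbelian p B := fun B hB =>
    ⟨⟨⟨fun a b => Subtype.ext (congrArg Subtype.val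
      (hA.is_comm.comm ⟨a, hB a.2⟩ ⟨b, hB b.2⟩) :)⟩⟩, fun b hb => hAe' b (hB hb)⟩
  obtain ⟨k, hk⟩ := IsPGroup.iff_card.mp (hG.to_subgroup A)
  have hlarge : k ≤ 3 ∨ 4 ≤ k := by omega
  rcases hlarge with hk3 | hk4
  swap
  · obtain ⟨B, hBn, hBA, hBc, -⟩ :=
      exists_normal_card hG A 4 (hk ▸ Nat.pow_le_pow_right hp.out.pos hk4)
    exact ⟨B, hBn, hsubel B hBA, hBc⟩
  have hkeq : k = 3 := by
    by_contra hne
    have := card_le_sq_of_no_normal_cube hp2 hG (fun B h1 h2 h3 hB => by
      have := hmax B h1 h2 (fun b hb => by simpa using h3 b hb)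
      rw [hB, hk] at this
      exact absurd ((Nat.pow_le_pow_iff_right hp.out.one_lt).mp this) (by omega)) E hE.1 hE.2
    rw [hE4] at this
    exact absurd ((Nat.pow_le_pow_iff_right hp.out.one_lt).mp this) (by norm_num)
  subst hkeq
  obtain ⟨B, hBn, hBA, hBc, hBi⟩ :=
    exists_normal_card hG A 2 (hk ▸ Nat.pow_le_pow_right hp.out.pos (by norm_num))
  have hBi' : (Subgroup.centralizer (B : Set G)).index ≤ p := by simpa using hBi
  -- `[G, A] ≤ B`
  have hGA : ∀ g : G, ∀ a ∈ A, ⁅g, a⁆ ∈ B := by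
    intro g a ha
    have hq : Nat.card (A.map (QuotientGroup.mk' B)) = p := by
      have h1 := CfsgLib.Core.card_mul_card_map_mk' B A hBA
      rw [hBc, hk] at h1
      exact Nat.eq_of_mul_eq_mul_left (pow_pos hp.out.pos 2) (h1.trans (pow_succ p 2))
    have : (A.map (QuotientGroup.mk' B)).Normal :=
      Subgroup.Normal.map hAn _ (QuotientGroup.mk'_surjective B)
    have hc := CfsgLib.PGroups.le_center_of_card_prime (hG.to_quotient B) hq
    refine (QuotientGroup.eq_one_iff _).mp ?_
    show QuotientGroup.mk' B ⁅g, a⁆ = 1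
    rw [map_commutatorElement, commutatorElement_eq_one_iff_mul_comm]
    exact Subgroup.mem_center_iff.mp (hc (mem_map_of_mem _ ha)) _
  -- a good subgroup: elementary of order `p^4` through `B`
  obtain ⟨E₀, hB0, h0el, h0c⟩ : ∃ E₀ : Subgroup G,
      B ≤ E₀ ∧ IsElementaryAbelian p E₀ ∧ Nat.card E₀ = p ^ 4 := by
    by_cases hBE : B ≤ E
    · exact ⟨E, hBE, hE, hE4⟩
    set E₁ := E ⊓ Subgroup.centralizer (B : Set G)
    have h3 : p ^ 3 ≤ Nat.card E₁ := by
      have h1 := ((Subgroup.centralizer (B : Set G)).subgroupOf E).card_mul_index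
      rw [← inf_subgroupOf_left, Nat.card_congr (subgroupOfEquivOfLe inf_le_left).toEquiv, hE4] at h1
      have h2 : ((Subgroup.centralizer (B : Set G)).subgroupOf E).index ≤ p :=
        (Nat.le_of_dvd (Nat.pos_of_ne_zero index_ne_zero_of_finite)
          (relIndex_dvd_index_of_normal _ E)).trans hBi'
      rw [← inf_subgroupOf_left] at h2
      refine Nat.le_of_mul_le_mul_right ?_ hp.out.pos
      calc p ^ 3 * p = p ^ 4 := (pow_succ p 3).symm
        _ ≤ _ := h1.ge.trans (Nat.mul_le_mul_left _ h2)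
    have hcomm : E₁ ≤ Subgroup.centralizer (B : Set G) := inf_le_right
    have hEl : IsElementaryAbelian p (E₁ ⊔ B : Subgroup G) := by
      have hBel := hsubel B hBA
      have hform : ∀ z ∈ E₁ ⊔ B, ∃ e ∈ E₁, ∃ b ∈ B, z = e * b := fun z hz => by
        obtain ⟨e, he, b, hb, rfl⟩ := mem_sup_of_normal_right.mp hz
        exact ⟨e, he, b, hb, rfl⟩
      have hc : ∀ e ∈ E₁, ∀ b ∈ B, Commute b e := fun e he b hb =>
        mem_centralizer_iff.mp (hcomm he) b hb
      refine ⟨⟨⟨fun u v => Subtype.ext ?_⟩⟩, fun z hz => ?_⟩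
      · obtain ⟨e, he, b, hb, hu⟩ := hform u u.2
        obtain ⟨f, hf, d, hd, hv⟩ := hform v v.2
        show (u : G) * v = v * u
        rw [hu, hv]
        have h1 : Commute e f :=
          congrArg Subtype.val (hE.1.is_comm.comm ⟨e, he.1⟩ ⟨f, hf.1⟩)
        have h2 : Commute b d := congrArg Subtype.val (hBel.1.is_comm.comm ⟨b, hb⟩ ⟨d, hd⟩)
        exact ((h1.mul_right (hc e he d hd).symm).mul_left ((hc f hf b hb).mul_right h2)).eq
      · obtain ⟨e, he, b, hb, rfl⟩ := hform z hz
        rw [(hc e he b hb).symm.mul_pow, hE.2 e he.1, hBel.2 b hb, one_mul]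
    have hcard : p ^ 4 ≤ Nat.card (E₁ ⊔ B : Subgroup G) := by
      have h1 := CfsgLib.Core.card_sup_mul_card_inf E₁ B (by
        rw [Subgroup.normalizer_eq_top]; exact le_top)
      have h2 : E₁ ⊓ B < B := lt_of_le_of_ne inf_le_right fun h =>
        hBE (h ▸ inf_le_left.trans inf_le_left)
      have h4 := CfsgLib.PGroups.mul_card_le_of_lt (hG.to_subgroup B) h2
      rw [hBc] at h1 h4
      have h5 : Nat.card (E₁ ⊓ B : Subgroup G) ≤ p := by
        refine Nat.le_of_mul_le_mul_left ?_ hp.out.pos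
        calc p * _ ≤ p ^ 2 := h4
          _ = p * p := pow_two p
      refine Nat.le_of_mul_le_mul_right ?_ hp.out.pos
      calc p ^ 4 * p = p ^ 3 * p ^ 2 := by ring
        _ ≤ Nat.card E₁ * p ^ 2 := Nat.mul_le_mul_right _ h3
        _ = _ := h1.symm
        _ ≤ _ := Nat.mul_le_mul_left _ h5
    obtain ⟨j, hj⟩ := IsPGroup.iff_card.mp (hG.to_subgroup (E₁ ⊔ B : Subgroup G))
    have hj4 : 4 ≤ j := (Nat.pow_le_pow_iff_right hp.out.one_lt).mp (hj ▸ hcard)
    obtain ⟨S, hS, hBS⟩ := Sylow.exists_subgroup_card_pow_prime_le p (hj ▸ pow_dvd_pow p hj4)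
      (B.subgroupOf (E₁ ⊔ B)) (by rw [Nat.card_congr (subgroupOfEquivOfLe le_sup_right).toEquiv, hBc])
      (by norm_num : 2 ≤ 4)
    refine ⟨S.map (E₁ ⊔ B).subtype, fun b hb =>
      ⟨⟨b, mem_sup_right hb⟩, hBS (mem_subgroupOf.mpr hb), rfl⟩, ⟨?_, ?_⟩, ?_⟩
    · have := hEl.1; infer_instance
    · rintro _ ⟨z, -, rfl⟩; exact hEl.2 z z.2
    · rw [card_map_of_injective (E₁ ⊔ B).subtype_injective, hS]
  -- properties of good subgroups
  obtain ⟨a, haA, haB⟩ : ∃ a ∈ A, a ∉ B := SetLike.exists_of_lt (lt_of_le_of_ne hBA fun h => by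
    rw [h, hk] at hBc
    exact absurd (Nat.pow_right_injective hp.out.two_le hBc) (by norm_num))
  have hAgen : A = B ⊔ zpowers a := by
    refine (eq_of_le_of_card_ge (sup_le hBA (zpowers_le.mpr haA)) ?_).symm
    have hlt : B < B ⊔ zpowers a :=
      lt_of_le_of_ne le_sup_left fun h => haB (h ▸ mem_sup_right (mem_zpowers a))
    have := CfsgLib.PGroups.mul_card_le_of_lt (hG.to_subgroup _) hlt
    rw [hBc] at this
    rw [hk, pow_succ']
    exact this
  let Good : Subgroup G → Prop := fun F => B ≤ F ∧ IsElementaryAbelian p F ∧ Nat.card F = p ^ 4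
  have hcentA : ∀ x : G, (∀ b ∈ B, b * x = x * b) → Commute a x →
      x ∈ Subgroup.centralizer (A : Set G) := by
    intro x hb hax
    have hle : A ≤ Subgroup.centralizer {x} := by
      rw [hAgen]
      exact sup_le (fun b hb' => mem_centralizer_singleton_iff.mpr (hb b hb'))
        (zpowers_le.mpr (mem_centralizer_singleton_iff.mpr hax.eq))
    exact mem_centralizer_iff.mpr fun c hc => mem_centralizer_singleton_iff.mp (hle hc)
  have hFB : ∀ F, Good F → ∀ f ∈ F, ∀ b ∈ B, b * f = f * b := fun F hF f hf b hb =>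
    congrArg Subtype.val (hF.2.1.1.is_comm.comm ⟨b, hF.1 hb⟩ ⟨f, hf⟩)
  have hFA : ∀ F, Good F → F ⊓ A = B := by
    intro F hF
    refine le_antisymm ?_ (le_inf hF.1 hBA)
    intro x hx
    by_contra hxB
    have hAF : A ≤ F := by
      have hlt : B < F ⊓ A := lt_of_le_of_ne (le_inf hF.1 hBA) fun h => hxB (h ▸ hx)
      have := CfsgLib.PGroups.mul_card_le_of_lt (hG.to_subgroup _) hlt
      rw [hBc, ← pow_succ'] at this
      exact (eq_of_le_of_card_ge inf_le_right (hk ▸ this)).ge.trans inf_le_left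
    have hFA' : F ≤ A := fun f hf => mem_of_maximal_elementary hp2 hG hA hAe hmax
      (mem_centralizer_iff.mpr fun c hc =>
        congrArg Subtype.val (hF.2.1.1.is_comm.comm ⟨c, hAF hc⟩ ⟨f, hf⟩)) (hF.2.1.2 f hf)
    have h1 := card_le_of_le hFA'
    rw [hF.2.2, hk] at h1
    exact absurd ((Nat.pow_le_pow_iff_right hp.out.one_lt).mp h1) (by norm_num)
  have hmatch : ∀ F, Good F → ∀ x : G, (∀ b ∈ B, b * x = x * b) →
      ∃ f ∈ F, f⁻¹ * x ∈ Subgroup.centralizer (A : Set G) := by
    intro F hF x hx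
    let φ : F →* B :=
      { toFun := fun f => ⟨⁅(f : G), a⁆, hGA f a haA⟩
        map_one' := Subtype.ext (commutatorElement_one_left a)
        map_mul' := fun f g => Subtype.ext (by
          show ⁅(f : G) * g, a⁆ = ⁅(f : G), a⁆ * ⁅(g : G), a⁆
          have h1 := hFB F hF f f.2 _ (hGA g a haA)
          have h2 : ⁅(f : G) * g, a⁆ = (f : G) * ⁅(g : G), a⁆ * (f : G)⁻¹ * ⁅(f : G), a⁆ := by
            simp only [commutatorElement_def]; group
          rw [h2, ← h1, mul_inv_cancel_right]
          exact congrArg Subtype.val ((hsubel B hBA).1.is_comm.comm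
            ⟨_, hGA g a haA⟩ ⟨_, hGA f a haA⟩)) }
    have hker : φ.ker = B.subgroupOf F := by
      ext f
      rw [MonoidHom.mem_ker, mem_subgroupOf]
      constructor
      · intro h
        have h' : Commute (f : G) a :=
          commutatorElement_eq_one_iff_mul_comm.mp (congrArg Subtype.val h)
        exact (hFA F hF).le ⟨f.2, mem_of_maximal_elementary hp2 hG hA hAe hmax
          (hcentA f (fun b hb => hFB F hF f f.2 b hb) h'.symm) (hF.2.1.2 f f.2)⟩
      · intro h
        exact Subtype.ext (commutatorElement_eq_one_iff_mul_comm.mpr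
          (congrArg Subtype.val (hA.is_comm.comm ⟨f, hBA h⟩ ⟨a, haA⟩)))
    have hsurj : φ.range = ⊤ := by
      refine eq_top_of_card_eq _ ?_
      have h1 := φ.ker.card_mul_index
      rw [index_ker, hker, Nat.card_congr (subgroupOfEquivOfLe hF.1).toEquiv, hBc, hF.2.2] at h1
      rw [hBc]
      exact Nat.eq_of_mul_eq_mul_left (pow_pos hp.out.pos 2) (h1.trans (pow_add p 2 2))
    obtain ⟨f, hf⟩ := hsurj.ge (mem_top (⟨⁅x, a⁆, hGA x a haA⟩ : B))
    refine ⟨f, f.2, hcentA _ (fun b hb => ?_) ?_⟩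
    · have h1 : Commute b (f : G) := hFB F hF f f.2 b hb
      exact (h1.inv_right.mul_right (show Commute b x from hx b hb)).eq
    · have h1 : ⁅(f : G), a⁆ = ⁅x, a⁆ := congrArg Subtype.val hf
      rw [commutatorElement_def, commutatorElement_def] at h1
      have h2 := mul_right_cancel h1
      show a * ((f : G)⁻¹ * x) = (f : G)⁻¹ * x * a
      calc a * ((f : G)⁻¹ * x) = (f : G)⁻¹ * ((f : G) * a * (f : G)⁻¹) * x := by group
        _ = (f : G)⁻¹ * (x * a * x⁻¹) * x := by rw [h2]
        _ = (f : G)⁻¹ * x * a := by group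
  refine ⟨E₀, ?_, h0el, h0c⟩
  by_contra hnn
  set N := Subgroup.normalizer (E₀ : Set G)
  have hNtop : N < ⊤ := lt_top_iff_ne_top.mpr fun h => hnn (normalizer_eq_top_iff.mp h)
  obtain ⟨g, hgN, hgn⟩ := SetLike.exists_of_lt (lt_inf_normalizer (p := p)
    (hG.to_subgroup ⊤) hNtop)
  have hgN' := (mem_inf.mp hgN).2
  set E' := E₀.map (MulAut.conj g).toMonoidHom
  have h0 : Good E₀ := ⟨hB0, h0el, h0c⟩
  have h' : Good E' := by
    refine ⟨fun b hb => mem_map_conj.mpr (hB0 ?_), ⟨?_, ?_⟩, (card_map_conj g E₀).trans h0c⟩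
    · simpa using hBn.conj_mem b hb g⁻¹
    · have := h0el.1; infer_instance
    · rintro _ ⟨z, hz, rfl⟩
      rw [← map_pow, h0el.2 z hz, map_one]
  have hE'N : E' ≤ N := by
    rintro _ ⟨z, hz, rfl⟩
    exact (mem_normalizer_iff.mp hgN' z).mp (le_normalizer hz)
  have hNE' : N ≤ Subgroup.normalizer (E' : Set G) := by
    intro n hn
    rw [normalizer_map_conj, mem_map_conj]
    exact (mem_normalizer_iff''.mp hgN' n).mp hn
  have hE0N' : E₀ ≤ Subgroup.normalizer (E' : Set G) := le_normalizer.trans hNE'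
  set T := E₀ ⊔ A
  have hT : E' ≤ T := by
    intro y hy
    obtain ⟨e, he, hec⟩ := hmatch E₀ h0 y (hFB E' h' y hy)
    refine (by group : y = e * (e⁻¹ * y)) ▸ mul_mem (mem_sup_left he) (mem_sup_right ?_)
    refine mem_of_maximal_elementary hp2 hG hA hAe hmax hec ?_
    set c := ⁅y⁻¹, e⁆
    have hc1 : c ∈ E' := by
      have := mul_mem (inv_mem hy) ((mem_normalizer_iff.mp (hE0N' he) y).mp hy)
      simpa [c, commutatorElement_def, mul_assoc] using this
    have hc2 : c ∈ E₀ := by
      have := mul_mem ((mem_normalizer_iff''.mp (hE'N hy) e).mp he) (inv_mem he)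
      simpa [c, commutatorElement_def, mul_assoc] using this
    have hcy : Commute c y := congrArg Subtype.val (h'.2.1.1.is_comm.comm ⟨c, hc1⟩ ⟨y, hy⟩)
    have hce : Commute c e := congrArg Subtype.val (h0el.1.is_comm.comm ⟨c, hc2⟩ ⟨e, he⟩)
    set c' := (e⁻¹ * y)⁻¹ * (y * e⁻¹) with hc'
    have hc'E : c' = y⁻¹ * e * y * e⁻¹ := by rw [hc']; group
    have hcc : c' = c := by rw [hc'E]; simp [c, commutatorElement_def, mul_assoc]
    have hrel : y * e⁻¹ = e⁻¹ * y * c := by rw [← hcc, hc', mul_inv_cancel_left]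
    have h := mul_pow_of_class_three hrel (d₁ := 1) (d₂ := 1)
      (by rw [mul_one]; exact hce.inv_right.eq) (by rw [mul_one]; exact hcy.eq)
      (.one_left _) (.one_left _) (.one_left _) (.one_left _) p
    have hchoose : p ∣ p.choose 2 := hp.out.dvd_choose_self (by norm_num) (by
      have := hp.out.two_le; omega)
    obtain ⟨m, hm⟩ := hchoose
    rw [h, inv_pow, h0el.2 e he, h'.2.1.2 y hy, hm, pow_mul, h0el.2 c hc2]
    simp
  -- a common element outside `B` commutes with `A`
  have hAn' : E₀ ≤ Subgroup.normalizer (A : Set G) := by rw [normalizer_eq_top]; exact le_top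
  have hTc : E₀.relIndex T ≤ p := by
    have h1 := CfsgLib.Core.card_sup_mul_card_inf E₀ A hAn'
    have h2 := (E₀.subgroupOf T).card_mul_index
    rw [Nat.card_congr (subgroupOfEquivOfLe le_sup_left).toEquiv, h0c] at h2
    rw [hFA E₀ h0, hBc, h0c, hk, ← h2] at h1
    have h3 : E₀.relIndex T * p ^ 2 = p * p ^ 2 :=
      Nat.eq_of_mul_eq_mul_left (pow_pos hp.out.pos 4)
        (by show _ = _; rw [Subgroup.relIndex, ← mul_assoc, h1]; ring)
    exact (Nat.eq_of_mul_eq_mul_right (pow_pos hp.out.pos 2) h3).le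
  have hne : E' ≠ E₀ := fun h => hgn (map_conj_eq_self_iff.mp h)
  obtain ⟨y, hy, hy0⟩ := SetLike.exists_of_lt (lt_of_le_of_ne
    (inf_le_left : E' ⊓ E₀ ≤ E') fun h => hne (eq_of_le_of_card_ge (h ▸ inf_le_right)
      (by rw [h0c, h'.2.2])))
  obtain ⟨e, he, b, hb, hyeb⟩ := mem_sup_of_normal_right.mp (hT hy)
  have hbB : b ∉ B := fun h => hy0 ⟨hy, hyeb ▸ mul_mem he (hB0 h)⟩
  have hsmall : ¬ E' ⊓ E₀ ≤ B := by
    intro hle
    have h1 := (E₀.subgroupOf E').card_mul_index
    rw [← inf_subgroupOf_left, Nat.card_congr (subgroupOfEquivOfLe inf_le_left).toEquiv,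
      inf_subgroupOf_left, h'.2.2] at h1
    have h2 : (E₀.subgroupOf E').index ≤ p :=
      (relIndex_le_of_le_right hT Subgroup.index_ne_zero_of_finite).trans hTc
    have h3 := card_le_of_le hle
    rw [hBc] at h3
    have h4 : p ^ 4 ≤ p ^ 3 := h1 ▸ (Nat.mul_le_mul h3 h2).trans (pow_succ p 2).ge
    exact absurd ((Nat.pow_le_pow_iff_right hp.out.one_lt).mp h4) (by norm_num)
  obtain ⟨f, hf, hfB⟩ := SetLike.not_le_iff_exists.mp hsmall
  have hfe : Commute f e := congrArg Subtype.val (h0el.1.is_comm.comm ⟨f, hf.2⟩ ⟨e, he⟩)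
  have hfy : Commute f y := congrArg Subtype.val (h'.2.1.1.is_comm.comm ⟨f, hf.1⟩ ⟨y, hy⟩)
  have hfb : Commute f b := by
    rw [show b = e⁻¹ * y by rw [← hyeb, inv_mul_cancel_left]]
    exact hfe.inv_right.mul_right hfy
  refine hfB ((hFA E₀ h0).le ⟨hf.2, mem_of_maximal_elementary hp2 hG hA hAe hmax ?_ (h0el.2 f hf.2)⟩)
  refine mem_centralizer_iff.mpr fun c hc => ?_
  have hAb : A = B ⊔ zpowers b := by
    refine (eq_of_le_of_card_ge (sup_le hBA (zpowers_le.mpr hb)) ?_).symm
    have hlt : B < B ⊔ zpowers b :=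
      lt_of_le_of_ne le_sup_left fun h => hbB (h ▸ mem_sup_right (mem_zpowers b))
    have := CfsgLib.PGroups.mul_card_le_of_lt (hG.to_subgroup _) hlt
    rw [hBc] at this
    rw [hk, pow_succ']
    exact this
  have hle : A ≤ Subgroup.centralizer {f} := by
    rw [hAb]
    exact sup_le (fun d hd => mem_centralizer_singleton_iff.mpr (hFB E₀ h0 f hf.2 d hd))
      (zpowers_le.mpr (mem_centralizer_singleton_iff.mpr hfb.symm.eq))
  exact mem_centralizer_singleton_iff.mp (hle hc)

end CfsgLib.Transfer
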