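import Cfsg.Prelude.Def_Transfer
import Cfsg.Agent.Lib.PGroups.Basic
import Cfsg.Agent.Lib.PGroups.ClassTwo

/-!
# Coprime automorphisms of `p`-groups

Faithfulness on a self-centralizing subgroup and on `Ω₁` (`p` odd); groups all of whose characteristic
abelian subgroups are centralized are special.
-/

namespace CfsgLib.Transfer

open Cfsg Subgroup
open scoped commutatorElement

variable {G : Type*} [Group G] {p : ℕ}

theorem eq_one_of_pow_coprime (hG : IsPGroup p G) {z : G} {m : ℕ} (hm : Nat.Coprime m p)
    (h : z ^ m = 1) : z = 1 := by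
  obtain ⟨k, hk⟩ := isPGroup_iff_orderOf_dvd_pow.mp hG z
  exact orderOf_eq_one_iff.mp
    (Nat.eq_one_of_dvd_coprimes (hm.pow_right k) (orderOf_dvd_of_pow_eq_one h) hk)

/-- If `x⁻¹ a(x)` is fixed by an automorphism `a` of coprime order, then so is `x`. -/
theorem eq_of_fixed_diff (hG : IsPGroup p G) (a : MulAut G) {m : ℕ} (hm : Nat.Coprime m p)
    (ha : a ^ m = 1) {x : G} (h : a (x⁻¹ * a x) = x⁻¹ * a x) : a x = x := by
  set z := x⁻¹ * a x with hz
  have hax : a x = x * z := by rw [hz, mul_inv_cancel_left]
  have hk : ∀ n : ℕ, (a ^ n) x = x * z ^ n := by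
    intro n
    induction n with
    | zero => simp
    | succ n ih =>
        rw [pow_succ', MulAut.mul_apply, ih, map_mul, hax, map_pow, h, mul_assoc, ← pow_succ']
  have h1 := hk m
  rw [ha, MulAut.one_apply] at h1
  have h2 : z = 1 := eq_one_of_pow_coprime hG hm (mul_eq_left.mp h1.symm)
  rw [hax, h2, mul_one]

/-- A fixed normal subgroup is centralized by every `x⁻¹ a(x)`. -/
theorem mem_centralizer_of_fixed_normal (a : MulAut G) {N : Subgroup G} [hN : N.Normal]
    (hfix : ∀ n ∈ N, a n = n) (x : G) : x⁻¹ * a x ∈ Subgroup.centralizer (N : Set G) := by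
  rw [mem_centralizer_iff]
  intro n hn
  have h1 : a x * n * (a x)⁻¹ = x * n * x⁻¹ := by
    conv_lhs => rw [← hfix n hn, ← map_inv, ← map_mul, ← map_mul]
    exact hfix _ (hN.conj_mem n hn x)
  calc n * (x⁻¹ * a x) = x⁻¹ * (x * n * x⁻¹) * a x := by group
    _ = x⁻¹ * (a x * n * (a x)⁻¹) * a x := by rw [h1]
    _ = x⁻¹ * a x * n := by group

/-- A coprime automorphism fixing a self-centralizing normal subgroup is trivial. -/
theorem eq_one_of_fixes_centralizer_le (hG : IsPGroup p G) (a : MulAut G) {m : ℕ}
    (hm : Nat.Coprime m p) (ha : a ^ m = 1) {H : Subgroup G} [H.Normal]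
    (hC : Subgroup.centralizer (H : Set G) ≤ H) (hfix : ∀ x ∈ H, a x = x) : a = 1 :=
  MulEquiv.ext fun x => eq_of_fixed_diff hG a hm ha
    (hfix _ (hC (mem_centralizer_of_fixed_normal a hfix x)))

variable [Finite G] [hp : Fact p.Prime]

/-- For odd `p` a coprime automorphism fixing all elements of order `p` is trivial. -/
theorem eq_one_of_fixes_order_p.{u} {p : ℕ} [Fact p.Prime] (hp2 : p ≠ 2) :
    ∀ (n : ℕ) (G : Type u) [Group G] [Finite G], Nat.card G ≤ n → IsPGroup p G →
      ∀ (a : MulAut G) (m : ℕ), Nat.Coprime m p → a ^ m = 1 →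
        (∀ x : G, x ^ p = 1 → a x = x) → a = 1 := by
  intro n
  induction n with
  | zero => exact fun G _ _ hc => absurd hc (Nat.card_pos (α := G)).not_ge
  | succ n ih =>
      intro G _ _ hc hG a m hm ha hfix
      -- invariant proper subgroups are fixed
      have hsub : ∀ K : Subgroup G, K ≠ ⊤ → K.map a.toMonoidHom = K → ∀ x ∈ K, a x = x := by
        intro K hK hKa x hx
        let b : MulAut K := ((a : G ≃* G).subgroupMap K).trans (MulEquiv.subgroupCongr hKa)
        have hb : ∀ y : K, ((b y : K) : G) = a y := fun y => rfl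
        have hbk : ∀ (k : ℕ) (y : K), (((b ^ k) y : K) : G) = (a ^ k) y := by
          intro k
          induction k with
          | zero => intro y; simp
          | succ k ihk => intro y; rw [pow_succ', pow_succ', MulAut.mul_apply, MulAut.mul_apply, hb, ihk]
        have hbm : b ^ m = 1 := MulEquiv.ext fun y => Subtype.ext (by rw [hbk, ha]; rfl)
        have hlt : Nat.card K < Nat.card G :=
          lt_of_le_of_ne (Subgroup.card_le_card_group K) fun h => hK (eq_top_of_card_eq K h)
        have h1 := ih K (by omega) (hG.to_subgroup K) b m hm hbm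
          (fun y hy => Subtype.ext (by rw [hb]; exact hfix _ (by simpa using congrArg Subtype.val hy)))
        have h2 := congrArg Subtype.val (DFunLike.congr_fun h1 (⟨x, hx⟩ : K))
        rw [hb] at h2
        exact h2
      set K : Subgroup G := Subgroup.closure (Set.range fun x => x⁻¹ * a x) with hK
      have hKa : K.map a.toMonoidHom = K := by
        rw [hK, MonoidHom.map_closure]
        congr 1
        ext y
        constructor
        · rintro ⟨_, ⟨x, rfl⟩, rfl⟩; exact ⟨a x, by simp⟩
        · rintro ⟨x, rfl⟩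
          exact ⟨_, ⟨a.symm x, rfl⟩, by simp⟩
      by_cases hKtop : K = ⊤
      · -- every fixed normal subgroup is central
        have hcen : ∀ N : Subgroup G, N.Normal → (∀ y ∈ N, a y = y) → N ≤ Subgroup.center G := by
          intro N _ hN
          have h1 : K ≤ Subgroup.centralizer (N : Set G) := (closure_le _).mpr (by
            rintro _ ⟨x, rfl⟩; exact mem_centralizer_of_fixed_normal a hN x)
          rw [hKtop] at h1
          exact fun y hy => Subgroup.mem_center_iff.mpr fun g =>
            (mem_centralizer_iff.mp (h1 (mem_top g)) y hy).symm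
        rcases subsingleton_or_nontrivial G with hs | hnt
        · exact MulEquiv.ext fun x => Subsingleton.elim _ _
        have hΦa : (frattini G).map a.toMonoidHom = frattini G :=
          characteristic_iff_map_eq.mp frattini_characteristic a
        have hΦfix := hsub _ CfsgLib.PGroups.frattini_ne_top hΦa
        have hΦc := hcen _ inferInstance hΦfix
        have hcomm : ∀ x y : G, ⁅x, y⁆ ∈ Subgroup.center G := fun x y =>
          hΦc (CfsgLib.PGroups.commutator_le_frattini' hG
            (commutator_mem_commutator (mem_top x) (mem_top y)))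
        refine MulEquiv.ext fun x => eq_of_fixed_diff hG a hm ha (hfix _ ?_)
        have hc1 : ⁅a x, x⁻¹⁆ ^ p = 1 := by
          rw [← CfsgLib.PGroups.comm_pow_left_of_central (hcomm _ _),
            commutatorElement_eq_one_iff_mul_comm, ← map_pow]
          exact (Subgroup.mem_center_iff.mp
            (by rw [hΦfix _ (CfsgLib.PGroups.pow_mem_frattini hG x)]
                exact hΦc (CfsgLib.PGroups.pow_mem_frattini hG x)) x⁻¹).symm
        rw [CfsgLib.PGroups.mul_pow_of_central_odd (hcomm _ _)
          ((Fact.out : p.Prime).odd_of_ne_two hp2) hc1, inv_pow, ← map_pow,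
          hΦfix _ (CfsgLib.PGroups.pow_mem_frattini hG x), inv_mul_cancel]
      · have hKfix := hsub K hKtop hKa
        exact MulEquiv.ext fun x =>
          eq_of_fixed_diff hG a hm ha (hKfix _ (subset_closure ⟨x, rfl⟩))

omit hp in
/-- Fixed points of a coprime operator group in an abelian quotient. -/
theorem mem_of_fixed_quotient (hG : IsPGroup p G) (A : Subgroup (MulAut G))
    (hA : Nat.Coprime (Nat.card A) p)
    (hGA : Subgroup.closure {x : G | ∃ g : G, ∃ a ∈ A, x = g⁻¹ * a g} = ⊤) (N : Subgroup G)
    [N.Normal] (hab : _root_.commutator G ≤ N) {g : G}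
    (hg : ∀ a ∈ A, g⁻¹ * a g ∈ N) : g ∈ N := by
  classical
  have : Finite (MulAut G) := Finite.of_injective (fun f => (f : G → G)) DFunLike.coe_injective
  let _ : Fintype A := Fintype.ofFinite _
  let _ : CommGroup (G ⧸ N) :=
    { (inferInstance : Group (G ⧸ N)) with
      mul_comm := (Subgroup.Normal.quotient_commutative_iff_commutator_le.mpr hab).is_comm.comm }
  let e : G →* G ⧸ N := ∏ a : A, (QuotientGroup.mk' N).comp ((a : MulAut G) : G ≃* G).toMonoidHom
  have he : ∀ x : G, e x = ∏ a : A, (((a : MulAut G) x : G) : G ⧸ N) := fun x => by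
    simp [e, MonoidHom.finsetProd_apply]
  have h0 : e = 1 := by
    refine MonoidHom.eq_of_eqOn_dense hGA ?_
    rintro _ ⟨x, b, hb, rfl⟩
    show e (x⁻¹ * b x) = 1
    rw [map_mul, map_inv, inv_mul_eq_one, he, he]
    exact (Fintype.prod_equiv (Equiv.mulRight (⟨b, hb⟩ : A)) _ _ fun a => rfl).symm
  have h1 : ((g : G ⧸ N)) ^ Nat.card A = 1 := by
    have h2 : e g = 1 := by rw [h0]; rfl
    rw [he] at h2
    rw [← h2, Nat.card_eq_fintype_card, ← Finset.card_univ, ← Finset.prod_const]
    refine Finset.prod_congr rfl fun a _ => ?_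
    rw [QuotientGroup.eq]
    exact hg a a.2
  exact (QuotientGroup.eq_one_iff g).mp (eq_one_of_pow_coprime (hG.to_quotient N) hA h1)

/-- If a coprime operator group with `[G, A] = G` centralizes every characteristic abelian
subgroup, then `G` is special and `Z(G) = C_G(A)`. -/
theorem isSpecial_of_fixes_char_abelian (hG : IsPGroup p G) (A : Subgroup (MulAut G))
    (hA : Nat.Coprime (Nat.card A) p)
    (hGA : Subgroup.closure {x : G | ∃ g : G, ∃ a ∈ A, x = g⁻¹ * a g} = ⊤)
    (hchar : ∀ H : Subgroup G, H.Characteristic → IsMulCommutative H → ∀ a ∈ A, ∀ h ∈ H, a h = h) :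
    IsSpecial p G ∧ (∀ g : G, (g ∈ Subgroup.center G ↔ ∀ a ∈ A, a g = g)) := by
  classical
  have := hG.isNilpotent
  have hcen : ∀ H : Subgroup G, H.Characteristic → IsMulCommutative H → H ≤ Subgroup.center G := by
    intro H hH hH' y hy
    have h1 : (⊤ : Subgroup G) ≤ Subgroup.centralizer (H : Set G) := by
      rw [← hGA, closure_le]
      rintro _ ⟨x, a, ha, rfl⟩
      exact mem_centralizer_of_fixed_normal a (hchar H hH hH' a ha) x
    exact Subgroup.mem_center_iff.mpr fun g => (mem_centralizer_iff.mp (h1 (mem_top g)) y hy).symm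
  -- class at most two
  have hclass : _root_.commutator G ≤ Subgroup.center G := by
    obtain ⟨n, hn⟩ := Subgroup.nilpotent_iff_lowerCentralSeries.mp (inferInstance : Group.IsNilpotent G)
    let γ := fun i => (⊤ : Subgroup G).lowerCentralSeries i
    have hstep : ∀ i, γ (i + 2) = ⊥ → i ≥ 1 → γ (i + 1) = ⊥ := by
      intro i hi hi1
      have hcent : γ (i + 1) ≤ Subgroup.center G := by
        rw [show γ (i + 1) ≤ Subgroup.center G ↔ _ from Iff.rfl]
        intro y hy
        refine Subgroup.mem_center_iff.mpr fun g => ?_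
        have : ⁅y, g⁆ ∈ γ (i + 2) := commutator_mem_commutator hy (mem_top g)
        rw [hi, Subgroup.mem_bot, commutatorElement_eq_one_iff_mul_comm] at this
        exact this.symm
      have hab : IsMulCommutative (γ i) := by
        refine ⟨⟨fun a b => Subtype.ext ?_⟩⟩
        have h1 : (b : G) ∈ _root_.commutator G := by
          rw [← top_lowerCentralSeries_one]
          exact Subgroup.lowerCentralSeries_antitone (⊤ : Subgroup G) hi1 b.2
        have h2 : _root_.commutator G ≤ Subgroup.centralizer (γ i : Set G) := by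
          rw [← commutator_eq_bot_iff_le_centralizer, _root_.commutator_def]
          have hz : ⁅γ (i + 1), (⊤ : Subgroup G)⁆ = ⊥ := by
            rw [commutator_eq_bot_iff_le_centralizer]
            exact fun y hy => mem_centralizer_iff.mpr fun g _ => Subgroup.mem_center_iff.mp (hcent hy) g
          have h3 : ⁅γ i, (⊤ : Subgroup G)⁆ = γ (i + 1) := rfl
          refine commutator_commutator_eq_bot_of_rotate ?_ ?_
          · rw [commutator_comm (⊤ : Subgroup G) (γ i), h3, hz]
          · rw [h3, hz]
        exact (mem_centralizer_iff.mp (h2 h1) a a.2)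
      have hle : γ i ≤ Subgroup.center G := hcen (γ i) inferInstance hab
      refine eq_bot_iff.mpr ?_
      show ⁅γ i, (⊤ : Subgroup G)⁆ ≤ ⊥
      exact commutator_le.mpr fun y hy g _ =>
        Subgroup.mem_bot.mpr (commutatorElement_eq_one_iff_mul_comm.mpr
          (Subgroup.mem_center_iff.mp (hle hy) g).symm)
    have h2 : γ 2 = ⊥ := by
      have hdown : ∀ k, γ (k + 2) = ⊥ → γ 2 = ⊥ := by
        intro k
        induction k with
        | zero => exact fun h => h
        | succ k ihk => exact fun h => ihk (hstep (k + 1) h (by omega))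
      exact hdown n (le_bot_iff.mp ((Subgroup.lowerCentralSeries_antitone (⊤ : Subgroup G)
        (show n ≤ n + 2 by omega)).trans hn.le))
    intro y hy
    refine Subgroup.mem_center_iff.mpr fun g => ?_
    have : ⁅y, g⁆ ∈ γ 2 := commutator_mem_commutator
      (show y ∈ γ 1 by show y ∈ (⊤ : Subgroup G).lowerCentralSeries 1; rw [top_lowerCentralSeries_one]; exact hy) (mem_top g)
    rw [h2, Subgroup.mem_bot, commutatorElement_eq_one_iff_mul_comm] at this
    exact this.symm
  have hcomm : ∀ x y : G, ⁅x, y⁆ ∈ Subgroup.center G := fun x y =>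
    hclass (commutator_mem_commutator (mem_top x) (mem_top y))
  have hZfix : ∀ a ∈ A, ∀ z ∈ Subgroup.center G, a z = z :=
    hchar _ inferInstance inferInstance
  -- `p`-th powers are central
  have hpow : ∀ x : G, x ^ p ∈ Subgroup.center G := by
    obtain ⟨j, hj⟩ := IsPGroup.iff_card.mp hG
    have hbase : ∀ x : G, x ^ p ^ j ∈ Subgroup.center G := fun x => by
      rw [← hj, pow_card_eq_one']; exact one_mem _
    have hdown : ∀ e, 1 ≤ e → (∀ x : G, x ^ p ^ (e + 1) ∈ Subgroup.center G) →
        ∀ x : G, x ^ p ^ e ∈ Subgroup.center G := by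
      intro e he h
      let W : Subgroup G := Subgroup.closure (Set.range fun x : G => x ^ p ^ e)
      have hWc : W.Characteristic := characteristic_iff_map_eq.mpr fun φ => by
        rw [MonoidHom.map_closure, ← Set.range_comp]
        congr 1
        ext y
        constructor
        · rintro ⟨x, rfl⟩; exact ⟨φ x, (map_pow φ x _).symm⟩
        · rintro ⟨x, rfl⟩; exact ⟨φ.symm x, by simp [map_pow]⟩
      have hWa : IsMulCommutative W := by
        refine Subgroup.isMulCommutative_closure ?_
        rintro _ ⟨x, rfl⟩ _ ⟨y, rfl⟩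
        refine commutatorElement_eq_one_iff_mul_comm.mp ?_
        rw [CfsgLib.PGroups.comm_pow_left_of_central (hcomm _ _),
          CfsgLib.PGroups.comm_pow_right_of_central (hcomm _ _), ← pow_mul, ← pow_add,
          ← CfsgLib.PGroups.comm_pow_left_of_central (hcomm _ _),
          commutatorElement_eq_one_iff_mul_comm]
        obtain ⟨d, hd⟩ : p ^ (e + 1) ∣ p ^ (e + e) := pow_dvd_pow p (by omega)
        exact (Subgroup.mem_center_iff.mp
          (show x ^ p ^ (e + e) ∈ Subgroup.center G by
            rw [hd, pow_mul]; exact pow_mem (h x) d) y).symm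
      exact fun x => hcen W hWc hWa (subset_closure ⟨x, rfl⟩)
    have hall : ∀ i, (∀ x : G, x ^ p ^ (i + 1) ∈ Subgroup.center G) →
        ∀ x : G, x ^ p ∈ Subgroup.center G := by
      intro i
      induction i with
      | zero => intro h x; simpa using h x
      | succ i ihi => exact fun h => ihi (hdown (i + 1) (by omega) h)
    exact hall j fun x => by rw [pow_succ, pow_mul]; exact pow_mem (hbase x) p
  have hΦZ : frattini G ≤ Subgroup.center G := by
    rw [CfsgLib.PGroups.frattini_eq_commutator_sup hG]
    refine sup_le hclass ((closure_le _).mpr ?_)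
    rintro _ ⟨x, rfl⟩
    exact hpow x
  have hZG : Subgroup.center G ≤ _root_.commutator G := fun z hz =>
    mem_of_fixed_quotient hG A hA hGA _ le_rfl fun a ha => by
      rw [hZfix a ha z hz, inv_mul_cancel]; exact one_mem _
  have hGΦ : _root_.commutator G ≤ frattini G := CfsgLib.PGroups.commutator_le_frattini' hG
  refine ⟨⟨hG, le_antisymm hΦZ (hZG.trans hGΦ), le_antisymm hclass hZG⟩, fun g => ?_⟩
  refine ⟨fun hg a ha => hZfix a ha g hg, fun hg => ?_⟩
  exact mem_of_fixed_quotient hG A hA hGA _ hclass fun a ha => by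
    rw [hg a ha, inv_mul_cancel]; exact one_mem _

/-- Every `p`-group has a critical subgroup. -/
theorem exists_critical (hG : IsPGroup p G) :
    ∃ H : Subgroup G, H.Characteristic ∧
      (frattini H).map H.subtype ≤ Subgroup.centralizer (H : Set G) ∧
      ⁅H, (⊤ : Subgroup G)⁆ ≤ H ⊓ Subgroup.centralizer (H : Set G) ∧
      Subgroup.centralizer (H : Set G) ≤ H := by
  classical
  obtain ⟨A, ⟨hAc, hAab⟩, hmax⟩ :
      ∃ A : Subgroup G, (A.Characteristic ∧ IsMulCommutative A) ∧
        ∀ B : Subgroup G, B.Characteristic → IsMulCommutative B → A ≤ B → B = A := by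
    obtain ⟨A, hA⟩ := (Set.toFinite {A : Subgroup G | A.Characteristic ∧ IsMulCommutative A}
      ).exists_maximal ⟨⊥, inferInstance, inferInstance⟩
    exact ⟨A, hA.1, fun B h1 h2 hle => le_antisymm (hA.2 ⟨h1, h2⟩ hle) hle⟩
  set C := Subgroup.centralizer (A : Set G) with hC
  have hcomap : ∀ {φ : G ≃* G} {x : G}, x ∈ A → φ x ∈ A := fun {φ x} hx =>
    (characteristic_iff_le_comap.mp hAc φ) hx
  set π := QuotientGroup.mk' A
  let S : Subgroup G :=
    (({ carrier := {z : G ⧸ A | z ∈ Subgroup.center (G ⧸ A) ∧ z ^ p = 1}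
        one_mem' := ⟨one_mem _, one_pow p⟩
        mul_mem' := fun {a b} ha hb => ⟨mul_mem ha.1 hb.1, by
          rw [(show Commute a b from (Subgroup.mem_center_iff.mp ha.1 b).symm).mul_pow, ha.2, hb.2,
            one_mul]⟩
        inv_mem' := fun {a} ha => ⟨inv_mem ha.1, by rw [inv_pow, ha.2, inv_one]⟩ } :
      Subgroup (G ⧸ A))).comap π
  have hmemS : ∀ x : G, x ∈ S ↔ (∀ g : G, ⁅g, x⁆ ∈ A) ∧ x ^ p ∈ A := by
    intro x
    show π x ∈ Subgroup.center (G ⧸ A) ∧ π x ^ p = 1 ↔ _
    refine and_congr ?_ (by rw [← map_pow]; exact QuotientGroup.eq_one_iff _)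
    rw [Subgroup.mem_center_iff]
    constructor
    · intro h g
      refine (QuotientGroup.eq_one_iff _).mp ?_
      show π ⁅g, x⁆ = 1
      rw [map_commutatorElement, commutatorElement_eq_one_iff_mul_comm]
      exact h (π g)
    · intro h y
      obtain ⟨g, rfl⟩ := QuotientGroup.mk'_surjective A y
      refine commutatorElement_eq_one_iff_mul_comm.mp ?_
      rw [← map_commutatorElement]
      exact (QuotientGroup.eq_one_iff _).mpr (h g)
  set H := S ⊓ C with hH
  have hAH : A ≤ H := le_inf (fun a ha => (hmemS a).mpr ⟨fun g => by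
      rw [commutatorElement_def]
      exact mul_mem ((normal_of_characteristic A).conj_mem a ha g) (inv_mem ha), pow_mem ha p⟩)
    (fun a ha => mem_centralizer_iff.mpr fun b hb =>
      congrArg Subtype.val (hAab.is_comm.comm ⟨b, hb⟩ ⟨a, ha⟩))
  have hHc : H.Characteristic := by
    refine characteristic_iff_le_comap.mpr fun φ x hx => ?_
    obtain ⟨hx1, hx2⟩ := hx
    refine ⟨(hmemS _).mpr ⟨fun g => ?_, ?_⟩, ?_⟩
    · have := hcomap (φ := φ) (((hmemS x).mp hx1).1 (φ.symm g))
      simpa [map_commutatorElement] using this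
    · show (φ x) ^ p ∈ A
      rw [← map_pow]; exact hcomap ((hmemS x).mp hx1).2
    · refine mem_centralizer_iff.mpr fun b hb => ?_
      have := congrArg φ (mem_centralizer_iff.mp hx2 _ (hcomap (φ := φ.symm) hb))
      simpa using this
  -- `Z(H) = A`
  have hZH : H ⊓ Subgroup.centralizer (H : Set G) = A := by
    have hZc : (H ⊓ Subgroup.centralizer (H : Set G)).Characteristic := by
      refine characteristic_iff_le_comap.mpr fun φ x hx => ?_
      refine ⟨(characteristic_iff_le_comap.mp hHc φ) hx.1, mem_centralizer_iff.mpr fun b hb => ?_⟩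
      have := congrArg φ (mem_centralizer_iff.mp hx.2 _ ((characteristic_iff_le_comap.mp hHc φ.symm) hb))
      simpa using this
    refine hmax _ hZc ⟨⟨fun a b => Subtype.ext ?_⟩⟩ (le_inf hAH fun a ha => ?_)
    · exact (mem_centralizer_iff.mp b.2.2 a a.2.1)
    · exact mem_centralizer_iff.mpr fun b hb => (mem_centralizer_iff.mp hb.2 a ha).symm
  refine ⟨H, hHc, ?_, ?_, ?_⟩
  · have hle : frattini H ≤ A.subgroupOf H := by
      have : (A.subgroupOf H).Normal := inferInstance
      have hAz : ∀ a ∈ A, a ∈ Subgroup.centralizer (H : Set G) := fun a ha => (hZH.ge ha).2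
      refine CfsgLib.PGroups.frattini_le_of_elementary (p := p) ?_ ?_
      · refine commutator_le.mpr fun x _ y _ => ?_
        rw [mem_subgroupOf]
        exact ((hmemS _).mp y.2.1).1 x
      · intro x
        rw [mem_subgroupOf]
        exact ((hmemS _).mp x.2.1).2
    rintro _ ⟨x, hx, rfl⟩
    exact (hZH.ge (hle hx)).2
  · refine commutator_le.mpr fun x hx g _ => ?_
    rw [hZH, ← inv_mem_iff, commutatorElement_inv]
    exact ((hmemS x).mp hx.1).1 g
  · intro x hx
    by_contra hxH
    set K := Subgroup.centralizer (H : Set G)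
    have hKC : K ≤ C := fun y hy => mem_centralizer_iff.mpr fun a ha =>
      mem_centralizer_iff.mp hy a (hAH ha)
    have : K.Normal := inferInstance
    have hne : K.map π ≠ ⊥ := fun hb => hxH (hAH (by
      rw [Subgroup.map_eq_bot_iff, QuotientGroup.ker_mk'] at hb; exact hb hx))
    have : (K.map π).Normal := Subgroup.Normal.map inferInstance π (QuotientGroup.mk'_surjective A)
    obtain ⟨z, hzK, hz⟩ : ∃ z ∈ K.map π ⊓ Subgroup.center (G ⧸ A), orderOf z = p := by
      have hne' := CfsgLib.PGroups.inf_center_ne_bot (hG.to_quotient A) hne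
      have hd : p ∣ Nat.card (K.map π ⊓ Subgroup.center (G ⧸ A) : Subgroup (G ⧸ A)) :=
        ((hG.to_quotient A).to_subgroup _).card_eq_or_dvd.resolve_left
          fun h => hne' (Subgroup.card_eq_one.mp h)
      obtain ⟨w, hw⟩ := exists_prime_orderOf_dvd_card'
        (G := (K.map π ⊓ Subgroup.center (G ⧸ A) : Subgroup (G ⧸ A))) p hd
      exact ⟨w, w.2, by rw [Subgroup.orderOf_coe, hw]⟩
    obtain ⟨y, hy, rfl⟩ := hzK.1
    have hyS : y ∈ S := ⟨hzK.2, by rw [← hz]; exact pow_orderOf_eq_one _⟩
    have hyA : y ∈ A := hZH.le ⟨⟨hyS, hKC hy⟩, hy⟩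
    rw [show π y = 1 from (QuotientGroup.eq_one_iff y).mpr hyA, orderOf_one] at hz
    exact hp.out.ne_one hz.symm

end CfsgLib.Transfer
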