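import Cfsg.Prelude.Def_Transfer

/-!
# Small lemmas on conjugation, Sylow subgroups of subgroups, normalizers in `p`-groups
-/

namespace CfsgLib.Transfer

open Subgroup
open scoped Pointwise

variable {G : Type*} [Group G] {p : ℕ}

theorem mem_conj_smul {g x : G} {H : Subgroup G} :
    x ∈ MulAut.conj g • H ↔ g⁻¹ * x * g ∈ H := by
  rw [mem_pointwise_smul_iff_inv_smul_mem]
  simp [MulAut.smul_def]

theorem mem_sylow_smul {g x : G} {P : Sylow p G} :
    x ∈ ((g • P : Sylow p G) : Subgroup G) ↔ g⁻¹ * x * g ∈ (P : Subgroup G) :=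
  mem_conj_smul

theorem mem_inv_smul_sylow {g x : G} {P : Sylow p G} :
    x ∈ ((g⁻¹ • P : Sylow p G) : Subgroup G) ↔ g * x * g⁻¹ ∈ (P : Subgroup G) := by
  rw [mem_sylow_smul, inv_inv]

theorem mem_map_conj {g x : G} {H : Subgroup G} :
    x ∈ H.map (MulAut.conj g).toMonoidHom ↔ g⁻¹ * x * g ∈ H :=
  mem_conj_smul

theorem conj_mem_map_conj {g x : G} {H : Subgroup G} (hx : x ∈ H) :
    g * x * g⁻¹ ∈ H.map (MulAut.conj g).toMonoidHom :=
  ⟨x, hx, rfl⟩

theorem card_map_conj (g : G) (H : Subgroup G) :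
    Nat.card (H.map (MulAut.conj g).toMonoidHom) = Nat.card H :=
  card_map_of_injective (MulAut.conj g).injective

theorem normalizer_map_conj (g : G) (H : Subgroup G) :
    Subgroup.normalizer ((H.map (MulAut.conj g).toMonoidHom : Subgroup G) : Set G) =
      (Subgroup.normalizer (H : Set G)).map (MulAut.conj g).toMonoidHom :=
  (map_equiv_normalizer_eq H (MulAut.conj g)).symm

theorem map_conj_eq_self_iff {g : G} {H : Subgroup G} [Finite G] :
    H.map (MulAut.conj g).toMonoidHom = H ↔ g ∈ Subgroup.normalizer (H : Set G) := by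
  constructor
  · intro h
    rw [mem_normalizer_iff]
    intro x
    constructor
    · intro hx; rw [← h]; exact conj_mem_map_conj hx
    · intro hx
      rw [← h, mem_map_conj] at hx
      simpa [mul_assoc] using hx
  · intro h
    refine eq_of_le_of_card_ge ?_ (card_map_conj g H).ge
    intro x hx
    exact (mem_normalizer_iff''.mp h x).mpr (mem_map_conj.mp hx)

theorem normalizer_le_normalizer_inf {H K : Subgroup G} :
    Subgroup.normalizer (H : Set G) ⊓ Subgroup.normalizer (K : Set G) ≤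
      Subgroup.normalizer ((H ⊓ K : Subgroup G) : Set G) := by
  intro g hg
  rw [mem_normalizer_iff]
  intro x
  simp only [mem_inf]
  exact and_congr (mem_normalizer_iff.mp hg.1 x) (mem_normalizer_iff.mp hg.2 x)

theorem normalizer_le_normalizer_centralizer (H : Subgroup G) :
    Subgroup.normalizer (H : Set G) ≤
      Subgroup.normalizer (Subgroup.centralizer (H : Set G) : Set G) := by
  have key : ∀ g ∈ Subgroup.normalizer (H : Set G), ∀ x ∈ Subgroup.centralizer (H : Set G),
      g * x * g⁻¹ ∈ Subgroup.centralizer (H : Set G) := by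
    intro g hg x hx
    rw [mem_centralizer_iff] at hx ⊢
    intro y hy
    have h1 := hx _ ((mem_normalizer_iff''.mp hg y).mp hy)
    calc y * (g * x * g⁻¹) = g * ((g⁻¹ * y * g) * x) * g⁻¹ := by group
      _ = g * (x * (g⁻¹ * y * g)) * g⁻¹ := by rw [h1]
      _ = g * x * g⁻¹ * y := by group
  intro g hg
  rw [mem_normalizer_iff]
  intro x
  refine ⟨key g hg x, fun hx => ?_⟩
  simpa [mul_assoc] using key g⁻¹ (inv_mem hg) _ hx

/-- Normalizers grow inside `p`-groups. -/
theorem lt_inf_normalizer [Finite G] [Fact p.Prime] {P D : Subgroup G} (hP : IsPGroup p P)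
    (h : D < P) : D < P ⊓ Subgroup.normalizer (D : Set G) := by
  have := hP.isNilpotent
  have hlt : D.subgroupOf P < ⊤ := by
    rw [lt_top_iff_ne_top, Ne, subgroupOf_eq_top]
    exact not_le_of_gt h
  have h2 := Group.normalizerCondition_of_isNilpotent (G := P) _ hlt
  refine lt_of_le_of_ne (le_inf h.le le_normalizer) fun he => h2.ne ?_
  rw [← subgroupOf_normalizer_eq h.le]
  ext x
  refine ⟨fun hx => le_normalizer (mem_subgroupOf.mp hx), fun hx => ?_⟩
  rw [mem_subgroupOf, he]
  exact ⟨x.2, hx⟩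

/-- A Sylow `p`-subgroup of a subgroup `N` above a given `p`-subgroup of `N`. -/
theorem exists_sylow_of_le [Finite G] [Fact p.Prime] {N S : Subgroup G} (hSN : S ≤ N)
    (hS : IsPGroup p S) :
    ∃ T : Subgroup G, S ≤ T ∧ T ≤ N ∧ IsPGroup p T ∧ ¬ p ∣ T.relIndex N := by
  obtain ⟨T, hT⟩ := (hS.comap_subtype (K := N)).exists_le_sylow
  refine ⟨(T : Subgroup N).map N.subtype, ?_, map_subtype_le _, T.2.map _, ?_⟩
  · exact fun x hx => ⟨⟨x, hSN hx⟩, hT (mem_subgroupOf.mpr hx), rfl⟩
  · rw [relIndex, ← comap_subtype, comap_map_eq_self_of_injective N.subtype_injective]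
    exact T.not_dvd_index

/-- Sylow's theorem inside a subgroup `N`. -/
theorem exists_conj_le [Finite G] [Fact p.Prime] {N S T : Subgroup G}
    (hT : IsPGroup p T) (hTi : ¬ p ∣ T.relIndex N) (hSN : S ≤ N) (hS : IsPGroup p S) :
    ∃ n ∈ N, ∀ s ∈ S, n⁻¹ * s * n ∈ T := by
  obtain ⟨Q, hQ⟩ := (hS.comap_subtype (K := N)).exists_le_sylow
  obtain ⟨n, hn⟩ := MulAction.exists_smul_eq N ((hT.comap_subtype (K := N)).toSylow hTi) Q
  refine ⟨n, n.2, fun s hs => ?_⟩
  have h : (⟨s, hSN hs⟩ : N) ∈ (Q : Subgroup N) := hQ (mem_subgroupOf.mpr hs)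
  rw [← hn, mem_sylow_smul] at h
  exact h

theorem card_lt_of_lt [Finite G] {H K : Subgroup G} (h : H < K) : Nat.card H < Nat.card K := by
  refine lt_of_le_of_ne (card_le_of_le h.le) fun he => h.ne ?_
  exact eq_of_le_of_card_ge h.le he.ge

/-- A `p`-subgroup containing a Sylow subgroup is that Sylow subgroup. -/
theorem eq_sylow_of_le {P : Sylow p G} {H : Subgroup G} (hH : IsPGroup p H)
    (h : (P : Subgroup G) ≤ H) : H = (P : Subgroup G) :=
  P.is_maximal' hH h

end CfsgLib.Transfer
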