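import Cfsg.Agent.Lib.Transfer.Conj

/-!
# Alperin's fusion theorem

`FusionPath P A g`: the conjugation `a ↦ g⁻¹ a g` of the set `A` is a composite of conjugations by
elements normalizing tame intersections `P ⊓ Q` containing the current image of `A`.
`exists_fusionPath` is Alperin's theorem.
-/

namespace CfsgLib.Transfer

open Subgroup
open scoped Pointwise

variable {G : Type*} [Group G] {p : ℕ}

/-- `P ⊓ Q` is a tame intersection: the normalizers in `P` and in `Q` are Sylow in the normalizer. -/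
def IsTameInter (P Q : Sylow p G) : Prop :=
  ¬ p ∣ ((P : Subgroup G) ⊓ Subgroup.normalizer
      ((((P : Subgroup G) ⊓ (Q : Subgroup G)) : Subgroup G) : Set G)).relIndex
      (Subgroup.normalizer ((((P : Subgroup G) ⊓ (Q : Subgroup G)) : Subgroup G) : Set G)) ∧
  ¬ p ∣ ((Q : Subgroup G) ⊓ Subgroup.normalizer
      ((((P : Subgroup G) ⊓ (Q : Subgroup G)) : Subgroup G) : Set G)).relIndex
      (Subgroup.normalizer ((((P : Subgroup G) ⊓ (Q : Subgroup G)) : Subgroup G) : Set G))

/-- Chains of conjugations through tame intersections. -/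
inductive FusionPath (P : Sylow p G) : Set G → G → Prop
  | one (A : Set G) : FusionPath P A 1
  | step (A : Set G) (Q : Sylow p G) (x g : G) (ht : IsTameInter P Q)
      (hx : x ∈ Subgroup.normalizer ((((P : Subgroup G) ⊓ (Q : Subgroup G)) : Subgroup G) : Set G))
      (hA : A ⊆ (((P : Subgroup G) ⊓ (Q : Subgroup G) : Subgroup G) : Set G))
      (hg : FusionPath P ((fun a => x⁻¹ * a * x) '' A) g) : FusionPath P A (x * g)

theorem FusionPath.mono {P : Sylow p G} {A : Set G} {g : G} (h : FusionPath P A g) :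
    ∀ B ⊆ A, FusionPath P B g := by
  induction h with
  | one A => exact fun B _ => .one B
  | step A Q x g ht hx hA _ ih =>
      exact fun B hB => .step B Q x g ht hx (hB.trans hA) (ih _ (Set.image_mono hB))

theorem FusionPath.trans {P : Sylow p G} {A : Set G} {g : G} (h : FusionPath P A g) :
    ∀ {k : G}, FusionPath P ((fun a => g⁻¹ * a * g) '' A) k → FusionPath P A (g * k) := by
  induction h with
  | one A =>
      intro k hk
      rw [one_mul]
      exact hk.mono _ (fun a ha => ⟨a, ha, by simp⟩)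
  | step A Q x g ht hx hA _ ih =>
      intro k hk
      rw [mul_assoc]
      refine .step A Q x (g * k) ht hx hA (ih ?_)
      rw [Set.image_image]
      simpa [mul_assoc] using hk

variable [Finite G] [hp : Fact p.Prime]

theorem isTameInter_self (P : Sylow p G) : IsTameInter P P := by
  have h : ¬ p ∣ ((P : Subgroup G) ⊓ Subgroup.normalizer ((P : Subgroup G) : Set G)).relIndex
      (Subgroup.normalizer ((P : Subgroup G) : Set G)) := by
    rw [inf_eq_left.mpr le_normalizer]
    exact fun hd => P.not_dvd_index (hd.trans (relIndex_dvd_index_of_le le_normalizer))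
  unfold IsTameInter
  rw [inf_idem]
  exact ⟨h, h⟩

/-- The inductive heart of Alperin's theorem. -/
theorem exists_fusionPath_sylow (P : Sylow p G) (R : Sylow p G) :
    ∃ g : G, FusionPath P (((P : Subgroup G) ⊓ (R : Subgroup G) : Subgroup G) : Set G) g ∧
      g⁻¹ • R = P := by
  induction hn : Nat.card (P : Subgroup G) - Nat.card ((P : Subgroup G) ⊓ (R : Subgroup G) :
    Subgroup G) using Nat.strong_induction_on generalizing R with
  | _ n ih => ?_
  subst hn
  by_cases hRP : R = P
  · exact ⟨1, .one _, by rw [inv_one, one_smul, hRP]⟩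
  set D : Subgroup G := (P : Subgroup G) ⊓ (R : Subgroup G) with hD
  -- the induction hypothesis in usable form
  have IH : ∀ R' : Sylow p G,
      Nat.card D < Nat.card ((P : Subgroup G) ⊓ (R' : Subgroup G) : Subgroup G) →
      ∃ g : G, FusionPath P (((P : Subgroup G) ⊓ (R' : Subgroup G) : Subgroup G) : Set G) g ∧
        g⁻¹ • R' = P := by
    intro R' hR'
    refine ih _ ?_ R' rfl
    have := Subgroup.card_le_of_le (inf_le_left : (P : Subgroup G) ⊓ (R' : Subgroup G) ≤ P)
    omega
  have hDpg : IsPGroup p D := P.2.to_le inf_le_left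
  have hDP : D < (P : Subgroup G) := by
    refine lt_of_le_of_ne inf_le_left fun h => hRP ?_
    exact Sylow.ext (eq_sylow_of_le R.2 (inf_eq_left.mp h))
  have hDR : D < (R : Subgroup G) := by
    refine lt_of_le_of_ne inf_le_right fun h => hRP ?_
    exact Sylow.ext (eq_sylow_of_le P.2 (inf_eq_right.mp h)).symm
  -- Step 1: move `D` to a fully normalized image
  set N : Subgroup G := Subgroup.normalizer (D : Set G) with hN
  obtain ⟨T, hPT, hTN, hTp, hTi⟩ :=
    exists_sylow_of_le (S := (P : Subgroup G) ⊓ N) inf_le_right P.2.to_inf_left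
  obtain ⟨S, hS⟩ := hTp.exists_le_sylow
  have hDS : D ≤ (P : Subgroup G) ⊓ (S : Subgroup G) :=
    le_inf inf_le_left ((le_inf inf_le_left le_normalizer : D ≤ (P : Subgroup G) ⊓ N).trans
      (hPT.trans hS))
  obtain ⟨u, hu, huS⟩ := IH S (lt_of_lt_of_le
    (card_lt_of_lt (lt_inf_normalizer P.2 hDP))
    (card_le_of_le (le_inf inf_le_left (hPT.trans hS))))
  have hu' : FusionPath P (D : Set G) u := hu.mono _ hDS
  have hSP : ∀ x ∈ (S : Subgroup G), u⁻¹ * x * u ∈ (P : Subgroup G) := by
    intro x hx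
    rw [← huS, mem_inv_smul_sylow]
    simpa [mul_assoc] using hx
  set R' : Sylow p G := u⁻¹ • R with hR'
  set D' : Subgroup G := D.map (MulAut.conj u⁻¹).toMonoidHom with hD'
  have hmemD' : ∀ x, x ∈ D' ↔ u * x * u⁻¹ ∈ D := by
    intro x; rw [hD', mem_map_conj, inv_inv]
  have himg : (fun a => u⁻¹ * a * u) '' (D : Set G) ⊆ (D' : Set G) := by
    rintro _ ⟨a, ha, rfl⟩
    rw [SetLike.mem_coe, hmemD']
    simpa [mul_assoc] using ha
  have hD'le : D' ≤ (P : Subgroup G) ⊓ (R' : Subgroup G) := by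
    intro x hx
    rw [hmemD'] at hx
    refine mem_inf.mpr ⟨?_, mem_inv_smul_sylow.mpr hx.2⟩
    have h := hSP _ (hDS hx).2
    simpa [mul_assoc] using h
  have hcard : Nat.card D' = Nat.card D := card_map_conj _ _
  have combine : ∀ k : G, u⁻¹ • R = R' → k⁻¹ • R' = P → (u * k)⁻¹ • R = P := by
    intro k _ hk
    rw [mul_inv_rev, mul_smul]
    exact hk
  by_cases hgrow : Nat.card D < Nat.card ((P : Subgroup G) ⊓ (R' : Subgroup G) : Subgroup G)
  · obtain ⟨v, hv, hvR⟩ := IH R' hgrow
    exact ⟨u * v, hu'.trans (hv.mono _ (himg.trans hD'le)), combine v rfl hvR⟩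
  have hD'eq : D' = (P : Subgroup G) ⊓ (R' : Subgroup G) :=
    eq_of_le_of_card_ge hD'le (by omega)
  -- `P` is Sylow in the normalizer of `D'`
  set N' : Subgroup G := Subgroup.normalizer (D' : Set G) with hN'
  have hN'eq : N' = N.map (MulAut.conj u⁻¹).toMonoidHom := normalizer_map_conj _ _
  have hPN' : ¬ p ∣ ((P : Subgroup G) ⊓ N').relIndex N' := by
    have hsub : T.map (MulAut.conj u⁻¹).toMonoidHom ≤ (P : Subgroup G) ⊓ N' := by
      rintro _ ⟨x, hx, rfl⟩
      refine mem_inf.mpr ⟨?_, hN'eq ▸ ⟨x, hTN hx, rfl⟩⟩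
      simpa using hSP x (hS hx)
    intro hd
    apply hTi
    have h2 := hd.trans (relIndex_dvd_of_le_left N' hsub)
    rwa [hN'eq, relIndex_map_map_of_injective _ _ (MulAut.conj u⁻¹).injective] at h2
  -- Step 2
  obtain ⟨T₂, hRT, hT2N, hT2p, hT2i⟩ :=
    exists_sylow_of_le (S := (R' : Subgroup G) ⊓ N') inf_le_right R'.2.to_inf_left
  obtain ⟨Q, hQ⟩ := hT2p.exists_le_sylow
  have hD'R : D' < (R' : Subgroup G) := by
    refine lt_of_le_of_ne (hD'le.trans inf_le_right) fun h => ?_
    have h2 : Nat.card (R' : Subgroup G) = Nat.card D := by rw [← h, hcard]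
    have h3 : Nat.card (R' : Subgroup G) = Nat.card (R : Subgroup G) := Sylow.card_eq_multiplicity R' |>.trans (Sylow.card_eq_multiplicity R).symm
    have h4 := card_lt_of_lt hDR
    omega
  have hbig : Nat.card D < Nat.card ((R' : Subgroup G) ⊓ N' : Subgroup G) := by
    rw [← hcard]; exact card_lt_of_lt (lt_inf_normalizer R'.2 hD'R)
  have hD'PQ : D' ≤ (P : Subgroup G) ⊓ (Q : Subgroup G) :=
    le_inf (hD'le.trans inf_le_left)
      (((le_inf (hD'le.trans inf_le_right) le_normalizer :
        D' ≤ (R' : Subgroup G) ⊓ N').trans hRT).trans hQ)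
  have finish : ∀ w : G, FusionPath P (D' : Set G) w →
      (∀ x ∈ (R' : Subgroup G) ⊓ N', w⁻¹ * x * w ∈ (P : Subgroup G)) →
      ∃ g : G, FusionPath P (D : Set G) g ∧ g⁻¹ • R = P := by
    intro w hw hwP
    have hsub : ((R' : Subgroup G) ⊓ N').map (MulAut.conj w⁻¹).toMonoidHom ≤
        (P : Subgroup G) ⊓ ((w⁻¹ • R' : Sylow p G) : Subgroup G) := by
      rintro _ ⟨x, hx, rfl⟩
      refine mem_inf.mpr ⟨?_, mem_inv_smul_sylow.mpr ?_⟩
      · simpa using hwP x hx
      · simpa [mul_assoc] using (mem_inf.mp hx).1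
    obtain ⟨v, hv, hvR⟩ := IH (w⁻¹ • R') (lt_of_lt_of_le hbig
      ((card_map_conj w⁻¹ _).ge.trans (card_le_of_le hsub)))
    refine ⟨u * (w * v), hu'.trans ?_, ?_⟩
    · refine (hw.mono _ himg).trans (hv.mono _ ?_)
      rintro _ ⟨a, ha, rfl⟩
      have ha' : a ∈ D' := himg ha
      refine hsub ?_
      rw [mem_map_conj, inv_inv]
      simp only [mul_assoc, mul_inv_cancel, mul_one, mul_inv_cancel_left]
      exact ⟨(hD'le ha').2, le_normalizer ha'⟩
    · exact combine _ rfl (by rw [mul_inv_rev, mul_smul]; exact hvR)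
  by_cases hgrow2 : Nat.card D < Nat.card ((P : Subgroup G) ⊓ (Q : Subgroup G) : Subgroup G)
  · obtain ⟨w, hw, hwQ⟩ := IH Q hgrow2
    refine finish w (hw.mono _ hD'PQ) fun x hx => ?_
    rw [← hwQ, mem_inv_smul_sylow]
    simpa [mul_assoc] using hQ (hRT hx)
  have hPQ : D' = (P : Subgroup G) ⊓ (Q : Subgroup G) :=
    eq_of_le_of_card_ge hD'PQ (by omega)
  have htame : IsTameInter P Q := by
    unfold IsTameInter
    rw [← hPQ]
    exact ⟨hPN', fun hd => hT2i (hd.trans (relIndex_dvd_of_le_left N' (le_inf hQ hT2N)))⟩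
  obtain ⟨n, hn, hnP⟩ := exists_conj_le (P.2.to_inf_left : IsPGroup p
    ((P : Subgroup G) ⊓ N' : Subgroup G)) hPN' inf_le_right (R'.2.to_inf_left)
  have hpath : FusionPath P (D' : Set G) (n * 1) :=
    .step _ Q n 1 htame (hPQ ▸ hn) (fun a ha => hPQ ▸ ha) (.one _)
  rw [mul_one] at hpath
  exact finish n hpath fun x hx => (hnP x hx).1

/-- **Alperin's fusion theorem.** -/
theorem exists_fusionPath (P : Sylow p G) {A : Set G} {g : G} (hA : A ⊆ (P : Set G))
    (hAg : (fun a => g⁻¹ * a * g) '' A ⊆ (P : Set G)) : FusionPath P A g := by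
  obtain ⟨u, hu, huP⟩ := exists_fusionPath_sylow P (g • P)
  have hsub : A ⊆ (((P : Subgroup G) ⊓ ((g • P : Sylow p G) : Subgroup G) : Subgroup G) : Set G) :=
    fun a ha => ⟨hA ha, mem_sylow_smul.mpr (hAg ⟨a, ha, rfl⟩)⟩
  have hn : u⁻¹ * g ∈ Subgroup.normalizer ((P : Subgroup G) : Set G) := by
    rw [← mul_smul] at huP
    exact Sylow.smul_eq_iff_mem_normalizer.mp huP
  have h2 : FusionPath P ((fun a => u⁻¹ * a * u) '' A) (u⁻¹ * g * 1) := by
    refine .step _ P _ 1 (isTameInter_self P) (by rwa [inf_idem]) ?_ (.one _)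
    rintro _ ⟨a, ha, rfl⟩
    rw [inf_idem]
    show u⁻¹ * a * u ∈ (P : Subgroup G)
    have hmem : u⁻¹ * a * u ∈ ((u⁻¹ • (g • P) : Sylow p G) : Subgroup G) := by
      rw [mem_inv_smul_sylow]
      simpa [mul_assoc] using mem_sylow_smul.mpr (hAg ⟨a, ha, rfl⟩)
    rwa [huP] at hmem
  have h3 := (hu.mono A hsub).trans h2
  rwa [mul_one, mul_inv_cancel_left] at h3

omit [Finite G] hp in
/-- The list form of a fusion path. -/
theorem FusionPath.exists_fin {P : Sylow p G} {A : Set G} {g : G} (h : FusionPath P A g) :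
    ∃ (n : ℕ) (Q : Fin n → Sylow p G) (x : Fin n → G), (List.ofFn x).prod = g ∧
      (∀ i : Fin n, IsTameInter P (Q i) ∧
        x i ∈ Subgroup.normalizer
          ((((P : Subgroup G) ⊓ (Q i : Subgroup G)) : Subgroup G) : Set G)) ∧
      ∀ i : Fin n, (fun a => (((List.ofFn x).take i.val).prod)⁻¹ * a *
        ((List.ofFn x).take i.val).prod) '' A ⊆
          (((P : Subgroup G) ⊓ (Q i : Subgroup G) : Subgroup G) : Set G) := by
  induction h with
  | one A => exact ⟨0, Fin.elim0, Fin.elim0, by simp, fun i => i.elim0, fun i => i.elim0⟩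
  | step A Q₀ x₀ g ht hx hA _ ih =>
      obtain ⟨n, Q, x, h1, h2, h3⟩ := ih
      refine ⟨n + 1, Fin.cons Q₀ Q, Fin.cons x₀ x, ?_, ?_, ?_⟩
      · simp [List.ofFn_succ, h1]
      · intro i
        refine Fin.cases ?_ (fun j => ?_) i
        · simpa using ⟨ht, hx⟩
        · simpa using h2 j
      · intro i
        refine Fin.cases ?_ (fun j => ?_) i
        · simpa using hA
        · have := h3 j
          rw [Set.image_image] at this
          simpa [List.ofFn_succ, mul_assoc] using this

end CfsgLib.Transfer
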