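import Cfsg.Agent.Lib.Transfer.Tate
import Cfsg.Agent.Lib.Transfer.Alperin

/-!
# Fusion and transfer: focal subgroups, weak closure, Grün, Frobenius
-/

namespace CfsgLib.Transfer

open Cfsg Subgroup
open scoped commutatorElement

variable {G : Type*} [Group G] [Finite G] {p : ℕ} [hp : Fact p.Prime]

/-- Focal subgroup bound: if all fusion differences in `P` lie in `C`, so does `P ⊓ G'`. -/
theorem commutator_inf_le_of_fusion (P : Sylow p G) (C : Subgroup G)
    (h : ∀ x ∈ (P : Subgroup G), ∀ g : G, g⁻¹ * x * g ∈ (P : Subgroup G) →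
      x⁻¹ * (g⁻¹ * x * g) ∈ C) :
    _root_.commutator G ⊓ (P : Subgroup G) ≤ C := by
  rw [Subgroup.commutator_inf_eq_focalSubgroup, Subgroup.focalSubgroup_def, closure_le]
  rintro _ ⟨hg, x, hx, u, rfl⟩
  have hy : u * x⁻¹ * u⁻¹ ∈ (P : Subgroup G) := by
    have := mul_mem (inv_mem hx) hg
    simpa [commutatorElement_def, mul_assoc] using this
  have := h x⁻¹ (inv_mem hx) u⁻¹ (by simpa using hy)
  simpa [commutatorElement_def, mul_assoc] using this

/-- Control of fusion gives control of transfer. -/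
theorem commutator_inf_eq_of_controls (P : Sylow p G) {H : Subgroup G}
    (hPH : (P : Subgroup G) ≤ H)
    (h : ∀ x ∈ (P : Subgroup G), ∀ g : G, g⁻¹ * x * g ∈ (P : Subgroup G) →
      ∃ n ∈ H, n⁻¹ * x * n = g⁻¹ * x * g) :
    _root_.commutator G ⊓ (P : Subgroup G) = ⁅H, H⁆ ⊓ (P : Subgroup G) := by
  refine le_antisymm (le_inf ?_ inf_le_right) (inf_le_inf_right _ ?_)
  · refine commutator_inf_le_of_fusion P _ fun x hx g hg => ?_
    obtain ⟨n, hn, hne⟩ := h x hx g hg
    rw [← hne]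
    have h2 := commutator_mem_commutator (inv_mem (hPH hx)) (inv_mem hn)
    simpa [commutatorElement_def, mul_assoc] using h2
  · exact commutator_mono le_top le_top

/-- Control of fusion gives control of `p`-residuals. -/
theorem inf_pResidual_eq_of_controls (P : Sylow p G) {H : Subgroup G}
    (hPH : (P : Subgroup G) ≤ H)
    (h : ∀ x ∈ (P : Subgroup G), ∀ g : G, g⁻¹ * x * g ∈ (P : Subgroup G) →
      ∃ n ∈ H, n⁻¹ * x * n = g⁻¹ * x * g) :
    (P : Subgroup G) ⊓ pResidual p G = (P : Subgroup G) ⊓ (pResidual p H).map H.subtype :=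
  inf_pResidual_eq_of_commutator_le P hPH
    ((commutator_inf_eq_of_controls P hPH h).le.trans inf_le_left)

/-- Burnside: fusion of normal subsets of `P` is controlled by `N(P)`. -/
theorem exists_normalizer_conj_of_normal_subsets (P : Sylow p G) {X Y : Set G}
    (hX : ∀ x ∈ (P : Subgroup G), ∀ a ∈ X, x * a * x⁻¹ ∈ X)
    (hY : ∀ x ∈ (P : Subgroup G), ∀ a ∈ Y, x * a * x⁻¹ ∈ Y) {g : G}
    (hg : (fun a => g * a * g⁻¹) '' X = Y) :
    ∃ n ∈ Subgroup.normalizer ((P : Subgroup G) : Set G), (fun a => n * a * n⁻¹) '' X = Y := by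
  set N := Subgroup.normalizer Y with hN
  have hPN : (P : Subgroup G) ≤ N := by
    intro x hx
    rw [mem_set_normalizer_iff]
    intro a
    refine ⟨hY x hx a, fun ha => ?_⟩
    simpa [mul_assoc] using hY x⁻¹ (inv_mem hx) _ ha
  have hgPN : ((g • P : Sylow p G) : Subgroup G) ≤ N := by
    intro x hx
    rw [mem_sylow_smul] at hx
    have key : ∀ z ∈ (P : Subgroup G), ∀ a ∈ Y, (g * z * g⁻¹) * a * (g * z * g⁻¹)⁻¹ ∈ Y := by
      intro z hz a ha
      rw [← hg] at ha ⊢
      obtain ⟨b, hb, rfl⟩ := ha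
      exact ⟨z * b * z⁻¹, hX z hz b hb, by group⟩
    rw [mem_set_normalizer_iff]
    intro a
    constructor
    · intro ha
      simpa [mul_assoc] using key _ hx a ha
    · intro ha
      simpa [mul_assoc] using key _ (inv_mem hx) _ ha
  obtain ⟨m, hm⟩ := MulAction.exists_smul_eq N ((g • P).subtype hgPN) (P.subtype hPN)
  simp_rw [Sylow.smul_subtype, Subgroup.smul_def, smul_smul] at hm
  refine ⟨(m : G) * g, Sylow.smul_eq_iff_mem_normalizer.mp (Sylow.subtype_injective hm), ?_⟩
  have hmY : (fun a => (m : G) * a * (m : G)⁻¹) '' Y = Y := by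
    ext a
    constructor
    · rintro ⟨b, hb, rfl⟩; exact (mem_set_normalizer_iff.mp m.2 b).mp hb
    · intro ha
      refine ⟨(m : G)⁻¹ * a * m, (mem_set_normalizer_iff.mp m.2 _).mpr ?_, by group⟩
      simpa [mul_assoc] using ha
  conv_rhs => rw [← hmY, ← hg]
  rw [Set.image_image]
  simp [mul_assoc]

/-- All conjugates of a weakly closed subgroup inside one `p`-subgroup coincide. -/
theorem map_conj_eq_of_le_pGroup {P : Sylow p G} {Z : Subgroup G}
    (hW : IsWeaklyClosed Z (P : Subgroup G)) {S : Subgroup G} (hS : IsPGroup p S) {a b : G}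
    (ha : Z.map (MulAut.conj a).toMonoidHom ≤ S) (hb : Z.map (MulAut.conj b).toMonoidHom ≤ S) :
    Z.map (MulAut.conj a).toMonoidHom = Z.map (MulAut.conj b).toMonoidHom := by
  obtain ⟨R, hR⟩ := hS.exists_le_sylow
  obtain ⟨c, hc⟩ := MulAction.exists_smul_eq G P R
  have key : ∀ e : G, Z.map (MulAut.conj e).toMonoidHom ≤ S →
      c⁻¹ * e ∈ Subgroup.normalizer (Z : Set G) := by
    intro e he
    rw [← map_conj_eq_self_iff]
    refine hW.2 _ ?_
    rintro _ ⟨z, hz, rfl⟩
    have h1 := hR (he (conj_mem_map_conj hz))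
    rw [← hc, mem_sylow_smul] at h1
    simpa [mul_assoc] using h1
  have h : a⁻¹ * b ∈ Subgroup.normalizer (Z : Set G) := by
    simpa [mul_assoc] using mul_mem (inv_mem (key a ha)) (key b hb)
  conv_rhs => rw [show b = a * (a⁻¹ * b) by group]
  conv_lhs => rw [← (map_conj_eq_self_iff (g := a⁻¹ * b)).mpr h]
  rw [Subgroup.map_map]
  congr 1
  ext x
  simp [mul_assoc]

/-- Grün: the normalizer of a central weakly closed subgroup controls fusion in `P`. -/
theorem exists_normalizer_conj_of_weaklyClosed (P : Sylow p G) {Z : Subgroup G}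
    (hW : IsWeaklyClosed Z (P : Subgroup G))
    (hZ : Z ≤ Subgroup.centralizer ((P : Subgroup G) : Set G))
    {X : Set G} (hX : X ⊆ (P : Set G)) {g : G}
    (hg : (fun a => g⁻¹ * a * g) '' X ⊆ (P : Set G)) :
    ∃ n ∈ Subgroup.normalizer (Z : Set G), ∀ x ∈ X, n⁻¹ * x * n = g⁻¹ * x * g := by
  set C : Subgroup G := Subgroup.centralizer X with hC
  have hZC : Z ≤ C := by
    intro z hz
    rw [mem_centralizer_iff]
    exact fun x hx => mem_centralizer_iff.mp (hZ hz) x (hX hx)
  have hZgC : Z.map (MulAut.conj g).toMonoidHom ≤ C := by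
    rintro _ ⟨z, hz, rfl⟩
    rw [mem_centralizer_iff]
    intro x hx
    have h1 : (g⁻¹ * x * g) * z = z * (g⁻¹ * x * g) :=
      mem_centralizer_iff.mp (hZ hz) _ (hg ⟨x, hx, rfl⟩)
    show x * (g * z * g⁻¹) = g * z * g⁻¹ * x
    calc x * (g * z * g⁻¹) = g * ((g⁻¹ * x * g) * z) * g⁻¹ := by group
      _ = g * (z * (g⁻¹ * x * g)) * g⁻¹ := by rw [h1]
      _ = g * z * g⁻¹ * x := by group
  have hZp : IsPGroup p Z := P.2.to_le hW.1
  obtain ⟨T, hZT, hTC, hTp, hTi⟩ := exists_sylow_of_le hZC hZp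
  obtain ⟨c, hc, hcT⟩ := exists_conj_le hTp hTi hZgC (hZp.map _)
  have h1 := map_conj_eq_of_le_pGroup hW hTp (a := 1) (b := c⁻¹ * g)
    (by rintro _ ⟨z, hz, rfl⟩; simpa using hZT hz)
    (by
      rintro _ ⟨z, hz, rfl⟩
      simpa [mul_assoc] using hcT _ (conj_mem_map_conj hz))
  have h2 : c⁻¹ * g ∈ Subgroup.normalizer (Z : Set G) := by
    rw [← map_conj_eq_self_iff, ← h1]
    ext z
    simp
  refine ⟨c⁻¹ * g, h2, fun x hx => ?_⟩
  have hxc : x * c = c * x := mem_centralizer_iff.mp hc x hx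
  calc (c⁻¹ * g)⁻¹ * x * (c⁻¹ * g) = g⁻¹ * ((c * x) * c⁻¹) * g := by group
    _ = g⁻¹ * x * g := by rw [← hxc]; group

/-- In an abelian Sylow subgroup, fusion is controlled by its normalizer. -/
theorem exists_normalizer_conj_of_isMulCommutative (P : Sylow p G)
    (hP : IsMulCommutative (P : Subgroup G)) {X : Set G} (hX : X ⊆ (P : Set G)) {g : G}
    (hg : (fun a => g⁻¹ * a * g) '' X ⊆ (P : Set G)) :
    ∃ n ∈ Subgroup.normalizer ((P : Subgroup G) : Set G), ∀ x ∈ X, n⁻¹ * x * n = g⁻¹ * x * g :=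
  exists_normalizer_conj_of_weaklyClosed P
    ⟨le_rfl, fun g hg => eq_of_le_of_card_ge hg (card_map_conj g _).ge⟩
    (fun x hx => mem_centralizer_iff.mpr fun y hy =>
      congrArg Subtype.val (hP.is_comm.comm ⟨y, hy⟩ ⟨x, hx⟩)) hX hg

/-- `N(D) = N_P(D) O^p(N(D))` whenever `N_P(D)` is Sylow in `N(D)`. -/
theorem exists_mul_of_sylow_normalizer (P : Sylow p G) {N : Subgroup G}
    (hN : ¬ p ∣ ((P : Subgroup G) ⊓ N).relIndex N) {n : G} (hn : n ∈ N) :
    ∃ s ∈ (P : Subgroup G) ⊓ N, ∃ k ∈ (pResidual p N).map N.subtype, n = s * k := by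
  obtain ⟨s, hs, k, hk, he⟩ := exists_mul_mem_pResidual
    (((P.2.to_inf_left : IsPGroup p ((P : Subgroup G) ⊓ N : Subgroup G)).comap_subtype
      (K := N)).toSylow hN) ⟨n, hn⟩
  exact ⟨s, mem_subgroupOf.mp hs, k, ⟨k, hk, rfl⟩, congrArg Subtype.val he⟩

/-- Hyperfocal bound, from Alperin's theorem and Tate's argument. -/
theorem inf_pResidual_le_of_local (P : Sylow p G) (R : Subgroup (P : Subgroup G)) [R.Normal]
    (hR : R ≤ (pResidual p G).subgroupOf (P : Subgroup G))
    (h : ∀ Q : Sylow p G, IsTameInter P Q →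
      ∀ k ∈ (pResidual p (Subgroup.normalizer ((((P : Subgroup G) ⊓ (Q : Subgroup G)) :
          Subgroup G) : Set G))).map (Subgroup.subtype _),
      ∀ a ∈ (P : Subgroup G) ⊓ (Q : Subgroup G),
        a⁻¹ * (k⁻¹ * a * k) ∈ R.map (P : Subgroup G).subtype) :
    (pResidual p G).subgroupOf (P : Subgroup G) = R := by
  refine inf_pResidual_le_of_focal P R hR fun L hLn hLi hRL => ?_
  set C : Subgroup G := L.map (P : Subgroup G).subtype with hC
  have hCP : C ≤ (P : Subgroup G) := map_subtype_le _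
  have hPC : ∀ a ∈ (P : Subgroup G), ∀ b ∈ (P : Subgroup G), a⁻¹ * (b⁻¹ * a * b) ∈ C := by
    intro a ha b hb
    refine ⟨⁅(⟨a, ha⟩⁻¹ : (P : Subgroup G)), (⟨b, hb⟩⁻¹ : (P : Subgroup G))⁆,
      commutator_le_of_index_prime hLi (commutator_mem_commutator (mem_top _) (mem_top _)), ?_⟩
    simp [commutatorElement_def, mul_assoc]
  have key : ∀ (A : Set G) (g : G), FusionPath P A g → A ⊆ (P : Set G) →
      ∀ x ∈ A, x⁻¹ * (g⁻¹ * x * g) ∈ C := by
    intro A g hpath
    induction hpath with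
    | one A => intro _ x _; simp [C.one_mem]
    | step A Q y g ht hy hA _ ih =>
        intro _ x hx
        have hxD := hA hx
        have hyD : y⁻¹ * x * y ∈ (P : Subgroup G) ⊓ (Q : Subgroup G) :=
          (mem_normalizer_iff''.mp hy x).mp hxD
        have h1 := ih (by
          rintro _ ⟨a, ha, rfl⟩
          exact ((mem_normalizer_iff''.mp hy a).mp (hA ha)).1) _ ⟨x, hx, rfl⟩
        have h2 : x⁻¹ * (y⁻¹ * x * y) ∈ C := by
          obtain ⟨s, hs, k, hk, rfl⟩ := exists_mul_of_sylow_normalizer P ht.1 hy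
          have hsD : s⁻¹ * x * s ∈ (P : Subgroup G) ⊓ (Q : Subgroup G) :=
            (mem_normalizer_iff''.mp hs.2 x).mp hxD
          have h3 := mul_mem (hPC x hxD.1 s hs.1)
            (Subgroup.map_mono hRL (h Q ht k hk _ hsD))
          convert h3 using 1
          group
        convert mul_mem h2 h1 using 1
        group
  intro x hx
  have hle : _root_.commutator G ⊓ (P : Subgroup G) ≤ C :=
    commutator_inf_le_of_fusion P C fun a ha g hg =>
      key {a} g (exists_fusionPath P (Set.singleton_subset_iff.mpr ha)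
        (by rw [Set.image_singleton]; exact Set.singleton_subset_iff.mpr hg))
        (Set.singleton_subset_iff.mpr ha) a rfl
  exact (mem_map_iff_mem (P : Subgroup G).subtype_injective).mp
    (hle ⟨mem_subgroupOf.mp hx, x.2⟩)

/-- **Frobenius' normal `p`-complement theorem**, sufficiency. -/
theorem hasNormalPComplement_of_centralizes (P : Sylow p G)
    (h : ∀ Q : Subgroup G, Q ≤ (P : Subgroup G) → ∀ g ∈ Subgroup.normalizer (Q : Set G),
      Nat.Coprime (orderOf g) p → g ∈ Subgroup.centralizer (Q : Set G)) :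
    HasNormalPComplement p G := by
  refine hasNormalPComplement_of_inf_pResidual P ?_
  have := inf_pResidual_le_of_local P ⊥ bot_le fun Q _ k hk a ha => by
    rw [Subgroup.map_bot, Subgroup.mem_bot]
    obtain ⟨k, hk, rfl⟩ := hk
    have hk' : (k : G) ∈ Subgroup.centralizer
        ((((P : Subgroup G) ⊓ (Q : Subgroup G)) : Subgroup G) : Set G) := by
      refine mem_subgroupOf.mp ((pResidual_le_iff (K := (Subgroup.centralizer _).subgroupOf _)).mpr
        (fun y hy => mem_subgroupOf.mpr (h _ inf_le_left y y.2 (by rwa [Subgroup.orderOf_coe]))) hk)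
    have h2 := mem_centralizer_iff.mp hk' a ha
    show a⁻¹ * ((k : G)⁻¹ * a * k) = 1
    rw [mul_assoc (k : G)⁻¹, h2]
    group
  rw [inf_comm]
  exact disjoint_iff.mp (subgroupOf_eq_bot.mp this)

/-- **Frobenius' normal `p`-complement theorem.** -/
theorem hasNormalPComplement_iff_centralizes (P : Sylow p G) :
    HasNormalPComplement p G ↔
      ∀ Q : Subgroup G, Q ≤ (P : Subgroup G) → ∀ g ∈ Subgroup.normalizer (Q : Set G),
        Nat.Coprime (orderOf g) p → g ∈ Subgroup.centralizer (Q : Set G) :=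
  ⟨fun h _ hQ _ hg hc => mem_centralizer_of_hasNormalPComplement h (P.2.to_le hQ) hg hc,
    hasNormalPComplement_of_centralizes P⟩

end CfsgLib.Transfer
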