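import Cfsg.Agent.Lib.Transfer.PResidual
import Cfsg.Agent.Lib.Transfer.Conj
import Mathlib.GroupTheory.Transfer
import Mathlib.GroupTheory.Focal
import Mathlib.GroupTheory.Frattini

/-!
# Tate's theorem, by transfer from a central extension

The core fact `exists_maximal_not_le`: if `K ⊴ G`, `O^p(K) = K`, then every normal
subgroup `M` of `P` properly inside `P ⊓ K` lies in a normal subgroup of index `p` of `P` not
containing `P ⊓ K`. Tate's theorem and the control of transfer follow.
-/

namespace CfsgLib.Transfer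

open Cfsg Subgroup
open scoped IsMulCommutative

section PGroup

variable {Y : Type*} [Group Y] {p : ℕ} [hp : Fact p.Prime]

/-- A nontrivial normal subgroup of a finite `p`-group has a central element of order `p`. -/
theorem exists_mem_center_orderOf_eq [Finite Y] (hY : IsPGroup p Y) {Z : Subgroup Y} [Z.Normal]
    (hZ : Z ≠ ⊥) : ∃ z ∈ Z, z ∈ Subgroup.center Y ∧ orderOf z = p := by
  let _ : MulAction Y Z := MulAction.compHom Z (MulAut.conjNormal (H := Z))
  have hdvd : p ∣ Nat.card Z :=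
    (hY.to_subgroup Z).card_eq_or_dvd.resolve_left fun h => hZ (card_eq_one.mp h)
  have h1 : (1 : Z) ∈ MulAction.fixedPoints Y Z := fun g => by
    show (MulAut.conjNormal g) (1 : Z) = 1
    exact map_one _
  obtain ⟨b, hb, hb1⟩ := hY.exists_fixed_point_of_prime_dvd_card_of_fixed_point Z hdvd h1
  have hbc : (b : Y) ∈ Subgroup.center Y := by
    rw [Subgroup.mem_center_iff]
    intro g
    have := congrArg Subtype.val (hb g)
    change ((MulAut.conjNormal g b : Z) : Y) = b at this
    rw [MulAut.conjNormal_apply, mul_inv_eq_iff_eq_mul] at this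
    exact this
  have hbne : (b : Y) ≠ 1 := fun h => hb1 (Subtype.ext h.symm)
  have hd : p ∣ Nat.card (zpowers (b : Y)) := by
    rw [Nat.card_zpowers]; exact hY.dvd_orderOf hbne
  obtain ⟨z, hz⟩ := exists_prime_orderOf_dvd_card' (G := zpowers (b : Y)) p hd
  exact ⟨z, zpowers_le.mpr b.2 z.2, zpowers_le.mpr hbc z.2, by rw [Subgroup.orderOf_coe, hz]⟩

end PGroup

section Core

variable {G : Type*} [Group G] [Finite G] {p : ℕ} [hp : Fact p.Prime]

/-- The core of Tate's theorem. -/
theorem exists_maximal_not_le {K : Subgroup G} [K.Normal] (hK : pResidual p K = ⊤)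
    (P : Sylow p G) (M : Subgroup (P : Subgroup G)) [M.Normal]
    (hM : M < K.subgroupOf (P : Subgroup G)) :
    ∃ L : Subgroup (P : Subgroup G),
      L.Normal ∧ L.index = p ∧ M ≤ L ∧ ¬ K.subgroupOf (P : Subgroup G) ≤ L := by
  classical
  set Q : Subgroup (P : Subgroup G) := K.subgroupOf (P : Subgroup G) with hQ
  obtain ⟨M₀, ⟨hM₀n, hMM₀, hM₀Q⟩, hmax⟩ :
      ∃ M₀ ∈ {N : Subgroup (P : Subgroup G) | N.Normal ∧ M ≤ N ∧ N < Q},
        ∀ N ∈ {N : Subgroup (P : Subgroup G) | N.Normal ∧ M ≤ N ∧ N < Q}, M₀ ≤ N → N = M₀ := by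
    obtain ⟨M₀, h⟩ := (Set.toFinite {N : Subgroup (P : Subgroup G) | N.Normal ∧ M ≤ N ∧ N < Q}
      ).exists_maximal ⟨M, ‹_›, le_rfl, hM⟩
    exact ⟨M₀, h.1, fun N hN hle => le_antisymm (h.2 hN hle) hle⟩
  set Y := (P : Subgroup G) ⧸ M₀
  set π : (P : Subgroup G) →* Y := QuotientGroup.mk' M₀
  have hπ : Function.Surjective π := QuotientGroup.mk'_surjective M₀
  set Z : Subgroup Y := Q.map π
  have hQn : Q.Normal := inferInstance
  have : Z.Normal := hQn.map π hπ
  have hYp : IsPGroup p Y := P.2.to_quotient M₀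
  have hkerπ : π.ker = M₀ := QuotientGroup.ker_mk' M₀
  have hcomapZ : Z.comap π = Q := by
    rw [comap_map_eq, hkerπ, sup_eq_left]
    exact hM₀Q.le
  have hZne : Z ≠ ⊥ := fun h => hM₀Q.ne (by rw [← hcomapZ, h, MonoidHom.comap_bot, hkerπ])
  obtain ⟨z₀, hz₀Z, hz₀c, hz₀⟩ := exists_mem_center_orderOf_eq hYp hZne
  have hZeq : Z = zpowers z₀ := by
    have hn : (zpowers z₀).Normal := by
      refine ⟨fun x hx g => ?_⟩
      have hxc := zpowers_le.mpr hz₀c hx
      rw [Subgroup.mem_center_iff.mp hxc g, mul_inv_cancel_right]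
      exact hx
    have hle : (zpowers z₀).comap π ≤ Q := by
      rw [← hcomapZ]
      exact comap_mono (zpowers_le.mpr hz₀Z)
    rcases hle.eq_or_lt with h | h
    · rw [show Z = Q.map π from rfl, ← h, map_comap_eq_self_of_surjective hπ]
    · exfalso
      have h2 := hmax ((zpowers z₀).comap π) ⟨hn.comap π, hMM₀.trans (QuotientGroup.le_comap_mk' M₀ _), h⟩
        (QuotientGroup.le_comap_mk' M₀ _)
      have h3 : zpowers z₀ = ⊥ := by
        rw [← map_comap_eq_self_of_surjective hπ (zpowers z₀), h2, Subgroup.map_eq_bot_iff, hkerπ]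
      rw [zpowers_eq_bot] at h3
      rw [h3, orderOf_one] at hz₀
      exact hp.out.ne_one hz₀.symm
  have hZc : Z ≤ Subgroup.center Y := hZeq ▸ zpowers_le.mpr hz₀c
  have hZcard : Nat.card Z = p := by rw [hZeq, Nat.card_zpowers, hz₀]
  have hZp : IsPGroup p Z := hYp.to_subgroup Z
  have hZcomm : IsMulCommutative Z :=
    ⟨⟨fun a b => Subtype.ext (Subgroup.mem_center_iff.mp (hZc b.2) a)⟩⟩
  -- the maps to `G ⧸ K`
  set f : G →* G ⧸ K := QuotientGroup.mk' K
  have hM₀K : M₀ ≤ (f.comp (P : Subgroup G).subtype).ker := by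
    intro x hx
    rw [MonoidHom.mem_ker]
    exact (QuotientGroup.eq_one_iff _).mpr (mem_subgroupOf.mp (hM₀Q.le hx))
  set h : Y →* G ⧸ K := QuotientGroup.lift M₀ (f.comp (P : Subgroup G).subtype) hM₀K
  have hπh : ∀ x : (P : Subgroup G), h (π x) = f x := fun x => rfl
  have hker : ∀ y : Y, h y = 1 → y ∈ Z := by
    intro y hy
    obtain ⟨x, rfl⟩ := hπ y
    rw [hπh] at hy
    exact ⟨x, mem_subgroupOf.mpr ((QuotientGroup.eq_one_iff _).mp hy), rfl⟩
  -- the extension
  set E : Subgroup (G × Y) :=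
    MonoidHom.eqLocus (f.comp (MonoidHom.fst G Y)) (h.comp (MonoidHom.snd G Y))
  have memE : ∀ e : G × Y, e ∈ E ↔ f e.1 = h e.2 := fun e => Iff.rfl
  set π₁ : E →* G := (MonoidHom.fst G Y).comp E.subtype
  have hPr : (P : Subgroup G) ≤ π₁.range := by
    intro x hx
    exact ⟨⟨(x, π ⟨x, hx⟩), (memE _).mpr (hπh ⟨x, hx⟩).symm⟩, rfl⟩
  set S : Subgroup E := (P : Subgroup G).comap π₁
  have hSidx : ¬ p ∣ S.index := by
    rw [index_comap]
    exact fun hd => P.not_dvd_index (hd.trans (relIndex_dvd_index_of_le hPr))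
  have hmemZ : ∀ e : S, (π ⟨((e : E) : G × Y).1, e.2⟩)⁻¹ * ((e : E) : G × Y).2 ∈ Z := by
    intro e
    refine hker _ ?_
    rw [map_mul, map_inv, hπh, ← (memE _).mp (e : E).2, inv_mul_cancel]
  let ϕ : S →* Z :=
    { toFun := fun e => ⟨_, hmemZ e⟩
      map_one' := Subtype.ext (by
        show (π (1 : (P : Subgroup G)))⁻¹ * 1 = 1
        simp)
      map_mul' := fun a b => Subtype.ext (by
        show (π ⟨((a : E) : G × Y).1 * ((b : E) : G × Y).1, _⟩)⁻¹ *
            (((a : E) : G × Y).2 * ((b : E) : G × Y).2) =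
          ((π ⟨((a : E) : G × Y).1, a.2⟩)⁻¹ * ((a : E) : G × Y).2) *
            ((π ⟨((b : E) : G × Y).1, b.2⟩)⁻¹ * ((b : E) : G × Y).2)
        have hc := Subgroup.mem_center_iff.mp (hZc (hmemZ a))
        have hm : π ⟨((a : E) : G × Y).1 * ((b : E) : G × Y).1, mul_mem a.2 b.2⟩ =
            π ⟨((a : E) : G × Y).1, a.2⟩ * π ⟨((b : E) : G × Y).1, b.2⟩ := by
          rw [← map_mul]; rfl
        rw [hm, mul_inv_rev]
        calc (π ⟨((b : E) : G × Y).1, b.2⟩)⁻¹ * (π ⟨((a : E) : G × Y).1, a.2⟩)⁻¹ *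
              (((a : E) : G × Y).2 * ((b : E) : G × Y).2)
            = (π ⟨((b : E) : G × Y).1, b.2⟩)⁻¹ * ((π ⟨((a : E) : G × Y).1, a.2⟩)⁻¹ *
                ((a : E) : G × Y).2) * ((b : E) : G × Y).2 := by simp only [mul_assoc]
          _ = _ := by rw [hc]; simp only [mul_assoc]) }
  have : S.FiniteIndex := inferInstance
  obtain ⟨τ, hτ⟩ : ∃ τ : E →* Z, τ = MonoidHom.transfer ϕ := ⟨_, rfl⟩
  have hcopr : (Nat.card Z).Coprime S.index := by
    rw [hZcard]
    exact (Nat.Prime.coprime_iff_not_dvd hp.out).mpr hSidx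
  -- the diagonal
  have hd : ∀ x : (P : Subgroup G), ((x : G), π x) ∈ E := fun x => (memE _).mpr (hπh x).symm
  let δ : (P : Subgroup G) →* E :=
    MonoidHom.codRestrict ((P : Subgroup G).subtype.prod π) E hd
  set a : (P : Subgroup G) →* Z := τ.comp δ
  -- `τ` kills `K × 1`
  have hK1 : ∀ k ∈ K, ∀ he : ((k, 1) : G × Y) ∈ E, τ ⟨(k, 1), he⟩ = 1 := by
    intro k hk he
    have hmem : ∀ k : K, ((MonoidHom.inl G Y).comp K.subtype) k ∈ E := fun k => by
      rw [memE]
      show f k = h 1
      rw [map_one]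
      exact (QuotientGroup.eq_one_iff (k : G)).mpr k.2
    have hle := pResidual_le_ker hZp
      (τ.comp (MonoidHom.codRestrict ((MonoidHom.inl G Y).comp K.subtype) E hmem))
    rw [hK] at hle
    have h2 : τ _ = 1 := hle (mem_top (⟨k, hk⟩ : K))
    exact h2
  -- `τ` is the power map on `1 × Z`
  have hZpow : ∀ (z : Z) (he : (((1 : G), (z : Y))) ∈ E), τ ⟨(1, z), he⟩ = z ^ S.index := by
    intro z he
    have hS : (⟨(1, (z : Y)), he⟩ : E) ∈ S := (P : Subgroup G).one_mem
    rw [hτ, MonoidHom.transfer_eq_pow ϕ _ ?_]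
    · have hϕ : ϕ ⟨⟨(1, (z : Y)), he⟩, hS⟩ = z := Subtype.ext (by
        show (π (⟨1, hS⟩ : (P : Subgroup G)))⁻¹ * (z : Y) = z
        rw [show (⟨1, hS⟩ : (P : Subgroup G)) = 1 from rfl, map_one, inv_one, one_mul])
      calc _ = ϕ ((⟨⟨(1, (z : Y)), he⟩, hS⟩ : S) ^ S.index) := congrArg ϕ (Subtype.ext rfl)
        _ = _ := by rw [map_pow, hϕ]
    · intro k e₀ _
      refine Commute.inv_mul_cancel (Commute.pow_right ?_ k)
      apply Subtype.ext
      refine Prod.ext ?_ ?_
      · show (e₀ : G × Y).1 * 1 = 1 * (e₀ : G × Y).1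
        rw [mul_one, one_mul]
      · exact Subgroup.mem_center_iff.mp (hZc z.2) _
  -- the value of `a` on `P ⊓ K`
  have ha : ∀ q : (P : Subgroup G), ∀ hq : q ∈ Q, a q = ⟨π q, mem_map_of_mem π hq⟩ ^ S.index := by
    intro q hq
    have h1 : ((q : G), (1 : Y)) ∈ E := by
      rw [memE, map_one]
      exact (QuotientGroup.eq_one_iff (q : G)).mpr (mem_subgroupOf.mp hq)
    have h2 : (((1 : G), π q)) ∈ E := by
      rw [memE]
      show f 1 = h (π q)
      rw [map_one, hπh]
      exact ((QuotientGroup.eq_one_iff (q : G)).mpr (mem_subgroupOf.mp hq)).symm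
    have hsplit : δ q = ⟨((q : G), 1), h1⟩ * ⟨(1, π q), h2⟩ :=
      Subtype.ext (Prod.ext (mul_one _).symm (one_mul _).symm)
    show τ (δ q) = _
    rw [hsplit, map_mul, hK1 _ (mem_subgroupOf.mp hq) h1, one_mul]
    exact hZpow ⟨π q, mem_map_of_mem π hq⟩ h2
  obtain ⟨q, hq, hqM⟩ := SetLike.exists_of_lt hM₀Q
  have haq : a q ≠ 1 := by
    rw [ha q hq]
    intro h1
    have hinj := (powCoprime hcopr).injective
      (show powCoprime hcopr ⟨π q, mem_map_of_mem π hq⟩ = powCoprime hcopr 1 by
        simpa using h1)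
    exact hqM (by rw [← hkerπ]; exact congrArg Subtype.val hinj)
  refine ⟨a.ker, inferInstance, ?_, ?_, fun hle => haq (hle hq)⟩
  · rw [index_ker]
    rcases (Nat.dvd_prime hp.out).mp (hZcard ▸ card_subgroup_dvd_card a.range) with h1 | h1
    · exfalso
      have := card_eq_one.mp h1
      exact haq (by rw [MonoidHom.range_eq_bot_iff.mp this]; rfl)
    · exact h1
  · intro m hm
    have hmQ := hM₀Q.le (hMM₀ hm)
    rw [MonoidHom.mem_ker, ha m hmQ]
    have : (⟨π m, mem_map_of_mem π hmQ⟩ : Z) = 1 :=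
      Subtype.ext ((QuotientGroup.eq_one_iff m).mpr (hMM₀ hm))
    rw [this, one_pow]

end Core

section Applications

variable {G : Type*} [Group G] [Finite G] {p : ℕ} [hp : Fact p.Prime]

omit [Finite G] in
theorem frattini_le_of_index_prime {L : Subgroup G} (hL : L.index = p) : frattini G ≤ L := by
  refine frattini_le_coatom ⟨fun h => ?_, fun M hM => ?_⟩
  · rw [h, index_top] at hL; exact hp.out.ne_one hL.symm
  · by_contra hne
    have h1 : M.index = p :=
      ((Nat.dvd_prime hp.out).mp (hL ▸ index_dvd_of_le hM.le)).resolve_left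
        (fun h => hne (index_eq_one.mp h))
    have h2 := relIndex_mul_index hM.le
    rw [hL, h1] at h2
    exact not_le_of_gt hM
      (relIndex_eq_one.mp (Nat.eq_of_mul_eq_mul_right hp.out.pos (h2.trans (one_mul p).symm)))

omit [Finite G] in
theorem commutator_le_of_index_prime {L : Subgroup G} [L.Normal] (hL : L.index = p) :
    _root_.commutator G ≤ L := by
  have : IsCyclic (G ⧸ L) :=
    isCyclic_of_prime_card (p := p) (by rw [← index_eq_card, hL])
  let _ := IsCyclic.commGroup (α := G ⧸ L)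
  exact Subgroup.Normal.quotient_commutative_iff_commutator_le.mp ⟨⟨mul_comm⟩⟩

/-- A normal subgroup meeting a Sylow `p`-subgroup trivially has order prime to `p`. -/
theorem coprime_card_of_sylow_inf_eq_bot (P : Sylow p G) {K : Subgroup G} [hK : K.Normal]
    (h : (P : Subgroup G) ⊓ K = ⊥) : (Nat.card K).Coprime p := by
  refine ((Nat.Prime.coprime_iff_not_dvd hp.out).mpr fun hd => ?_).symm
  obtain ⟨x, hx⟩ := exists_prime_orderOf_dvd_card' (G := K) p hd
  have hxp : IsPGroup p (zpowers (x : G)) :=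
    IsPGroup.of_card (n := 1) (by rw [Nat.card_zpowers, Subgroup.orderOf_coe, hx, pow_one])
  obtain ⟨R, hR⟩ := hxp.exists_le_sylow
  obtain ⟨g, hg⟩ := MulAction.exists_smul_eq G P R
  have hxR := hR (mem_zpowers (x : G))
  rw [← hg, mem_sylow_smul] at hxR
  have hxK : g⁻¹ * (x : G) * g ∈ K := by simpa using hK.conj_mem _ x.2 g⁻¹
  have h1 : g⁻¹ * (x : G) * g = 1 := by
    rw [← Subgroup.mem_bot, ← h]; exact ⟨hxR, hxK⟩
  have h2 : x = 1 := by
    apply Subtype.ext
    show (x : G) = 1
    calc (x : G) = g * (g⁻¹ * (x : G) * g) * g⁻¹ := by group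
      _ = 1 := by rw [h1]; simp
  rw [h2, orderOf_one] at hx
  exact hp.out.ne_one hx.symm

/-- **Tate's theorem**, normal subgroup form. -/
theorem hasNormalPComplement_of_inf_le_frattini (P : Sylow p G) (N : Subgroup G) [N.Normal]
    (h : N ⊓ (P : Subgroup G) ≤ (frattini P).map (P : Subgroup G).subtype) :
    HasNormalPComplement p N := by
  set K : Subgroup G := (pResidual p N).map N.subtype with hKdef
  have hKn : K.Normal := inferInstance
  let e : pResidual p N ≃* K := (pResidual p N).equivMapOfInjective N.subtype N.subtype_injective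
  have hK : pResidual p K = ⊤ := by
    rw [← map_pResidual_mulEquiv e, pResidual_pResidual, map_top_of_surjective _ e.surjective]
  have hbot : K.subgroupOf (P : Subgroup G) = ⊥ := by
    by_contra hne
    obtain ⟨L, _, hLi, -, hL⟩ := exists_maximal_not_le hK P ⊥ (bot_lt_iff_ne_bot.mpr hne)
    refine hL fun x hx => ?_
    obtain ⟨y, hy, hyx⟩ := h ⟨map_subtype_le _ (mem_subgroupOf.mp hx), x.2⟩
    exact Subtype.ext hyx ▸ frattini_le_of_index_prime hLi hy
  refine hasNormalPComplement_of_coprime_pResidual ?_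
  rw [Nat.card_congr e.toEquiv]
  refine coprime_card_of_sylow_inf_eq_bot P ?_
  rw [inf_comm]
  exact disjoint_iff.mp (subgroupOf_eq_bot.mp hbot)

/-- To bound `P ⊓ O^p(G)` by a normal subgroup `R` of `P` it suffices that the focal subgroup lies
in every normal subgroup of index `p` containing `R`. -/
theorem inf_pResidual_le_of_focal (P : Sylow p G) (R : Subgroup (P : Subgroup G)) [R.Normal]
    (hR : R ≤ (pResidual p G).subgroupOf (P : Subgroup G))
    (hcrit : ∀ L : Subgroup (P : Subgroup G), L.Normal → L.index = p → R ≤ L →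
      (_root_.commutator G).subgroupOf (P : Subgroup G) ≤ L) :
    (pResidual p G).subgroupOf (P : Subgroup G) = R := by
  by_contra hne
  obtain ⟨L, hLn, hLi, hRL, hL⟩ := exists_maximal_not_le pResidual_pResidual P R
    (lt_of_le_of_ne hR (Ne.symm hne))
  refine hL fun x hx => hcrit L hLn hLi hRL ?_
  -- `P ⊓ O^p(G) ≤ G'` as the transfer onto `P` modulo its focal subgroup kills `O^p(G)`
  have h1 : (x : G) ∈ (Subgroup.transferFocal (P : Subgroup G)).ker ⊓ (P : Subgroup G) :=
    ⟨pResidual_le_ker (P.2.to_quotient _) _ (mem_subgroupOf.mp hx), x.2⟩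
  rw [Subgroup.ker_transferFocal_inf_eq_focalSubgroup] at h1
  exact mem_subgroupOf.mpr (Subgroup.focalSubgroup_le_commutator _ h1)

/-- **Tate's theorem**: a subgroup controlling transfer controls `p`-residuals. -/
theorem inf_pResidual_eq_of_commutator_le (P : Sylow p G) {H : Subgroup G}
    (hPH : (P : Subgroup G) ≤ H)
    (hfoc : _root_.commutator G ⊓ (P : Subgroup G) ≤ ⁅H, H⁆) :
    (P : Subgroup G) ⊓ pResidual p G =
      (P : Subgroup G) ⊓ (pResidual p H).map H.subtype := by
  set R : Subgroup (P : Subgroup G) :=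
    (pResidual p H).comap (Subgroup.inclusion hPH) with hRdef
  have hRmap : R = ((pResidual p H).map H.subtype).subgroupOf (P : Subgroup G) := by
    ext x
    rw [mem_subgroupOf, hRdef, mem_comap]
    exact (mem_map_iff_mem H.subtype_injective).symm
  have hRn : R.Normal := pResidual_normal.comap _
  have key : (pResidual p G).subgroupOf (P : Subgroup G) = R := by
    refine inf_pResidual_le_of_focal P R (hRmap ▸ comap_mono (map_subtype_pResidual_le H)) ?_
    intro L hLn hLi hRL x hx
    set φ : H →* H ⧸ pResidual p H := QuotientGroup.mk' _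
    set ψ : (P : Subgroup G) →* H ⧸ pResidual p H := φ.comp (Subgroup.inclusion hPH)
    have hψ : Function.Surjective ψ := by
      intro y
      obtain ⟨g, rfl⟩ := QuotientGroup.mk_surjective y
      obtain ⟨a, ha, k, hk, rfl⟩ := exists_mul_mem_pResidual (P.subtype hPH) g
      refine ⟨⟨a, ha⟩, ?_⟩
      show φ a = φ (a * k)
      rw [map_mul, show φ k = 1 from (QuotientGroup.eq_one_iff k).mpr hk, mul_one]
    have hxH : Subgroup.inclusion hPH x ∈ _root_.commutator H := by
      have h0 := hfoc ⟨mem_subgroupOf.mp hx, x.2⟩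
      rw [← map_subtype_commutator] at h0
      exact (mem_map_iff_mem H.subtype_injective).mp h0
    have h1 : ψ x ∈ (_root_.commutator (P : Subgroup G)).map ψ := by
      rw [_root_.commutator_def, map_commutator, map_top_of_surjective ψ hψ]
      have h2 := mem_map_of_mem φ hxH
      rw [_root_.commutator_def, map_commutator,
        map_top_of_surjective φ (QuotientGroup.mk'_surjective _)] at h2
      exact h2
    obtain ⟨y, hy, hyx⟩ := h1
    have h3 : y⁻¹ * x ∈ R := by
      rw [hRdef, mem_comap]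
      refine (QuotientGroup.eq_one_iff _).mp ?_
      show ψ (y⁻¹ * x) = 1
      rw [map_mul, map_inv, hyx, inv_mul_cancel]
    have h4 := mul_mem (commutator_le_of_index_prime hLi hy) (hRL h3)
    rwa [mul_inv_cancel_left] at h4
  have h := congrArg (Subgroup.map (P : Subgroup G).subtype) (key.trans hRmap)
  rw [subgroupOf_map_subtype, subgroupOf_map_subtype, inf_comm] at h
  rw [h, inf_comm]

end Applications

end CfsgLib.Transfer
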