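import Cfsg.Agent.Lib.Techniques.Sections
import Cfsg.Agent.Lib.PLocal.ZJ
import Cfsg.Agent.Lib.PLocal.Factorization
import Cfsg.Agent.Lib.Transfer.PResidual
import Cfsg.Agent.Lib.Transfer.CoprimeAut
import Cfsg.Agent.Lib.Transfer.Tate
import Mathlib.GroupTheory.SemidirectProduct

/-!
# From linear `p`-stability to `p`-stability on normal `p`-subgroups

`NoQuad p G`: no section of `G` without normal `p`-subgroups has a nontrivial `p`-element acting
quadratically in a faithful action on an elementary abelian `p`-group. Then quadratic elements lie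
in `O_p` modulo the centralizer of every normal `p`-subgroup.
-/

set_option autoImplicit false

namespace CfsgLib.Transfer

open Subgroup Cfsg CfsgLib.Core CfsgLib.Techniques
open scoped commutatorElement

universe u

/-- no linear quadratic action of sections -/
def NoQuad (p : ℕ) (G : Type u) [Group G] : Prop :=
  ∀ (X : Type u) [Group X] [Finite X] (V H : Subgroup X), IsSec G ↥H →
    IsElementaryAbelian p V → H ≤ normalizer (V : Set X) → H ⊓ centralizer (V : Set X) = ⊥ →
    pCore p ↥H = ⊥ → ∀ x ∈ H, (∃ k : ℕ, orderOf x = p ^ k) →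
      ⁅⁅V, zpowers x⁆, zpowers x⁆ = ⊥ → x = 1

theorem NoQuad.of_isSec {p : ℕ} {G Q : Type u} [Group G] [Group Q] (h : NoQuad p G)
    (hQ : IsSec G Q) : NoQuad p Q := fun X _ _ V H hH =>
  h X V H (by obtain ⟨K, f, hf⟩ := hH; exact (hQ.subgroup K).of_surjective f hf)

variable {p : ℕ}

theorem map_zpowers_quad {G H : Type*} [Group G] [Group H] (f : G →* H) {P : Subgroup G} {a : G}
    (hq : ⁅⁅P, zpowers a⁆, zpowers a⁆ = ⊥) :
    ⁅⁅P.map f, zpowers (f a)⁆, zpowers (f a)⁆ = ⊥ := by
  rw [← MonoidHom.map_zpowers, ← map_commutator, ← map_commutator, hq, Subgroup.map_bot]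

/-- the linear step on a minimal normal subgroup -/
theorem mem_centralizer_of_noQuad {G : Type u} [Group G] [Finite G] [Fact p.Prime]
    (hG : NoQuad p G) (V : Subgroup G) [V.Normal] (hV : IsElementaryAbelian p V)
    (hO : pCore p (G ⧸ centralizer (V : Set G)) = ⊥) {a : G} (ha : ∃ k : ℕ, orderOf a = p ^ k)
    (hq : ⁅⁅V, zpowers a⁆, zpowers a⁆ = ⊥) : a ∈ centralizer (V : Set G) := by
  set C := centralizer (V : Set G) with hC
  let φ : G ⧸ C →* MulAut V := QuotientGroup.lift C (MulAut.conjNormal (H := V)) fun g hg =>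
    MulEquiv.ext fun v => Subtype.ext (by
      rw [MulAut.conjNormal_apply]
      exact PLocal.mem_centralizer_iff_conj.1 hg v v.2)
  let ι : V →* V ⋊[φ] (G ⧸ C) := SemidirectProduct.inl
  let κ : G ⧸ C →* V ⋊[φ] (G ⧸ C) := SemidirectProduct.inr
  have : Finite (V ⋊[φ] (G ⧸ C)) := Finite.of_equiv _ SemidirectProduct.equivProd.symm
  have hfix : ∀ (g : G) (v : V), ((φ (g : G ⧸ C) v : V) : G) = g * v * g⁻¹ := fun g v =>
    MulAut.conjNormal_apply g v
  have hconj : ∀ (q : G ⧸ C) (v : V), κ q * ι v * (κ q)⁻¹ = ι (φ q v) := fun q v => by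
    rw [← map_inv]; exact (SemidirectProduct.inl_aut q v).symm
  have hel : IsElementaryAbelian p ι.range := by
    rw [MonoidHom.range_eq_map]
    refine CfsgLib.PLocal.elementary_map ι ⟨le_centralizer_iff_isMulCommutative.1 fun x _ =>
      mem_centralizer_iff.2 fun y _ => Subtype.ext (PLocal.comm_of_mem hV.1 y.2 x.2), fun x _ =>
      Subtype.ext (hV.2 x x.2)⟩
  have hN : κ.range ≤ normalizer (ι.range : Set (V ⋊[φ] (G ⧸ C))) := by
    have hn : ι.range.Normal := by
      rw [SemidirectProduct.range_inl_eq_ker_rightHom]; infer_instance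
    rw [normalizer_eq_top_iff.2 hn]
    exact le_top
  have hf : κ.range ⊓ centralizer (ι.range : Set (V ⋊[φ] (G ⧸ C))) = ⊥ := by
    rw [eq_bot_iff]
    rintro _ ⟨⟨q, rfl⟩, hc⟩
    obtain ⟨g, rfl⟩ := QuotientGroup.mk_surjective q
    rw [mem_bot, ← map_one κ]
    congr 1
    rw [QuotientGroup.eq_one_iff]
    refine PLocal.mem_centralizer_iff_conj.2 fun v hv => ?_
    have h1 := mem_centralizer_iff.1 hc (ι ⟨v, hv⟩) ⟨_, rfl⟩
    have h2 : ι (φ (g : G ⧸ C) ⟨v, hv⟩) = ι ⟨v, hv⟩ := by
      rw [← hconj, ← h1, mul_inv_cancel_right]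
    rw [← hfix g ⟨v, hv⟩, SemidirectProduct.inl_injective h2]
  have e : G ⧸ C ≃* κ.range := MonoidHom.ofInjective SemidirectProduct.inr_injective
  have hO' : pCore p κ.range = ⊥ := by
    have h1 := map_pCore_le (p := p) e.symm.toMonoidHom e.symm.surjective
    rw [hO, le_bot_iff] at h1
    exact (Subgroup.map_eq_bot_iff_of_injective _ e.symm.injective).1 h1
  have hord : ∃ k : ℕ, orderOf (κ (a : G ⧸ C)) = p ^ k := by
    obtain ⟨k, hk⟩ := ha
    obtain ⟨i, -, hi⟩ := (Nat.dvd_prime_pow Fact.out).1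
      (hk ▸ orderOf_map_dvd (κ.comp (QuotientGroup.mk' C)) a)
    exact ⟨i, hi⟩
  have hquad : ⁅⁅ι.range, zpowers (κ (a : G ⧸ C))⁆, zpowers (κ (a : G ⧸ C))⁆ = ⊥ := by
    have key : ∀ v : V, ∀ n : ℤ, ⁅ι v, κ ((a : G ⧸ C) ^ n)⁆ =
        ι ⟨⁅(v : G), a ^ n⁆, (commutator_le_left V (zpowers a))
          (commutator_mem_commutator v.2 (zpow_mem (mem_zpowers a) n))⟩ := by
      intro v n
      rw [commutatorElement_def, ← QuotientGroup.mk_zpow,
        show ι v * κ ((a ^ n : G) : G ⧸ C) * (ι v)⁻¹ * (κ ((a ^ n : G) : G ⧸ C))⁻¹ =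
          ι v * (κ ((a ^ n : G) : G ⧸ C) * ι v⁻¹ * (κ ((a ^ n : G) : G ⧸ C))⁻¹) by
          rw [map_inv]; group, hconj, ← map_mul]
      congr 1
      refine Subtype.ext ?_
      show (v : G) * ((φ ((a ^ n : G) : G ⧸ C) v⁻¹ : V) : G) = ⁅(v : G), a ^ n⁆
      rw [hfix, commutatorElement_def, coe_inv]
      group
    rw [commutator_eq_bot_iff_le_centralizer, commutator_le]
    rintro _ ⟨v, rfl⟩ _ hm
    obtain ⟨n, rfl⟩ := mem_zpowers_iff.1 hm
    rw [← map_zpow, key]
    rw [mem_centralizer_iff]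
    intro m hm'
    obtain ⟨i, rfl⟩ := mem_zpowers_iff.1 hm'
    rw [← map_zpow, eq_comm, ← commutatorElement_eq_one_iff_mul_comm, key]
    rw [← map_one ι]
    congr 1
    refine Subtype.ext ?_
    have h1 := commutator_mem_commutator (commutator_mem_commutator v.2
      (zpow_mem (mem_zpowers a) n)) (zpow_mem (mem_zpowers a) i)
    rw [hq, mem_bot] at h1
    exact h1
  have hx := hG _ ι.range κ.range (((isSec_self G).quotient C).of_surjective e.toMonoidHom
    e.surjective) hel hN hf hO' _ ⟨_, rfl⟩ hord hquad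
  rw [← map_one κ] at hx
  exact (QuotientGroup.eq_one_iff a).1 (SemidirectProduct.inr_injective hx)

/-- coprime elements of a normal subgroup which is a `p`-group modulo `C` lie in `C` -/
theorem mem_of_coprime_of_mem_comap_pCore {G : Type u} [Group G] [Finite G] [Fact p.Prime]
    {C : Subgroup G} [C.Normal] {x : G}
    (hx : (QuotientGroup.mk x : G ⧸ C) ∈ pCore p (G ⧸ C)) (hcop : (orderOf x).Coprime p) :
    x ∈ C := by
  rw [← QuotientGroup.eq_one_iff]
  have h := eq_one_of_coprime_of_isPGroup (isPGroup_pCore p (G ⧸ C)) (g := ⟨_, hx⟩) (by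
    rw [← Subgroup.orderOf_coe]
    exact hcop.coprime_dvd_left (orderOf_map_dvd (QuotientGroup.mk' C) x))
  exact congrArg Subtype.val h

/-- a normal subgroup whose coprime elements lie in `C` maps into `O_p(G/C)` -/
theorem mk_mem_pCore_of_coprime_mem {G : Type u} [Group G] [Finite G] [Fact p.Prime]
    {C D : Subgroup G} [C.Normal] [hD : D.Normal]
    (h : ∀ x ∈ D, (orderOf x).Coprime p → x ∈ C) {a : G} (ha : a ∈ D) :
    (QuotientGroup.mk a : G ⧸ C) ∈ pCore p (G ⧸ C) := by
  have : (D.map (QuotientGroup.mk' C)).Normal := hD.map _ (QuotientGroup.mk'_surjective C)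
  refine le_pCore (N := D.map (QuotientGroup.mk' C)) ?_ ⟨a, ha, rfl⟩
  rintro ⟨_, x, hx, rfl⟩
  obtain ⟨k, m, hm, hkm⟩ := Nat.exists_eq_pow_mul_and_not_dvd (orderOf_pos x).ne' p
    (Fact.out : p.Prime).ne_one
  refine ⟨k, Subtype.ext ?_⟩
  show (QuotientGroup.mk' C x) ^ p ^ k = 1
  rw [← map_pow, QuotientGroup.mk'_apply, QuotientGroup.eq_one_iff]
  refine h _ (pow_mem hx _) ?_
  rw [orderOf_pow' x (pow_pos (Fact.out : p.Prime).pos k).ne', hkm, Nat.gcd_mul_right_left,
    Nat.mul_div_cancel_left _ (pow_pos (Fact.out : p.Prime).pos k)]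
  exact ((Nat.Prime.coprime_iff_not_dvd Fact.out).2 hm).symm

theorem quadratic_mem_of_noQuad [Fact p.Prime] :
    ∀ (n : ℕ) (G : Type u) [Group G] [Finite G], NoQuad p G →
      ∀ (P : Subgroup G) [P.Normal], Nat.card P = n → IsPGroup p P → ∀ a : G,
        (∃ k : ℕ, orderOf a = p ^ k) → ⁅⁅P, zpowers a⁆, zpowers a⁆ = ⊥ →
        (QuotientGroup.mk a : G ⧸ centralizer (P : Set G)) ∈
          pCore p (G ⧸ centralizer (P : Set G)) := by
  intro n
  induction n using Nat.strong_induction_on with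
  | _ n ih =>
    intro G _ _ hG P hPn hn hP a ha hq
    rcases eq_or_ne P ⊥ with hPb | hPb
    · have : a ∈ centralizer (P : Set G) := mem_centralizer_iff.2 fun x hx => by
        rw [hPb] at hx; rw [mem_bot.1 hx, one_mul, mul_one]
      rw [(QuotientGroup.eq_one_iff a).2 this]
      exact one_mem _
    -- a minimal normal subgroup of `G` of exponent `p` central in `P`
    obtain ⟨z, hzP, hzc, hzo⟩ : ∃ z ∈ P, z ∈ centralizer (P : Set G) ∧ orderOf z = p := by
      haveI : Nontrivial P := (nontrivial_iff_ne_bot P).2 hPb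
      obtain ⟨z, -, hzc, hzo⟩ := exists_mem_center_orderOf_eq hP (Z := (⊤ : Subgroup P))
        (fun h => top_ne_bot h)
      exact ⟨z, z.2, mem_centralizer_iff.2 fun x hx =>
        congrArg Subtype.val (mem_center_iff.1 hzc ⟨x, hx⟩), by rw [orderOf_coe, hzo]⟩
    set W := P ⊓ centralizer (P : Set G) with hW
    let Ω : Subgroup G := omegaOne p W
    have hWc : IsMulCommutative W := le_centralizer_iff_isMulCommutative.1
      (inf_le_right.trans (centralizer_le (SetLike.coe_subset_coe.2 inf_le_left)))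
    have hΩn : Ω.Normal := by
      have hWn : W.Normal := inferInstance
      exact ⟨fun x hx g => by
        have hle : Ω ≤ Ω.comap (MulAut.conj g).toMonoidHom :=
          (Subgroup.closure_le _).2 fun y hy => Subgroup.subset_closure
            ⟨hWn.conj_mem y hy.1 g, by
              show (g * y * g⁻¹) ^ p = 1
              rw [conj_pow, hy.2, mul_one, mul_inv_cancel]⟩
        exact hle hx⟩
    have hΩne : Ω ≠ ⊥ := fun h => by
      have h1 : z ∈ Ω := Subgroup.subset_closure ⟨⟨hzP, hzc⟩, hzo ▸ pow_orderOf_eq_one z⟩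
      rw [h, mem_bot] at h1
      rw [h1, orderOf_one] at hzo
      exact (Fact.out : p.Prime).ne_one hzo.symm
    obtain ⟨V, ⟨hVn, hVΩ, hVne⟩, hVmin⟩ := Set.exists_min_image
      {V : Subgroup G | V.Normal ∧ V ≤ Ω ∧ V ≠ ⊥} (fun V => Nat.card V) (Set.toFinite _)
      ⟨Ω, hΩn, le_rfl, hΩne⟩
    have hVel : IsElementaryAbelian p V :=
      CfsgLib.PLocal.elementary_mono (CfsgLib.PGroups.isElementaryAbelian_omegaOne (H := W)) hVΩ
    have hVP : V ≤ P := (hVΩ.trans (CfsgLib.PGroups.omegaOne_le _)).trans inf_le_left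
    have hgen : V ≤ ⨆ S : Sylow p G, V ⊓ centralizer ((S : Subgroup G) : Set G) := by
      set R := ⨆ S : Sylow p G, V ⊓ centralizer ((S : Subgroup G) : Set G) with hR
      have hRV : R ≤ V := iSup_le fun S => inf_le_left
      have hRn : R.Normal := by
        refine ⟨fun x hx g => ?_⟩
        have hle : R ≤ R.comap (MulAut.conj g).toMonoidHom := iSup_le fun S y hy => by
          refine (le_iSup (fun T : Sylow p G => V ⊓ centralizer ((T : Subgroup G) : Set G)) (g • S)) ?_
          refine ⟨hVn.conj_mem y hy.1 g, ?_⟩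
          show g * y * g⁻¹ ∈ centralizer _
          rw [mem_centralizer_iff]
          rintro _ ⟨s, hs, rfl⟩
          show g * s * g⁻¹ * (g * y * g⁻¹) = g * y * g⁻¹ * (g * s * g⁻¹)
          calc g * s * g⁻¹ * (g * y * g⁻¹) = g * (s * y) * g⁻¹ := by group
            _ = _ := by rw [mem_centralizer_iff.1 hy.2 s hs]; group
        exact hle hx
      have hRne : R ≠ ⊥ := by
        obtain ⟨S⟩ : Nonempty (Sylow p G) := inferInstance
        have hVS : V ≤ (S : Subgroup G) := (hP.to_le hVP).le_sylow_of_normal S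
        obtain ⟨w, hwV, hwc, hwo⟩ := exists_mem_center_orderOf_eq S.2
          (Z := V.subgroupOf (S : Subgroup G)) (fun h => hVne (by
            rw [subgroupOf_eq_bot, disjoint_iff, inf_eq_left.2 hVS] at h
            exact h))
        intro h
        have h1 : (w : G) ∈ R := le_iSup
          (fun T : Sylow p G => V ⊓ centralizer ((T : Subgroup G) : Set G)) S
          ⟨hwV, mem_centralizer_iff.2 fun x hx => congrArg Subtype.val (mem_center_iff.1 hwc ⟨x, hx⟩)⟩
        rw [h, mem_bot] at h1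
        rw [← Subgroup.orderOf_coe, h1, orderOf_one] at hwo
        exact (Fact.out : p.Prime).ne_one hwo.symm
      exact (eq_of_le_of_card_ge hRV (hVmin R ⟨hRn, hRV.trans hVΩ, hRne⟩)).ge
    have haV : a ∈ centralizer (V : Set G) := mem_centralizer_of_noQuad hG V hVel
      (CfsgLib.PLocal.pCore_mod_centralizer_eq_bot V hgen) ha
      (eq_bot_iff.2 ((commutator_mono (commutator_mono hVP le_rfl) le_rfl).trans hq.le))
    set π := QuotientGroup.mk' V
    have hPn' : (P.map π).Normal := hPn.map π (QuotientGroup.mk'_surjective V)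
    have hlt : Nat.card (P.map π) < n := by
      have h1 := card_eq_card_quotient_mul_card_subgroup (π.comp P.subtype).ker
      have hk : Nat.card (π.comp P.subtype).ker = Nat.card V := by
        rw [← MonoidHom.comap_ker, QuotientGroup.ker_mk']
        exact Nat.card_congr (subgroupOfEquivOfLe hVP).toEquiv
      rw [hk, Nat.card_congr (QuotientGroup.quotientKerEquivRange (π.comp P.subtype)).toEquiv,
        MonoidHom.range_comp, range_subtype, hn] at h1
      rw [h1]
      exact lt_mul_of_one_lt_right Nat.card_pos (V.one_lt_card_iff_ne_bot.2 hVne)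
    have hrec := ih _ hlt (G ⧸ V) (hG.of_isSec ((isSec_self G).quotient V)) (P.map π) rfl
      (hP.map π) (π a) (by
        obtain ⟨k, hk⟩ := ha
        obtain ⟨i, -, hi⟩ := (Nat.dvd_prime_pow Fact.out).1 (hk ▸ orderOf_map_dvd π a)
        exact ⟨i, hi⟩) (map_zpowers_quad π hq)
    set C' := centralizer ((P.map π : Subgroup (G ⧸ V)) : Set (G ⧸ V))
    set D := ((pCore p ((G ⧸ V) ⧸ C')).comap (QuotientGroup.mk' C')).comap π ⊓
      centralizer (V : Set G) with hD
    refine mk_mem_pCore_of_coprime_mem (D := D) (fun x hx hcop => ?_) ⟨hrec, haV⟩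
    have h1 : π x ∈ C' := mem_of_coprime_of_mem_comap_pCore hx.1
      (hcop.coprime_dvd_left (orderOf_map_dvd π x))
    refine PLocal.mem_centralizer_iff_conj.2 fun y hy => ?_
    let α : MulAut P := MulAut.conjNormal x
    have hαpow : α ^ orderOf x = 1 := by
      rw [← map_pow, pow_orderOf_eq_one, map_one]
    have hy' := eq_of_fixed_diff hP α hcop hαpow (x := ⟨y, hy⟩) (Subtype.ext (by
      have hmemV : y⁻¹ * (x * y * x⁻¹) ∈ V := by
        rw [← QuotientGroup.eq_one_iff]
        show π (y⁻¹ * (x * y * x⁻¹)) = 1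
        rw [map_mul, map_inv, map_mul, map_mul, map_inv,
          ← mem_centralizer_iff.1 h1 (π y) ⟨y, hy, rfl⟩]
        group
      show x * (y⁻¹ * (x * y * x⁻¹)) * x⁻¹ = y⁻¹ * (x * y * x⁻¹)
      exact PLocal.mem_centralizer_iff_conj.1 hx.2 _ hmemV))
    exact congrArg Subtype.val hy'

/-- `NoQuad` gives the stability hypothesis of the ZJ theorem -/
theorem stableAt_of_noQuad {G : Type u} [Group G] [Finite G] [Fact p.Prime] (hG : NoQuad p G)
    (S : Sylow p G) : CfsgLib.PLocal.StableAt p (S : Subgroup G) := by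
  intro P _ hP a ha hq
  obtain ⟨k, hk⟩ := IsPGroup.iff_orderOf.1 S.2 ⟨a, ha⟩
  exact quadratic_mem_of_noQuad _ G hG P rfl hP a ⟨k, by rw [← hk, Subgroup.orderOf_mk]⟩ hq

end CfsgLib.Transfer
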