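import Cfsg.Agent.Lib.PLocal.ZJ
import Cfsg.Agent.Lib.PLocal.Factorization
import Cfsg.Agent.Lib.Transfer.Conj
import Cfsg.Agent.Lib.Transfer.PResidual
import Cfsg.Agent.Lib.Transfer.CoprimeAut

/-!
# Glauberman's ZJ theorem for the full centre of the elementary Thompson subgroup
-/

set_option autoImplicit false

namespace CfsgLib.Transfer

open Subgroup Cfsg CfsgLib.PLocal CfsgLib.Core
open scoped commutatorElement

variable {G : Type*} [Group G] {p : ℕ}

/-- largest elementary abelian subgroups of `T` -/
abbrev MaxElem (p : ℕ) (T A : Subgroup G) : Prop :=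
  IsMaxIn (fun A : Subgroup G => IsElementaryAbelian p A) T A

theorem thompsonOf_eq_sSup (T : Subgroup G) :
    thompsonSubgroupOf p T = sSup {A : Subgroup G | MaxElem p T A} := by
  rw [thompsonSubgroupOf, thompsonSubgroup]
  refine le_antisymm (map_le_iff_le_comap.2 (sSup_le fun A hA => map_le_iff_le_comap.1
    (le_sSup ((maxElementary_image T).le ⟨A, hA, rfl⟩)))) (sSup_le fun A hA => ?_)
  obtain ⟨A, hA', rfl⟩ := (maxElementary_image T).ge hA
  exact map_mono (le_sSup hA')

theorem thompsonOf_eq_of_forall [Finite G] {T S : Subgroup G} (hTS : T ≤ S)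
    (hall : ∀ A, MaxElem p S A → A ≤ T) : thompsonSubgroupOf p T = thompsonSubgroupOf p S := by
  obtain ⟨A₀, hA₀⟩ := exists_maxIn (goodPred_elementary (G := G) p) S
  rw [thompsonOf_eq_sSup, thompsonOf_eq_sSup]
  congr 1
  ext A
  refine ⟨fun hA => ⟨hA.1.trans hTS, hA.2.1, fun B h1 h2 =>
    (hA₀.2.2 B h1 h2).trans (hA.2.2 A₀ (hall A₀ hA₀) hA₀.2.1)⟩, fun hA => ?_⟩
  exact ⟨hall A hA, hA.2.1, fun B h1 h2 => hA.2.2 B (h1.trans hTS) h2⟩

theorem centerThompsonOf_le (T : Subgroup G) : centerThompsonOf p T ≤ T :=
  inf_le_left.trans (map_subtype_le _)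

theorem normalizer_le_normalizer_centerThompson (T : Subgroup G) :
    normalizer (T : Set G) ≤ normalizer (centerThompsonOf p T : Set G) := by
  have hJ : normalizer (T : Set G) ≤ normalizer (thompsonSubgroupOf p T : Set G) := fun g hg => by
    rw [mem_normalizer_iff_map_conj_eq] at hg ⊢
    have h := thompsonOf_conj (p := p) T g
    rw [show T.map (MulAut.conj g).toMonoidHom = T from hg] at h
    exact h
  exact (le_inf hJ (hJ.trans (normalizer_le_normalizer_centralizer _))).trans
    inf_normalizer_le_normalizer_inf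

theorem commute_of_mem_centerThompson {T : Subgroup G} {x y : G} (hx : x ∈ centerThompsonOf p T)
    (hy : y ∈ thompsonSubgroupOf p T) : y * x = x * y :=
  mem_centralizer_iff.1 hx.2 y hy

theorem centerThompson_comm {T : Subgroup G} {x y : G} (hx : x ∈ centerThompsonOf p T)
    (hy : y ∈ centerThompsonOf p T) : x * y = y * x :=
  commute_of_mem_centerThompson hy hx.1

theorem le_thompsonOf_of_max {T A : Subgroup G} (hA : MaxElem p T A) :
    A ≤ thompsonSubgroupOf p T := by
  rw [thompsonOf_eq_sSup]; exact le_sSup hA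

theorem mem_maxElem_of_centralizes [Finite G] {T A : Subgroup G} (hA : MaxElem p T A) {x : G}
    (hxT : x ∈ T) (hx : x ^ p = 1) (hc : x ∈ centralizer (A : Set G)) : x ∈ A := by
  have hel := elementary_sup (elementary_zpowers hx) hA.2.1 (zpowers_le.2 hc)
  have := eq_of_le_of_card_ge (le_sup_right : A ≤ zpowers x ⊔ A)
    (hA.2.2 _ (sup_le (zpowers_le.2 hxT) hA.1) hel)
  rw [this]
  exact mem_sup_left (mem_zpowers x)

/-- elements of order dividing `p` of `Z(J)` lie in every largest elementary subgroup -/
theorem mem_zCore_of_mem_centerThompson [Finite G] {T : Subgroup G} {x : G}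
    (hx : x ∈ centerThompsonOf p T) (hxp : x ^ p = 1) :
    x ∈ zCore (fun A : Subgroup G => IsElementaryAbelian p A) T := by
  rw [zCore, Subgroup.mem_sInf]
  exact fun A hA => mem_maxElem_of_centralizes hA (centerThompsonOf_le T hx) hxp
    (mem_centralizer_iff.2 fun a ha => commute_of_mem_centerThompson hx (le_thompsonOf_of_max hA ha))

/-- `C` is generated by its elements of order prime to `p` and one Sylow `p`-subgroup. -/
theorem le_of_coprime_mem [Finite G] [Fact p.Prime] {C T N : Subgroup G} (T' : Sylow p C)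
    (hT : (T' : Subgroup C).map C.subtype = T) (hcop : ∀ g ∈ C, (orderOf g).Coprime p → g ∈ N)
    (hTN : T ≤ N) : C ≤ N := by
  have h1 : pResidual p C ⊔ (T' : Subgroup C) ≤ N.subgroupOf C := by
    refine sup_le ((Subgroup.closure_le _).2 fun g hg => hcop g g.2 ?_) fun t ht => hTN (hT ▸ ⟨t, ht, rfl⟩)
    rw [orderOf_coe]; exact hg
  rw [pResidual_sup_sylow T'] at h1
  exact fun x hx => h1 (mem_top ⟨x, hx⟩)

/-- an element of order prime to `p` (odd) normalising a `p`-group and fixing its elements of
order `p` centralises it -/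
theorem mem_centralizer_of_fixes_order_p [Finite G] [Fact p.Prime] (hp : p ≠ 2) {X : Subgroup G}
    (hX : IsPGroup p X) {h : G} (hh : h ∈ normalizer (X : Set G)) (hcop : (orderOf h).Coprime p)
    (hfix : ∀ x ∈ X, x ^ p = 1 → h * x * h⁻¹ = x) : h ∈ centralizer (X : Set G) := by
  have h1 := eq_one_of_fixes_order_p (p := p) hp (Nat.card X) X le_rfl hX
    (X.normalizerMonoidHom ⟨h, hh⟩) (orderOf h) hcop
    (by rw [← map_pow, show (⟨h, hh⟩ : normalizer (X : Set G)) ^ orderOf h = 1 from
      Subtype.ext (pow_orderOf_eq_one h), map_one])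
    (fun x hx => Subtype.ext (hfix x x.2 (congrArg Subtype.val hx)))
  refine mem_centralizer_iff_conj.2 fun x hx => ?_
  exact congrArg Subtype.val (DFunLike.congr_fun h1 (⟨x, hx⟩ : X))

theorem mem_normalizer_of_map_conj_le [Finite G] {R : Subgroup G} {g : G}
    (h : R.map (MulAut.conj g).toMonoidHom ≤ R) : g ∈ normalizer (R : Set G) := by
  rw [mem_normalizer_iff_map_conj_eq]
  exact eq_of_le_of_card_ge h (card_map_of_injective _ (MulAut.conj g).injective R).ge

theorem frattini_subgroup_normal (B : Subgroup G) [B.Normal] :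
    ((frattini B).map B.subtype).Normal := inferInstance

/-- The key induction: coprime elements of `C(Ω₁ Z(J))` centralise `B ∩ Z(J)`. -/
theorem coprime_centralizes_inf_centerThompson [Finite G] [Fact p.Prime] (hp : p ≠ 2)
    (S : Sylow p G) (hst : StableAt p (S : Subgroup G))
    (hW : (zCore (fun A : Subgroup G => IsElementaryAbelian p A) (S : Subgroup G)).Normal) :
    ∀ B : Subgroup G, B.Normal → IsPGroup p B →
      (∀ h ∈ centralizer (zCore (fun A : Subgroup G => IsElementaryAbelian p A) (S : Subgroup G) : Set G),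
        (orderOf h).Coprime p →
        ∀ x ∈ B ⊓ centerThompsonOf p (S : Subgroup G), h * x * h⁻¹ = x) ∧
      (B ⊓ centerThompsonOf p (S : Subgroup G)).Normal := by
  set S₀ := (S : Subgroup G) with hS₀
  set W := zCore (fun A : Subgroup G => IsElementaryAbelian p A) S₀ with hWdef
  set Z := centerThompsonOf p S₀ with hZ
  set C := centralizer (W : Set G) with hC
  have hCn : C.Normal := by rw [hC]; infer_instance
  have hSZ : S₀ ≤ normalizer (Z : Set G) :=
    le_normalizer.trans (normalizer_le_normalizer_centerThompson S₀)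
  -- all largest elementary subgroups centralise `W`
  have hEC : ∀ A, MaxElem p S₀ A → A ≤ C := fun A hA a ha =>
    mem_centralizer_iff.2 fun w hw => comm_of_mem hA.2.1.1 (zCore_le_of_max hA hw) ha
  set Tc := S₀ ⊓ C with hTc
  have hndC : ¬ p ∣ S₀.relIndex C := fun hd =>
    S.not_dvd_index (hd.trans (CfsgLib.HallGen.relIndex_dvd_index_right _ _))
  let Tc' : Sylow p C := (S.2.comap_subtype).toSylow hndC
  have hTc' : (Tc' : Subgroup C).map C.subtype = Tc := subgroupOf_map_subtype _ _
  have hfrC : normalizer (Tc : Set G) ⊔ C = ⊤ := hTc' ▸ Sylow.normalizer_sup_eq_top Tc'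
  have hJTc : thompsonSubgroupOf p Tc = thompsonSubgroupOf p S₀ :=
    thompsonOf_eq_of_forall inf_le_left fun A hA => le_inf hA.1 (hEC A hA)
  have hNTc : normalizer (Tc : Set G) ≤ normalizer (Z : Set G) := by
    have := normalizer_le_normalizer_centerThompson (p := p) Tc
    rwa [centerThompsonOf, hJTc] at this
  intro B
  induction hn : Nat.card B using Nat.strong_induction_on generalizing B with
  | _ n ih =>
    intro hB hBp
    -- the centralising statement implies normality
    suffices hmain : ∀ h ∈ C, (orderOf h).Coprime p → ∀ x ∈ B ⊓ Z, h * x * h⁻¹ = x by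
      refine ⟨hmain, normalizer_eq_top_iff.1 (eq_top_iff.2 (hfrC ▸ sup_le ?_ ?_))⟩
      · exact (le_inf le_normalizer_of_normal hNTc).trans inf_normalizer_le_normalizer_inf
      · refine le_of_coprime_mem Tc' hTc' (fun g hg hcop => ?_) ?_
        · exact centralizer_le_normalizer _ (mem_centralizer_iff_conj.2 (hmain g hg hcop))
        · exact inf_le_left.trans ((le_inf le_normalizer_of_normal hSZ).trans
            inf_normalizer_le_normalizer_inf)
    have hBS : B ≤ S₀ := hBp.le_sylow_of_normal S
    have hSB : S₀ ≤ normalizer (B : Set G) := le_normalizer_of_normal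
    set X := B ⊓ Z with hX
    have hXB : X ≤ B := inf_le_left
    have hXZ : X ≤ Z := inf_le_right
    set B₁ := normalClosure (X : Set G) with hB₁
    have hB₁n : B₁.Normal := normalClosure_normal
    have hB₁B : B₁ ≤ B := normalClosure_le_normal (SetLike.coe_subset_coe.2 hXB)
    have hXB₁ : X ≤ B₁ := fun x hx => subset_normalClosure hx
    rcases hB₁B.lt_or_eq with hlt | hBeq
    · have := (ih _ (hn ▸ Set.Finite.card_lt_card (Set.toFinite _) (SetLike.coe_ssubset_coe.2 hlt))
        B₁ rfl hB₁n (hBp.to_le hB₁B)).1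
      intro h hh hcop x hx
      exact this h hh hcop x ⟨hXB₁ hx, hx.2⟩
    rcases eq_or_ne B ⊥ with hbot | hbot
    · intro h _ _ x hx
      have : x = 1 := by simpa [hbot] using hx.1
      simp [this]
    haveI : Nontrivial B := nontrivial_iff_ne_bot _ |>.2 hbot
    -- the Frattini subgroup of `B`
    set Φ := (frattini B).map B.subtype with hΦ
    have hΦn : Φ.Normal := frattini_subgroup_normal B
    have hΦB : Φ ≤ B := map_subtype_le _
    have hΦlt : Φ < B := lt_of_le_of_ne hΦB fun h => CfsgLib.PGroups.frattini_ne_top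
      (map_injective B.subtype_injective (h.trans (by rw [← MonoidHom.range_eq_map, range_subtype])))
    have hB'Φ : ⁅B, B⁆ ≤ Φ := by
      rw [← map_subtype_commutator B]
      exact map_mono (CfsgLib.PGroups.commutator_le_frattini' hBp)
    obtain ⟨hNfix, hNn⟩ := ih _
      (hn ▸ Set.Finite.card_lt_card (Set.toFinite _) (SetLike.coe_ssubset_coe.2 hΦlt))
      Φ rfl hΦn (hBp.to_le hΦB)
    set N := Φ ⊓ Z with hN
    have hNc : ∀ z ∈ N, ∀ b ∈ B, b * z = z * b := by
      have h1 : B ≤ centralizer (N : Set G) := hBeq ▸ normalClosure_le_normal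
        (fun x hx => mem_centralizer_iff.2 fun z hz => centerThompson_comm hz.2 (hXZ hx))
      exact fun z hz b hb => (mem_centralizer_iff.1 (h1 hb) z hz).symm
    -- `[B, B] ≤ N`
    set Y := ⁅B, B⁆ ⊓ Z with hY
    have hYn : Y.Normal := by
      have : Y = ⁅B, B⁆ ⊓ N := by rw [hY, hN, ← inf_assoc, inf_eq_left.2 hB'Φ]
      rw [this]; infer_instance
    have hB'Z : ⁅B, B⁆ ≤ Z := by
      set π := QuotientGroup.mk' Y with hπ
      set K := (centralizer ((B.map π : Subgroup (G ⧸ Y)) : Set (G ⧸ Y))).comap π with hK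
      have hBn : (B.map π).Normal := hB.map π (QuotientGroup.mk'_surjective _)
      have hXK : X ≤ K := by
        intro x hx
        rw [hK, mem_comap, mem_centralizer_iff]
        rintro _ ⟨b, hb, rfl⟩
        rw [← map_mul, ← map_mul, ← mul_inv_eq_one, ← map_inv, ← map_mul]
        refine (QuotientGroup.eq_one_iff _).2 ?_
        have e : b * x * (x * b)⁻¹ = ⁅b, x⁆ := by rw [commutatorElement_def]; group
        rw [e]
        exact ⟨commutator_mem_commutator hb hx.1,
          Z.mul_mem (PLocal.conj_mem (hBS.trans hSZ) hb hx.2) (Z.inv_mem hx.2)⟩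
      have hBK : B ≤ K := hBeq ▸ normalClosure_le_normal (SetLike.coe_subset_coe.2 hXK)
      refine le_trans ?_ (inf_le_right : Y ≤ Z)
      refine commutator_le.2 fun a ha b hb => (QuotientGroup.eq_one_iff _).1 ?_
      show π ⁅a, b⁆ = 1
      rw [map_commutatorElement, commutatorElement_eq_one_iff_mul_comm]
      exact mem_centralizer_iff.1 (hBK hb) _ ⟨a, ha, rfl⟩
    have hB'N : ⁅B, B⁆ ≤ N := le_inf hB'Φ hB'Z
    -- class two, `p`-th powers central, commutators of order `p`
    have hcB : ∀ u v : B, ⁅u, v⁆ ∈ center B := fun u v => mem_center_iff.2 fun b => Subtype.ext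
      (hNc _ (hB'N (commutator_mem_commutator u.2 v.2)) b b.2)
    have hpowB : ∀ v : B, v ^ p ∈ center B := by
      let P₁ : Subgroup B :=
        { carrier := {v | v ^ p ∈ center B}
          one_mem' := by simp
          mul_mem' := fun {u v} hu hv => by
            show (u * v) ^ p ∈ center B
            rw [CfsgLib.PGroups.mul_pow_of_central (hcB v u)]
            exact mul_mem (mul_mem hu hv) (pow_mem (hcB v u) _)
          inv_mem' := fun {u} hu => by
            show u⁻¹ ^ p ∈ center B
            rw [inv_pow]; exact inv_mem hu }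
      intro v
      have hle : B₁ ≤ P₁.map B.subtype := by
        rw [hB₁, normalClosure, Subgroup.closure_le]
        intro y hy
        obtain ⟨x, hx, hxy⟩ := Group.mem_conjugatesOfSet_iff.1 hy
        obtain ⟨g, rfl⟩ := isConj_iff.1 hxy
        refine ⟨⟨g * x * g⁻¹, hB.conj_mem x (hXB hx) g⟩, mem_center_iff.2 fun b => Subtype.ext ?_, rfl⟩
        simp only [Subgroup.coe_mul, SubmonoidClass.coe_pow, conj_pow]
        refine hNc _ (hNn.conj_mem _ ⟨?_, pow_mem hx.2 p⟩ g) b b.2
        exact ⟨(⟨x, hXB hx⟩ : B) ^ p, CfsgLib.PGroups.pow_mem_frattini hBp _, rfl⟩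
      rw [hBeq] at hle
      obtain ⟨w, hw, hwv⟩ := hle v.2
      rwa [← B.subtype_injective hwv]
    have hcp : ∀ u v : B, ⁅u, v⁆ ^ p = 1 := fun u v => by
      rw [← CfsgLib.PGroups.comm_pow_left_of_central (hcB u v),
        commutatorElement_eq_one_iff_mul_comm]
      exact (mem_center_iff.1 (hpowB u) v).symm
    have hmulp : ∀ u v : B, (u * v) ^ p = u ^ p * v ^ p := fun u v =>
      CfsgLib.PGroups.mul_pow_of_central_odd (hcB v u) ((Fact.out : p.Prime).odd_of_ne_two hp)
        (hcp v u)
    have hB'W : ⁅B, B⁆ ≤ W := commutator_le.2 fun u hu v hv =>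
      mem_zCore_of_mem_centerThompson (hB'Z (commutator_mem_commutator hu hv))
        (congrArg Subtype.val (hcp ⟨u, hu⟩ ⟨v, hv⟩))
    -- commutators of `X` with coprime elements of `C` have order `p`
    have hu : ∀ h ∈ C, (orderOf h).Coprime p → ∀ x ∈ X, (x⁻¹ * (h * x * h⁻¹)) ^ p = 1 := by
      intro h hh hcop x hx
      have h1 := congrArg Subtype.val (hmulp ⟨x⁻¹, inv_mem (hXB hx)⟩
        ⟨h * x * h⁻¹, hB.conj_mem x (hXB hx) h⟩)
      simp only [SubmonoidClass.coe_pow, Subgroup.coe_mul] at h1
      rw [h1, conj_pow, hNfix h hh hcop (x ^ p) ⟨⟨(⟨x, hXB hx⟩ : B) ^ p,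
        CfsgLib.PGroups.pow_mem_frattini hBp _, rfl⟩, pow_mem hx.2 p⟩, inv_pow, inv_mul_cancel]
    -- `L`
    set L := (normalizer (X : Set G)).normalCore with hL
    have hLX : L ≤ normalizer (X : Set G) := normalCore_le _
    have hLn : L.Normal := normalCore_normal _
    set T := S₀ ⊓ L with hT
    have hnd : ¬ p ∣ S₀.relIndex L := fun hd =>
      S.not_dvd_index (hd.trans (CfsgLib.HallGen.relIndex_dvd_index_right _ _))
    let T' : Sylow p L := (S.2.comap_subtype).toSylow hnd
    have hT' : (T' : Subgroup L).map L.subtype = T := subgroupOf_map_subtype _ _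
    have hfr : normalizer (T : Set G) ⊔ L = ⊤ := hT' ▸ Sylow.normalizer_sup_eq_top T'
    by_cases hall : ∀ A, MaxElem p S₀ A → A ≤ L
    · have hJT : thompsonSubgroupOf p T = thompsonSubgroupOf p S₀ :=
        thompsonOf_eq_of_forall inf_le_left fun A hA => le_inf hA.1 (hall A hA)
      have hNT : normalizer (T : Set G) ≤ normalizer (Z : Set G) := by
        have := normalizer_le_normalizer_centerThompson (p := p) T
        rwa [centerThompsonOf, hJT] at this
      have hXn : X.Normal := normalizer_eq_top_iff.1 (eq_top_iff.2 (hfr ▸ sup_le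
        ((le_inf le_normalizer_of_normal hNT).trans inf_normalizer_le_normalizer_inf) hLX))
      intro h hh hcop x hx
      refine mem_centralizer_iff_conj.1 (mem_centralizer_of_fixes_order_p hp (hBp.to_le hXB)
        (by rw [normalizer_eq_top_iff.2 hXn]; trivial) hcop fun y hy hyp => ?_) x hx
      rw [← mem_centralizer_iff.1 hh y (mem_zCore_of_mem_centerThompson hy.2 hyp),
        mul_inv_cancel_right]
    exfalso
    push Not at hall
    obtain ⟨A₁, hA₁, hA₁L⟩ := hall
    obtain ⟨A, ⟨hA, hAL⟩, hmax⟩ := Set.exists_max_image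
      {A : Subgroup G | MaxElem p S₀ A ∧ ¬ A ≤ L} (fun A => Nat.card ↥(A ⊓ B)) (Set.toFinite _)
      ⟨A₁, hA₁, hA₁L⟩
    by_cases hBA : B ≤ normalizer (A : Set G)
    · -- `A` acts quadratically on `B`
      apply hAL
      set CB := centralizer (B : Set G) with hCB
      set K := (pCore p (G ⧸ CB)).comap (QuotientGroup.mk' CB) with hK
      have hAK : A ≤ K := by
        intro a ha
        refine hst B hBp a (hA.1 ha) ?_
        refine eq_bot_iff.2 ((commutator_mono (commutator_mono le_rfl (zpowers_le.2 ha))
          (zpowers_le.2 ha)).trans ?_)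
        refine (commutator_mono (le_normalizer_iff_commutator_le_right.1 hBA) le_rfl).trans ?_
        exact ((commutator_self_eq_bot_iff (H := A)).2 hA.2.1.1).le
      refine hAK.trans ?_
      have hKX : K ≤ normalizer (X : Set G) := by
        obtain ⟨k, hk⟩ := IsPGroup.iff_card.1 (isPGroup_pCore p (G ⧸ CB))
        have hidx : CB.relIndex K = p ^ k := by
          have h := relIndex_ker (QuotientGroup.mk' CB) (K := K)
          rw [QuotientGroup.ker_mk', hK,
            map_comap_eq_self_of_surjective (QuotientGroup.mk'_surjective _)] at h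
          rw [hK, h, hk]
        have hCK : CB ≤ K := le_of_eq_of_le (QuotientGroup.ker_mk' _).symm (ker_le_comap _ _)
        rw [← pGroup_mod_eq_sup hCK ⟨k, hidx⟩ S]
        refine sup_le (inf_le_left.trans ?_) ?_
        · exact le_trans (le_inf le_normalizer_of_normal hSZ) inf_normalizer_le_normalizer_inf
        · exact le_trans (centralizer_le (SetLike.coe_subset_coe.2 inf_le_left))
            (centralizer_le_normalizer _)
      exact normal_le_normalCore.2 hKX
    -- replacement inside `S₀`
    set B₀ := B.subgroupOf S₀ with hB₀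
    set A₀ := A.subgroupOf S₀ with hA₀
    have : B₀.Normal := (normal_subgroupOf_iff_le_normalizer hBS).2 hSB
    have hnot₀ : ¬ B₀ ≤ normalizer (A₀ : Set S₀) := by
      rw [hA₀, ← subgroupOf_normalizer_eq hA.1]
      exact fun h => hBA fun x hx => h (show (⟨x, hBS hx⟩ : S₀) ∈ B₀ from hx)
    obtain ⟨b, hb, hbN, hbA⟩ := exists_normalizing_element S.2 B₀ A₀ hnot₀
    have hA₀c : IsMulCommutative A₀ :=
      (elementary_comap S₀.subtype S₀.subtype_injective hA.2.1).1
    have hBA₀ : ⁅B₀, B₀⁆ ≤ A₀ := by
      rw [hA₀, subgroupOf, ← map_le_iff_le_comap, map_commutator, hB₀, subgroupOf_map_subtype,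
        inf_of_le_left hBS]
      exact hB'W.trans (zCore_le_of_max hA)
    have hspec := replacement S.2 B₀ (fun h2 => absurd h2 hp) A₀ hA₀c hBA₀ b hb hbN hbA
    set A' := (replace A₀ b).map S₀.subtype with hA'
    have hA'el : IsElementaryAbelian p A' := by
      refine elementary_map _ ((goodPred_elementary (G := S₀) p).of_exponent
        (elementary_comap S₀.subtype S₀.subtype_injective hA.2.1) hspec.comm (hspec.expo hp))
    have hA'max : MaxElem p S₀ A' := by
      refine ⟨map_subtype_le _, hA'el, fun D h1 h2 => (hA.2.2 D h1 h2).trans ?_⟩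
      rw [hA', card_map_of_injective _ S₀.subtype_injective, hspec.card_eq,
        Nat.card_congr (subgroupOfEquivOfLe hA.1).toEquiv]
    by_cases hA'L : A' ≤ L
    · -- `B` centralises `A'`
      have hBA' : B ≤ centralizer (A' : Set G) := by
        rw [← hBeq, hB₁, normalClosure, Subgroup.closure_le]
        intro y hy
        obtain ⟨x, hx, hxy⟩ := Group.mem_conjugatesOfSet_iff.1 hy
        obtain ⟨g, rfl⟩ := isConj_iff.1 hxy
        have hg : g ∈ normalizer (T : Set G) ⊔ L := hfr.symm ▸ mem_top g
        rw [← SetLike.mem_coe,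
          coe_mul_of_left_le_normalizer_right _ L le_normalizer_of_normal] at hg
        obtain ⟨m, hm, l, hl, rfl⟩ := hg
        have h1 : l * x * l⁻¹ ∈ X := PLocal.conj_mem hLX hl hx
        rw [SetLike.mem_coe, mem_centralizer_iff]
        intro e he
        have he' : m⁻¹ * e * m ∈ A'.map (MulAut.conj m⁻¹).toMonoidHom := ⟨e, he, by simp⟩
        have hle : A'.map (MulAut.conj m⁻¹).toMonoidHom ≤ S₀ := by
          refine ((map_mono (le_inf hA'max.1 hA'L)).trans ?_).trans (inf_le_left : S₀ ⊓ L ≤ S₀)
          exact (mem_normalizer_iff_map_conj_eq.1 (inv_mem hm)).le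
        have hmx : MaxElem p S₀ (A'.map (MulAut.conj m⁻¹).toMonoidHom) :=
          ⟨hle, elementary_map _ hA'el, fun D h2 h3 => by
            rw [card_map_of_injective _ (MulAut.conj m⁻¹).injective]
            exact hA'max.2.2 D h2 h3⟩
        have := commute_of_mem_centerThompson h1.2 (le_thompsonOf_of_max hmx he')
        calc e * (m * l * x * (m * l)⁻¹) = m * ((m⁻¹ * e * m) * (l * x * l⁻¹)) * m⁻¹ := by group
          _ = _ := by rw [this]; group
      set Ω := B ⊓ A' with hΩ
      have hΩ' : ∀ v ∈ B, v ^ p = 1 → v ∈ Ω := fun v hv hvp =>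
        ⟨hv, mem_maxElem_of_centralizes hA'max (hBS hv) hvp (hBA' hv)⟩
      have hΩn : Ω.Normal := ⟨fun v hv g => hΩ' _ (hB.conj_mem v hv.1 g) (by
        rw [conj_pow, hA'el.2 v hv.2, mul_one, mul_inv_cancel])⟩
      set R := X ⊔ Ω with hR
      have hRn : R.Normal := by
        refine normalizer_eq_top_iff.1 (eq_top_iff.2 (hfrC ▸ sup_le ?_ ?_))
        · exact (le_inf ((le_inf le_normalizer_of_normal hNTc).trans inf_normalizer_le_normalizer_inf)
            le_normalizer_of_normal).trans (normalizer_inf_normalizer_le_normalizer_sup X Ω)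
        · refine le_of_coprime_mem Tc' hTc' (fun g hg hcop => mem_normalizer_of_map_conj_le ?_) ?_
          · rw [hR, Subgroup.map_sup]
            refine sup_le ?_ (by
              rintro _ ⟨v, hv, rfl⟩
              exact mem_sup_right (hΩn.conj_mem v hv g))
            rintro _ ⟨x, hx, rfl⟩
            show g * x * g⁻¹ ∈ X ⊔ Ω
            rw [← mul_inv_cancel_left x (g * x * g⁻¹)]
            exact mul_mem (mem_sup_left hx) (mem_sup_right (hΩ' _
              (mul_mem (inv_mem (hXB hx)) (hB.conj_mem x (hXB hx) g)) (hu g hg hcop x hx)))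
          · exact inf_le_left.trans ((le_inf ((le_inf le_normalizer_of_normal hSZ).trans
              inf_normalizer_le_normalizer_inf) le_normalizer_of_normal).trans
              (normalizer_inf_normalizer_le_normalizer_sup X Ω))
      have hBR : B ≤ R := hBeq ▸ normalClosure_le_normal (fun x hx => mem_sup_left hx)
      refine hBA (hBR.trans (sup_le ?_ (inf_le_right.trans ?_)))
      · exact fun x hx => centralizer_le_normalizer _ (mem_centralizer_iff.2 fun a ha =>
          commute_of_mem_centerThompson hx.2 (le_thompsonOf_of_max hA ha))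
      · rw [hA', map_le_iff_le_comap]
        intro y hy
        have := hspec.le_norm hy
        rw [hA₀, ← subgroupOf_normalizer_eq hA.1] at this
        exact this
    · have hle := hmax A' ⟨hA'max, hA'L⟩
      have hlt : A ⊓ B < A' ⊓ B := by
        have h1 := (map_lt_map_iff_of_injective S₀.subtype_injective).2 hspec.lt_inf
        rw [map_inf _ _ _ S₀.subtype_injective, map_inf _ _ _ S₀.subtype_injective, hA₀, hB₀,
          subgroupOf_map_subtype, subgroupOf_map_subtype, inf_of_le_left hA.1,
          inf_of_le_left hBS] at h1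
        exact h1
      exact absurd hle (not_le.2 (Set.Finite.card_lt_card (Set.toFinite _)
        (SetLike.coe_ssubset_coe.2 hlt)))

/-- Glauberman's ZJ theorem for `Z(J(S))`, `J` generated by the largest elementary abelian
subgroups. -/
theorem centerThompson_normal [Finite G] [Fact p.Prime] (hp : p ≠ 2)
    (hc : centralizer (pCore p G : Set G) ≤ pCore p G) (S : Sylow p G)
    (hst : StableAt p (S : Subgroup G)) : (centerThompsonOf p (S : Subgroup G)).Normal := by
  set S₀ := (S : Subgroup G) with hS₀
  set Z := centerThompsonOf p S₀ with hZ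
  have hchar := zCore_characteristic hp (goodPred_elementary (G := G) p) hc S hst
  set P := pCore p G with hP
  have hPS : P ≤ S₀ := pCore_le_sylow S
  have hSZ : S₀ ≤ normalizer (Z : Set G) :=
    le_normalizer.trans (normalizer_le_normalizer_centerThompson S₀)
  have hZP : Z ≤ P := by
    intro a ha
    have hq : ⁅⁅P, zpowers a⁆, zpowers a⁆ = ⊥ := by
      refine eq_bot_iff.2 ((commutator_mono (commutator_mono le_rfl (zpowers_le.2 ha))
        (zpowers_le.2 ha)).trans ?_)
      refine (commutator_mono (le_normalizer_iff_commutator_le_right.1 (hPS.trans hSZ)) le_rfl).trans ?_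
      rw [le_bot_iff, commutator_self_eq_bot_iff]
      exact le_centralizer_iff_isMulCommutative.1 fun x hx => mem_centralizer_iff.2 fun y hy =>
        centerThompson_comm hy hx
    have hm := hst P (isPGroup_pCore p G) a (centerThompsonOf_le _ ha) hq
    have hKp : IsPGroup p ↥((pCore p (G ⧸ centralizer (P : Set G))).comap
        (QuotientGroup.mk' (centralizer (P : Set G)))) :=
      (isPGroup_pCore p _).comap_of_ker_isPGroup _ (by
        rw [QuotientGroup.ker_mk']; exact (isPGroup_pCore p G).to_le hc)
    exact le_pCore hKp hm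
  have := (coprime_centralizes_inf_centerThompson hp S hst (normal_of_characteristic _) P
    (normal_pCore p G) (isPGroup_pCore p G)).2
  rwa [inf_eq_right.2 hZP] at this

end CfsgLib.Transfer
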