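import Cfsg.Agent.Lib.Techniques.SectionFusion
import Cfsg.Agent.Lib.Transfer.ZJFull
import Cfsg.Agent.Lib.Transfer.Stability

/-!
# `N(Z(J(P)))` controls fusion in groups without linear quadratic sections
-/

set_option autoImplicit false

namespace CfsgLib.Transfer

open Subgroup Cfsg CfsgLib.Core CfsgLib.Techniques

universe u

variable {p : ℕ}

theorem centerThompsonOf_map {G H : Type*} [Group G] [Group H] (f : G →* H) (S : Subgroup G)
    (hf : Disjoint S f.ker) :
    (centerThompsonOf p S).map f = centerThompsonOf p (S.map f) := by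
  rw [centerThompsonOf, centerThompsonOf, ← CfsgLib.PLocal.thompsonOf_map f S hf,
    CfsgLib.PLocal.map_centralizer_of_injOn f (thompsonSubgroupOf p S)
      (hf.mono_left (map_subtype_le _))]

/-- `Q ↦ Z(J(Q))` -/
noncomputable def zjFunctor (p : ℕ) : ∀ (Q : Type u) [Group Q], Subgroup Q :=
  fun Q _ => centerThompsonOf p (⊤ : Subgroup Q)

theorem centerThompsonOf_map_subtype {G : Type u} [Group G] (P : Subgroup G) :
    inducedFunctor (zjFunctor p) P = centerThompsonOf p P := by
  show (centerThompsonOf p (⊤ : Subgroup P)).map P.subtype = _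
  rw [centerThompsonOf_map P.subtype ⊤ (by rw [P.ker_subtype]; exact disjoint_bot_right),
    ← MonoidHom.range_eq_map, range_subtype]

theorem centerThompsonOf_ne_bot {G : Type*} [Group G] [Finite G] [Fact p.Prime] {P : Subgroup G}
    (hP : IsPGroup p P) (hne : P ≠ ⊥) : centerThompsonOf p P ≠ ⊥ := by
  obtain ⟨A, hA⟩ := CfsgLib.PLocal.exists_maxIn
    (CfsgLib.PLocal.goodPred_elementary (G := G) p) P
  haveI : Nontrivial P := (nontrivial_iff_ne_bot P).2 hne
  obtain ⟨z, -, hzc, hzo⟩ := exists_mem_center_orderOf_eq hP (Z := (⊤ : Subgroup P))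
    (fun h => top_ne_bot h)
  intro h
  have hmem : (z : G) ∈ centerThompsonOf p P := by
    have hzc' : ∀ x ∈ P, x * (z : G) = (z : G) * x := fun x hx =>
      congrArg Subtype.val (mem_center_iff.1 hzc ⟨x, hx⟩)
    refine ⟨le_thompsonOf_of_max hA (mem_maxElem_of_centralizes hA z.2 ?_
      (mem_centralizer_iff.2 fun a ha => hzc' a (hA.1 ha))), mem_centralizer_iff.2 fun x hx =>
        hzc' x (map_subtype_le _ hx)⟩
    rw [← hzo, ← Subgroup.orderOf_coe, pow_orderOf_eq_one]
  rw [h, mem_bot] at hmem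
  rw [← Subgroup.orderOf_coe, hmem, orderOf_one] at hzo
  exact (Fact.out : p.Prime).ne_one hzo.symm

theorem zjFunctor_isCharPFunctor [Fact p.Prime] : IsCharPFunctor.{u} p (zjFunctor p) := by
  constructor
  · intro Q _ _ hQ _
    exact centerThompsonOf_ne_bot (hQ.to_subgroup _) top_ne_bot
  · intro Q R _ _ _ _ φ
    show (centerThompsonOf p (⊤ : Subgroup Q)).map φ.toMonoidHom = centerThompsonOf p ⊤
    rw [centerThompsonOf_map φ.toMonoidHom ⊤
        (by rw [(MonoidHom.ker_eq_bot_iff _).2 φ.injective]; exact disjoint_bot_right),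
      Subgroup.map_top_of_surjective _ φ.surjective]

/-- Glauberman: without linear quadratic sections, `N(Z(J(P)))` controls strong fusion in `P`. -/
theorem zj_controls_fusion {G : Type u} [Group G] [Finite G] [Fact p.Prime] (hp : p ≠ 2)
    (hG : NoQuad p G) (P : Sylow p G) (A : Set G) (hA : A ⊆ (P : Set G)) (g : G)
    (hAg : (fun a => g * a * g⁻¹) '' A ⊆ (P : Set G)) :
    ∃ n ∈ normalizer (centerThompsonOf p (P : Subgroup G) : Set G),
      ∀ a ∈ A, n * a * n⁻¹ = g * a * g⁻¹ := by
  let 𝓦 : Set (∀ (Q : Type u) [Group Q], Subgroup Q) := {zjFunctor p}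
  have h𝓦 : ∀ W ∈ 𝓦, IsCharPFunctor.{u} p W := fun W hW => by
    rw [show W = zjFunctor p from hW]; exact zjFunctor_isCharPFunctor
  have hfam := familyFusion_of_sections (G := G) h𝓦 (fun H _ _ hH hc => by
    obtain ⟨S⟩ : Nonempty (Sylow p H) := inferInstance
    have hn := centerThompson_normal hp hc S (stableAt_of_noQuad (hG.of_isSec hH) S)
    refine familyControls_of_spath S fun B y hB hy => SPath.single ?_ hB hy
    refine ⟨Cfsg.inducedFunctor (zjFunctor p), ⟨zjFunctor p, rfl, rfl⟩, trivial, ?_⟩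
    rw [centerThompsonOf_map_subtype, normalizer_eq_top_iff.2 hn]
    trivial) G (isSec_self G)
  have hpath := familyControlsFusion_at (inducedSet_conjugacy h𝓦 G) hfam (isSylowSub_sylow P)
    A g trivial hA hAg
  obtain ⟨x, hx, he⟩ := hpath.exists_mem
    (N := normalizer (centerThompsonOf p (P : Subgroup G) : Set G)) (by
      rintro m ⟨_, ⟨W, hW, rfl⟩, hm⟩
      have h := (Subgroup.mem_inf.1 hm).2
      rw [show W = zjFunctor p from hW] at h
      simp only [centerThompsonOf_map_subtype] at h
      exact h)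
  exact ⟨x, hx, fun a ha => (he a ha).symm⟩

end CfsgLib.Transfer
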