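import Cfsg.Agent.Lib.PLocal.SLTwo.Generation
import Cfsg.Agent.S0199
import Mathlib.LinearAlgebra.Eigenspace.Triangularizable
import Mathlib.FieldTheory.IsAlgClosed.AlgebraicClosure

/-!
# Quadratic elements in linear groups give `SL(2, p)`
-/

set_option autoImplicit false
set_option linter.all false

namespace CfsgLib.Transfer.Quad

open Module PLocal.SLTwo

variable {p : ℕ} [Fact p.Prime] {L : Type*} [Group L] [Finite L] {K : Type*} [Field K] [CharP K p]
  {W : Type*} [AddCommGroup W] [Module K W]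

theorem closure_induction_finite {a b : L} (hgen : Subgroup.closure {a, b} = ⊤) {P : L → Prop}
    (h1 : P 1) (ha : P a) (hb : P b) (hm : ∀ x y, P x → P y → P (x * y)) (g : L) : P g := by
  let S : Submonoid L := ⟨⟨{x | P x}, fun hx hy => hm _ _ hx hy⟩, h1⟩
  have h : (⊤ : Subgroup L).toSubmonoid ≤ S := by
    rw [← hgen, Subgroup.closure_toSubmonoid_of_finite]
    exact Submonoid.closure_le.2 fun y hy => by
      rcases hy with rfl | rfl
      exacts [ha, hb]
  exact h (Subgroup.mem_top g)

/-- two square-zero maps, all whose alternating products vanish eventually -/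
theorem isPGroup_of_pointwise_nilpotent [FiniteDimensional K W] (σ : L →* Module.End K W)
    (hσ : Function.Injective σ) {a b : L} (hgen : Subgroup.closure {a, b} = ⊤)
    (hN : ∀ v, (σ a - 1) ((σ a - 1) v) = 0) (hM : ∀ v, (σ b - 1) ((σ b - 1) v) = 0)
    (hT : ∀ v, ∃ k : ℕ,
      (((σ a - 1) * (σ b - 1) + (σ b - 1) * (σ a - 1)) ^ k) v = 0) : IsPGroup p L := by
  set N := σ a - 1 with hNd
  set M := σ b - 1 with hMd
  set T := N * M + M * N with hTd
  let Good : Submodule K W → Prop := fun Z =>
    (∀ z ∈ Z, N z ∈ Z ∧ M z ∈ Z) ∧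
      ∃ k : ℕ, ∀ g : L, ∀ z ∈ Z, ((σ g - 1) ^ k) z = 0
  have step : ∀ Z, Good Z → Z ≠ ⊤ → ∃ Z', Z < Z' ∧ Good Z' := by
    rintro Z ⟨hinv, k, hk⟩ hZ
    obtain ⟨v, hv⟩ : ∃ v, v ∉ Z := by
      by_contra h
      push Not at h
      exact hZ (eq_top_iff.2 fun v _ => h v)
    obtain ⟨v₀, h0, hT0⟩ : ∃ v₀, v₀ ∉ Z ∧ T v₀ ∈ Z := by
      by_contra h
      push Not at h
      obtain ⟨m, hm⟩ := hT v
      have hall : ∀ i : ℕ, (T ^ i) v ∉ Z := fun i => by
        induction i with
        | zero => simpa using hv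
        | succ i ih => rw [pow_succ', Module.End.mul_apply]; exact h _ ih
      exact hall m (hm ▸ Z.zero_mem)
    have hTa : ∀ u, T u = N (M u) + M (N u) := fun u => rfl
    obtain ⟨v₁, h1, hN1, hT1⟩ : ∃ v₁, v₁ ∉ Z ∧ N v₁ ∈ Z ∧ T v₁ ∈ Z := by
      by_cases h : N v₀ ∈ Z
      · exact ⟨v₀, h0, h, hT0⟩
      · refine ⟨N v₀, h, by rw [hN]; exact Z.zero_mem, ?_⟩
        have : T (N v₀) = N (T v₀) := by
          simp only [hTa, map_add, hN, map_zero, add_zero, zero_add]
        rw [this]
        exact (hinv _ hT0).1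
    obtain ⟨w, hw, hwN, hwM⟩ : ∃ w, w ∉ Z ∧ N w ∈ Z ∧ M w ∈ Z := by
      by_cases h : M v₁ ∈ Z
      · exact ⟨v₁, h1, hN1, h⟩
      · refine ⟨M v₁, h, ?_, by rw [hM]; exact Z.zero_mem⟩
        have : N (M v₁) = T v₁ - M (N v₁) := by rw [hTa]; abel
        rw [this]
        exact Z.sub_mem hT1 (hinv _ hN1).2
    have hg : ∀ g : L, (∀ z ∈ Z, σ g z ∈ Z) ∧ σ g w - w ∈ Z := by
      refine closure_induction_finite hgen ⟨fun z hz => by simpa using hz, by simp⟩
        ⟨fun z hz => ?_, by simpa [hNd] using hwN⟩ ⟨fun z hz => ?_, by simpa [hMd] using hwM⟩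
        fun x y hx hy => ⟨fun z hz => by
          rw [map_mul, Module.End.mul_apply]; exact hx.1 _ (hy.1 z hz), ?_⟩
      · have : σ a z = z + N z := by simp [hNd]
        exact this ▸ Z.add_mem hz (hinv z hz).1
      · have : σ b z = z + M z := by simp [hMd]
        exact this ▸ Z.add_mem hz (hinv z hz).2
      · rw [map_mul, Module.End.mul_apply,
          show σ x (σ y w) - w = σ x (σ y w - w) + (σ x w - w) by rw [map_sub]; abel]
        exact Z.add_mem (hx.1 _ hy.2) hx.2
    refine ⟨Z ⊔ K ∙ w, left_lt_sup.2 fun h => hw (h (Submodule.mem_span_singleton_self w)),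
      fun z hz => ?_, k + 1, fun g z hz => ?_⟩
    · obtain ⟨z', hz', y, hy, rfl⟩ := Submodule.mem_sup.1 hz
      obtain ⟨c, rfl⟩ := Submodule.mem_span_singleton.1 hy
      simp only [map_add, map_smul]
      exact ⟨le_sup_left (α := Submodule K W) (Z.add_mem (hinv z' hz').1 (Z.smul_mem c hwN)),
        le_sup_left (α := Submodule K W) (Z.add_mem (hinv z' hz').2 (Z.smul_mem c hwM))⟩
    · rw [pow_succ, Module.End.mul_apply]
      refine hk g _ ?_
      obtain ⟨z', hz', y, hy, rfl⟩ := Submodule.mem_sup.1 hz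
      obtain ⟨c, rfl⟩ := Submodule.mem_span_singleton.1 hy
      simp only [LinearMap.sub_apply, Module.End.one_apply, map_add, map_smul]
      exact Z.add_mem (Z.sub_mem ((hg g).1 z' hz') hz') (Z.smul_mem c (hg g).2)
  have main : ∀ Z, Good Z → Good ⊤ := fun Z => by
    induction Z using (wellFounded_gt (α := Submodule K W)).induction with
    | _ Z ih =>
      intro hZ
      by_cases h : Z = ⊤
      · exact h ▸ hZ
      · obtain ⟨Z', hlt, hg'⟩ := step Z hZ h
        exact ih Z' hlt hg'
  obtain ⟨-, k, hk⟩ := main ⊥ ⟨fun z hz => by simp [(Submodule.mem_bot K).1 hz], 0,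
    fun g z hz => by simp [(Submodule.mem_bot K).1 hz]⟩
  intro g
  have hn : (σ g - 1) ^ k = 0 := LinearMap.ext fun z => hk g z trivial
  refine ⟨k, hσ ?_⟩
  have hW : Function.Injective (algebraMap K (Module.End K W)) ∨ Subsingleton (Module.End K W) := by
    rcases subsingleton_or_nontrivial (Module.End K W) with h | h
    · exact Or.inr h
    · exact Or.inl (algebraMap K (Module.End K W)).injective
  rcases hW with hinj | hsub
  · haveI := charP_of_injective_algebraMap hinj p
    have h2 : (σ g - 1) ^ p ^ k = 0 :=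
      pow_eq_zero_of_le (Nat.le_of_lt (Nat.lt_pow_self (Fact.out : p.Prime).one_lt)) hn
    rw [sub_pow_char_pow_of_commute p k (Commute.one_right _), one_pow, sub_eq_zero] at h2
    rw [map_pow, h2, map_one]
  · exact Subsingleton.elim _ _

/-- a common invariant plane -/
theorem exists_plane [IsAlgClosed K] [FiniteDimensional K W] (σ : L →* Module.End K W)
    (hσ : Function.Injective σ) {a b : L} (hgen : Subgroup.closure {a, b} = ⊤)
    (hN : ∀ v, (σ a - 1) ((σ a - 1) v) = 0) (hM : ∀ v, (σ b - 1) ((σ b - 1) v) = 0)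
    (hnp : ¬ IsPGroup p L) :
    ∃ (t : K) (v w : W), t ≠ 0 ∧ (σ a - 1) v = 0 ∧ (σ a - 1) w = t • v ∧ (σ b - 1) v = w ∧
      (σ b - 1) w = 0 ∧ LinearIndependent K ![v, w] := by
  set N := σ a - 1 with hNd
  set M := σ b - 1 with hMd
  set T : Module.End K W := N * M + M * N with hTd
  obtain ⟨t, ht, hev⟩ : ∃ t : K, t ≠ 0 ∧ Module.End.HasEigenvalue T t := by
    by_contra h
    push Not at h
    refine hnp (isPGroup_of_pointwise_nilpotent σ hσ hgen hN hM fun v => ?_)
    have htop := Module.End.iSup_maxGenEigenspace_eq_top T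
    have hle : (⨆ μ : K, Module.End.maxGenEigenspace T μ) ≤ Module.End.maxGenEigenspace T 0 := by
      refine iSup_le fun μ => ?_
      rcases eq_or_ne μ 0 with rfl | hμ
      · exact le_rfl
      · refine le_trans (le_of_eq ?_) bot_le
        by_contra hb
        refine h μ hμ ?_
        exact Module.End.HasUnifEigenvalue.lt zero_lt_one (k := ⊤) hb
    have hv := hle (htop.ge (Submodule.mem_top (x := v)))
    obtain ⟨k, hk⟩ := Module.End.mem_maxGenEigenspace T 0 v |>.1 hv
    exact ⟨k, by simpa using hk⟩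
  obtain ⟨u, hu⟩ := hev.exists_hasEigenvector
  have hTa : ∀ z, T z = N (M z) + M (N z) := fun z => rfl
  have hTu : T u = t • u := hu.apply_eq_smul
  obtain ⟨v, hv0, hNv, hTv⟩ : ∃ v, v ≠ 0 ∧ N v = 0 ∧ T v = t • v := by
    by_cases h : N u = 0
    · exact ⟨u, hu.2, h, hTu⟩
    · refine ⟨N u, h, hN u, ?_⟩
      rw [← map_smul, ← hTu, hTa, hTa, map_add, hN, hN, map_zero, add_zero, zero_add]
  have hNw : N (M v) = t • v := by
    rw [← hTv, hTa, hNv, map_zero, add_zero]
  refine ⟨t, v, M v, ht, hNv, hNw, rfl, hM v, ?_⟩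
  rw [LinearIndependent.pair_iff' hv0]
  intro c hc
  rw [← hc, map_smul, hNv, smul_zero] at hNw
  exact hv0 ((smul_eq_zero.1 hNw.symm).resolve_left ht)

/-- two quadratic elements not generating a `p`-group give `SL(2, p)` -/
theorem exists_section_SLTwo (hp : p ≠ 2) [IsAlgClosed K] [FiniteDimensional K W]
    (σ : L →* Module.End K W) (hσ : Function.Injective σ) {a b : L}
    (hgen : Subgroup.closure {a, b} = ⊤) (hN : ∀ v, (σ a - 1) ((σ a - 1) v) = 0)
    (hM : ∀ v, (σ b - 1) ((σ b - 1) v) = 0) (hnp : ¬ IsPGroup p L) :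
    ∃ (S : Subgroup L) (f : S →* S2 (ZMod p)), Function.Surjective f := by
  obtain ⟨t, v, w, ht, hNv, hNw, hMv, hMw, hli⟩ := exists_plane σ hσ hgen hN hM hnp
  have heq := LinearIndependent.pair_iff.1 hli
  let R : L → S2 K → Prop := fun g X =>
    σ g v = X.1 0 0 • v + X.1 1 0 • w ∧ σ g w = X.1 0 1 • v + X.1 1 1 • w
  have hR1 : R 1 1 := by simp [R]
  have hRa : R a (U t) := by
    simp only [LinearMap.sub_apply, Module.End.one_apply, sub_eq_zero] at hNv hNw
    rw [sub_eq_iff_eq_add] at hNw
    simp [R, U, hNv, hNw]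
  have hRb : R b (Lo 1) := by
    simp only [LinearMap.sub_apply, Module.End.one_apply, sub_eq_zero] at hMv hMw
    rw [sub_eq_iff_eq_add] at hMv
    simp [R, Lo, hMv, hMw, add_comm]
  have hRmul : ∀ g h X Y, R g X → R h Y → R (g * h) (X * Y) := by
    intro g h X Y hg hh
    refine ⟨?_, ?_⟩
    · rw [map_mul, Module.End.mul_apply, hh.1, map_add, map_smul, map_smul, hg.1, hg.2, m00, m10]
      module
    · rw [map_mul, Module.End.mul_apply, hh.2, map_add, map_smul, map_smul, hg.1, hg.2, m01, m11]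
      module
  have hex : ∀ g : L, ∃ X, R g X :=
    closure_induction_finite hgen ⟨1, hR1⟩ ⟨_, hRa⟩ ⟨_, hRb⟩
      fun x y ⟨X, hX⟩ ⟨Y, hY⟩ => ⟨X * Y, hRmul x y X Y hX hY⟩
  have huniq : ∀ g X Y, R g X → R g Y → X = Y := by
    intro g X Y hX hY
    have e1 := heq (X.1 0 0 - Y.1 0 0) (X.1 1 0 - Y.1 1 0) (by
      linear_combination (norm := module) hX.1.symm.trans hY.1)
    have e2 := heq (X.1 0 1 - Y.1 0 1) (X.1 1 1 - Y.1 1 1) (by
      linear_combination (norm := module) hX.2.symm.trans hY.2)
    exact ext2 (sub_eq_zero.1 e1.1) (sub_eq_zero.1 e2.1) (sub_eq_zero.1 e1.2) (sub_eq_zero.1 e2.2)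
  choose F hF using hex
  let φ : L →* S2 K :=
    { toFun := F
      map_one' := huniq 1 _ _ (hF 1) hR1
      map_mul' := fun g h => huniq _ _ _ (hF _) (hRmul g h _ _ (hF g) (hF h)) }
  have hφa : φ a = U t := huniq a _ _ (hF a) hRa
  have hφb : φ b = Lo 1 := huniq b _ _ (hF b) hRb
  haveI : Finite φ.range := Finite.of_surjective _ φ.rangeRestrict_surjective
  obtain ⟨ψ, hψ, hψr⟩ := exists_hom_SLTwo (p := p) hp φ.range (u := U t) (v := Lo 1)
    ⟨a, hφa⟩ ⟨b, hφb⟩ (by simp [tr, U]; norm_num) (by simp [tr, Lo]; norm_num) (fun h => by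
      have h00 := congrArg (fun z : S2 K => z.1 0 0) h
      simp only [m00] at h00
      simp [U, Lo] at h00
      exact ht h00)
  refine ⟨ψ.range.comap φ,
    (MonoidHom.ofInjective hψ).symm.toMonoidHom.comp (φ.subgroupComap ψ.range), ?_⟩
  refine (MonoidHom.ofInjective hψ).symm.surjective.comp fun y => ?_
  obtain ⟨g, hg⟩ := hψr y.2
  exact ⟨⟨g, show φ g ∈ ψ.range from hg ▸ y.2⟩, Subtype.ext hg⟩

end CfsgLib.Transfer.Quad

namespace CfsgLib.Transfer

/-- a group of automorphisms of an elementary abelian group as endomorphisms over `K` -/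
theorem exists_end_rep {p : ℕ} [Fact p.Prime] {M : Type*} [CommGroup M] [Finite M]
    (hM : ∀ m : M, m ^ p = 1) {L : Type*} [Group L] (f : L →* MulAut M)
    (hf : Function.Injective f) (K : Type*) [Field K] [CharP K p] :
    ∃ (n : ℕ) (σ : L →* Module.End K (Fin n → K)), Function.Injective σ ∧
      ∀ d : L, (∀ m, f d (f d m / m) = f d m / m) → ∀ v, (σ d - 1) ((σ d - 1) v) = 0 := by
  classical
  have : Module (ZMod p) (Additive M) := AddCommGroup.zmodModule fun v =>
    Additive.toMul.injective (hM v.toMul)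
  let act : L →* Module.End (ZMod p) (Additive M) :=
    { toFun := fun d => AddMonoidHom.toZModLinearMap p (MonoidHom.toAdditive (f d).toMonoidHom)
      map_one' := LinearMap.ext fun v => Additive.toMul.injective (by
        show f 1 v.toMul = v.toMul
        rw [map_one, MulAut.one_apply])
      map_mul' := fun d e => LinearMap.ext fun v => Additive.toMul.injective (by
        show f (d * e) v.toMul = f d (f e v.toMul)
        rw [map_mul, MulAut.mul_apply]) }
  have happly : ∀ (d : L) (v : Additive M), (act d v).toMul = f d v.toMul := fun d v => rfl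
  have hact : Function.Injective act := fun d e h => hf (MulEquiv.ext fun m => by
    have := congrArg Additive.toMul (LinearMap.congr_fun h (Additive.ofMul m))
    rwa [happly, happly] at this)
  haveI : Module.Finite (ZMod p) (Additive M) := Module.Finite.of_finite
  let B := Module.finBasis (ZMod p) (Additive M)
  let j : ZMod p →+* K := ZMod.castHom dvd_rfl K
  let τ : Module.End (ZMod p) (Additive M) →+* Module.End K (Fin _ → K) :=
    (Matrix.toLinAlgEquiv' (R := K)).toRingEquiv.toRingHom.comp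
      (j.mapMatrix.comp (LinearMap.toMatrixAlgEquiv B).toRingEquiv.toRingHom)
  have hτ : Function.Injective τ :=
    (Matrix.toLinAlgEquiv' (R := K)).injective.comp
      ((Matrix.map_injective j.injective).comp (LinearMap.toMatrixAlgEquiv B).injective)
  refine ⟨_, τ.toMonoidHom.comp act, hτ.comp hact, fun d hd v => ?_⟩
  have h2 : (act d - 1) * (act d - 1) = 0 := LinearMap.ext fun w => by
    have hfix : act d (act d w - w) = act d w - w := Additive.toMul.injective (by
      rw [happly, toMul_sub, happly]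
      exact hd _)
    simp only [Module.End.mul_apply, LinearMap.sub_apply, Module.End.one_apply,
      LinearMap.zero_apply, hfix, sub_self]
  rw [show τ.toMonoidHom.comp act d - 1 = τ (act d - 1) by simp, ← Module.End.mul_apply, ← map_mul,
    h2, map_zero, LinearMap.zero_apply]

open Subgroup Cfsg
open scoped commutatorElement IsMulCommutative

/-- S0656: a quadratic `p`-element in a faithful action without normal `p`-subgroups -/
theorem involves_SLTwo_of_quadratic {G : Type*} [Group G] [Finite G] {p : ℕ} [Fact p.Prime]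
    (hp : p ≠ 2) (V H : Subgroup G) (hV : IsElementaryAbelian p V)
    (hHV : H ≤ normalizer (V : Set G)) (hf : H ⊓ centralizer (V : Set G) = ⊥)
    (hO : pCore p ↥H = ⊥) (x : G) (hxH : x ∈ H) (hx1 : x ≠ 1)
    (hxp : ∃ k : ℕ, orderOf x = p ^ k)
    (hq : ⁅⁅V, zpowers x⁆, zpowers x⁆ = ⊥) :
    ∃ (K L : Subgroup G) (_ : (L.subgroupOf K).Normal), K ≤ H ∧
      Nonempty ((K ⧸ L.subgroupOf K) ≃* Matrix.SpecialLinearGroup (Fin 2) (ZMod p)) := by
  classical
  -- two conjugates generating a group which is not a `p`-group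
  obtain ⟨g, hg⟩ : ∃ g : H, ¬ IsPGroup p
      ↥(zpowers (⟨x, hxH⟩ : H) ⊔ (zpowers (⟨x, hxH⟩ : H)).map (MulAut.conj g).toMonoidHom) := by
    by_contra h
    push Not at h
    have hX : IsPGroup p (zpowers (⟨x, hxH⟩ : H)) := by
      obtain ⟨k, hk⟩ := hxp
      refine IsPGroup.of_card (n := k) ?_
      rw [Nat.card_zpowers, ← Subgroup.orderOf_coe, ← hk]
    obtain ⟨N, hN, hNp, hle⟩ := Cfsg.Agent.S0199.result _ hX h
    have := (hle.trans (@CfsgLib.Core.le_pCore _ _ _ N hN hNp)).trans_eq hO
    rw [zpowers_le, mem_bot] at this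
    exact hx1 (congrArg Subtype.val this)
  set a₀ : H := ⟨x, hxH⟩ with ha₀
  set b₀ : H := g * a₀ * g⁻¹ with hb₀
  set D : Subgroup H := closure {a₀, b₀} with hD
  have hDeq : zpowers a₀ ⊔ (zpowers a₀).map (MulAut.conj g).toMonoidHom = D := by
    rw [MonoidHom.map_zpowers, zpowers_eq_closure, zpowers_eq_closure, ← Subgroup.closure_union,
      Set.singleton_union, hD, hb₀]
    rfl
  rw [hDeq] at hg
  let a : D := ⟨a₀, subset_closure (Set.mem_insert _ _)⟩
  let b : D := ⟨b₀, subset_closure (Set.mem_insert_of_mem _ rfl)⟩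
  have hgen : closure ({a, b} : Set D) = ⊤ := by
    rw [← closure_preimage_eq_top ({a₀, b₀} : Set H)]
    congr 1
    ext d
    constructor
    · rintro (rfl | rfl)
      exacts [Or.inl rfl, Or.inr rfl]
    · rintro (h | h)
      exacts [Or.inl (Subtype.ext h), Or.inr (Subtype.ext h)]
  -- the linear representation
  haveI := hV.1
  letI : CommGroup V := { (inferInstance : Group V) with mul_comm := fun u v => mul_comm' u v }
  have hcj : ∀ (h : H) (v : V), (h : G) * v * (h : G)⁻¹ ∈ V := fun h v =>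
    (mem_normalizer_iff.1 (hHV h.2) v).1 v.2
  let act : H →* MulAut V :=
    { toFun := fun h =>
        { toFun := fun v => ⟨(h : G) * v * (h : G)⁻¹, hcj h v⟩
          invFun := fun v => ⟨((h⁻¹ : H) : G) * v * ((h⁻¹ : H) : G)⁻¹, hcj h⁻¹ v⟩
          left_inv := fun v => Subtype.ext (by simp only [InvMemClass.coe_inv]; group)
          right_inv := fun v => Subtype.ext (by simp only [InvMemClass.coe_inv]; group)
          map_mul' := fun v w => Subtype.ext (by simp only [Subgroup.coe_mul]; group) }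
      map_one' := MulEquiv.ext fun v => Subtype.ext (by simp)
      map_mul' := fun h k => MulEquiv.ext fun v => Subtype.ext (by
        simp only [MulAut.mul_apply, MulEquiv.coe_mk, Equiv.coe_fn_mk, Subgroup.coe_mul]; group) }
  have hact : Function.Injective act := by
    refine (injective_iff_map_eq_one act).2 fun h h1 => Subtype.ext ?_
    have : (h : G) ∈ H ⊓ centralizer (V : Set G) := by
      refine ⟨h.2, mem_centralizer_iff.2 fun v hv => ?_⟩
      have h2 : (h : G) * v * (h : G)⁻¹ = v :=
        congrArg (fun z : V => (z : G)) (congrArg (fun e : MulAut V => e ⟨v, hv⟩) h1)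
      exact (mul_inv_eq_iff_eq_mul.1 h2).symm
    rw [hf] at this
    exact this
  have hquad : ∀ m, act a₀ (act a₀ m / m) = act a₀ m / m := fun m => Subtype.ext (by
    have hm : x * (m : G) * x⁻¹ * (m : G)⁻¹ ∈ ⁅V, zpowers x⁆ := by
      rw [commutator_comm, ← commutatorElement_def]
      exact commutator_mem_commutator (mem_zpowers x) m.2
    have h2 := mem_centralizer_iff.1 ((commutator_eq_bot_iff_le_centralizer.1 hq) hm) x
      (mem_zpowers x)
    show x * ((x * (m : G) * x⁻¹) / (m : G)) * x⁻¹ = (x * (m : G) * x⁻¹) / (m : G)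
    rw [div_eq_mul_inv, h2, mul_inv_cancel_right])
  have hquadb : ∀ m, act b₀ (act b₀ m / m) = act b₀ m / m := fun m => by
    have e : ∀ y, act b₀ y = act g (act a₀ ((act g).symm y)) := fun y => by
      rw [hb₀, map_mul, map_mul, MulAut.mul_apply, MulAut.mul_apply, map_inv, MulAut.inv_apply]
    rw [e (act b₀ m / m), map_div, e m, MulEquiv.symm_apply_apply, hquad, map_div,
      MulEquiv.apply_symm_apply]
  haveI : CharP (AlgebraicClosure (ZMod p)) p :=
    charP_of_injective_algebraMap (algebraMap (ZMod p) (AlgebraicClosure (ZMod p))).injective p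
  obtain ⟨n, σ, hσ, hz⟩ := exists_end_rep (fun v : V => Subtype.ext (hV.2 v v.2))
    (act.comp D.subtype) (hact.comp Subtype.val_injective) (AlgebraicClosure (ZMod p))
  obtain ⟨S, f, hfs⟩ := Quad.exists_section_SLTwo hp σ hσ
    hgen (hz a hquad) (hz b hquadb) hg
  let j : D →* G := H.subtype.comp D.subtype
  have hj : Function.Injective j := H.subtype_injective.comp D.subtype_injective
  let e := S.equivMapOfInjective j hj
  let f' : S.map j →* Matrix.SpecialLinearGroup (Fin 2) (ZMod p) := f.comp e.symm.toMonoidHom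
  have hf' : Function.Surjective f' := hfs.comp e.symm.surjective
  have hk : (f'.ker.map (S.map j).subtype).subgroupOf (S.map j) = f'.ker :=
    comap_map_eq_self_of_injective (S.map j).subtype_injective _
  have hn : ((f'.ker.map (S.map j).subtype).subgroupOf (S.map j)).Normal :=
    hk.symm ▸ MonoidHom.normal_ker f'
  exact ⟨S.map j, _, hn, by rintro _ ⟨d, -, rfl⟩; exact d.1.2,
    ⟨(QuotientGroup.quotientMulEquivOfEq hk).trans
      (QuotientGroup.quotientKerEquivOfSurjective f' hf')⟩⟩

end CfsgLib.Transfer
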