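import Cfsg.Agent.Lib.Transfer.ZJControl
import Cfsg.Agent.Lib.PLocal.SLTwo.Generation
import Cfsg.Agent.Lib.Core.SolvableStruct
import Cfsg.Agent.Lib.Fusion.Sections

/-!
# Groups not involving `SL(2, p)`

`LinearStable p` is the statement that a quadratic `p`-element in a faithful action without normal
`p`-subgroups gives a section `SL(2, p)`. It is taken as a hypothesis here.
-/

set_option autoImplicit false
set_option linter.all false

namespace CfsgLib.Transfer

open Subgroup Cfsg CfsgLib.Core CfsgLib.Techniques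
open scoped commutatorElement

universe u

variable {p : ℕ}

/-- the linear theorem -/
def LinearStable (p : ℕ) : Prop :=
  ∀ (X : Type u) [Group X] [Finite X] (V H : Subgroup X), IsElementaryAbelian p V →
    H ≤ normalizer (V : Set X) → H ⊓ centralizer (V : Set X) = ⊥ → pCore p ↥H = ⊥ →
    ∀ x ∈ H, x ≠ 1 → (∃ k : ℕ, orderOf x = p ^ k) →
      ⁅⁅V, zpowers x⁆, zpowers x⁆ = ⊥ →
      ∃ (K L : Subgroup X) (_ : (L.subgroupOf K).Normal), K ≤ H ∧
        Nonempty ((K ⧸ L.subgroupOf K) ≃* Matrix.SpecialLinearGroup (Fin 2) (ZMod p))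

theorem noQuad_of_not_involves {G : Type u} [Group G] [Finite G] (hlin : LinearStable.{u} p)
    (hfree : ¬ Involves (Matrix.SpecialLinearGroup (Fin 2) (ZMod p)) G) : NoQuad p G := by
  intro X _ _ V H hH hV hN hf hO x hx hxp hq
  by_contra hne
  obtain ⟨K, L, hL, hKH, ⟨e⟩⟩ := hlin X V H hV hN hf hO x hx hne hxp hq
  have h1 : IsSec G (↥K ⧸ L.subgroupOf K) :=
    (hH.subgroup (K.subgroupOf H)).of_surjective
      ((QuotientGroup.mk' (L.subgroupOf K)).comp (subgroupOfEquivOfLe hKH).toMonoidHom)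
      ((QuotientGroup.mk'_surjective _).comp (subgroupOfEquivOfLe hKH).surjective)
  obtain ⟨K', R', hR', ⟨e'⟩⟩ := h1.exists_quotient
  exact hfree ⟨K', R', hR', ⟨e'.trans e⟩⟩

theorem isPGroup_zpowers_of_pow_eq_one {G : Type*} [Group G] {x : G} {k : ℕ}
    (h : x ^ p ^ k = 1) : IsPGroup p (zpowers x) := by
  rintro ⟨y, z, rfl⟩
  refine ⟨k, Subtype.ext ?_⟩
  push_cast
  rw [← zpow_natCast, ← zpow_mul, mul_comm, zpow_mul, zpow_natCast, h, one_zpow]

open PLocal.SLTwo in
/-- a nonabelian `2`-subgroup of `SL(2, p)` -/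
theorem exists_two_subgroup_SLTwo [Fact p.Prime] (hp : p ≠ 2) :
    ∃ Q : Subgroup (S2 (ZMod p)), IsPGroup 2 Q ∧ ¬ IsMulCommutative Q := by
  obtain ⟨i, j, hi, hj, hij, hne⟩ := exists_quaternion (p := p) hp
  have h4 : ∀ z : S2 (ZMod p), z ^ 2 = -1 → z ^ 2 ^ 2 = 1 := fun z hz => by
    rw [show (2 : ℕ) ^ 2 = 2 * 2 from rfl, pow_mul, hz, PLocal.SLTwo.neg_one_sq]
  have hji : j * i * j⁻¹ ∈ zpowers i := by
    have h3 : j * i = i ^ 3 * j := by
      rw [pow_succ, hi, mul_assoc, hij]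
      simp [neg_mul, mul_neg]
    rw [h3, mul_inv_cancel_right]
    exact pow_mem (mem_zpowers i) 3
  have hN : zpowers j ≤ normalizer ((zpowers i : Subgroup _) : Set (S2 (ZMod p))) := by
    rw [zpowers_le, mem_normalizer_iff_map_conj_eq]
    refine eq_of_le_of_card_ge ?_ (card_map_of_injective (MulAut.conj j).injective).ge
    rintro _ ⟨_, ⟨z, rfl⟩, rfl⟩
    show j * i ^ z * j⁻¹ ∈ zpowers i
    rw [← conj_zpow]
    exact zpow_mem hji z
  refine ⟨zpowers i ⊔ zpowers j, ?_, fun hc => hne ?_⟩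
  · rw [sup_comm]
    exact (isPGroup_zpowers_of_pow_eq_one (h4 j hj)).to_sup_of_normal_right'
      (isPGroup_zpowers_of_pow_eq_one (h4 i hi)) hN
  · exact congrArg Subtype.val (hc.is_comm.comm
      ⟨i, mem_sup_left (mem_zpowers i)⟩ ⟨j, mem_sup_right (mem_zpowers j)⟩)

theorem not_involves_SLTwo_of_solvable {G : Type*} [Group G] [Finite G] [Fact p.Prime]
    (hp : p ≠ 2) (hs : Group.IsSolvable G)
    (h3 : p = 3 → ∀ T : Sylow 2 G, IsMulCommutative T) :
    ¬ Involves (Matrix.SpecialLinearGroup (Fin 2) (ZMod p)) G := by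
  intro hinv
  by_cases hp3 : p = 3
  · obtain ⟨Q, hQ, hQc⟩ := exists_two_subgroup_SLTwo (p := p) hp
    haveI : Fact (Nat.Prime 2) := ⟨Nat.prime_two⟩
    let T : Sylow 2 G := default
    obtain ⟨K, R, hR, ⟨e⟩⟩ :=
      Fusion.involves_sylow hinv Q hQ T (MonoidHom.id _) Function.injective_id
    haveI := h3 hp3 T
    refine hQc ⟨⟨fun a b => ?_⟩⟩
    obtain ⟨a', rfl⟩ := (e.surjective.comp (QuotientGroup.mk'_surjective _)) a
    obtain ⟨b', rfl⟩ := (e.surjective.comp (QuotientGroup.mk'_surjective _)) b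
    simp only [Function.comp_apply, ← map_mul]
    congr 2
    exact Subtype.ext (mul_comm' (a' : ↥(T : Subgroup G)) b')
  · obtain ⟨K, R, hR, ⟨e⟩⟩ := hinv
    haveI : Group.IsSolvable (Matrix.SpecialLinearGroup (Fin 2) (ZMod p)) :=
      Group.isSolvable_of_surjective (f := e.toMonoidHom.comp (QuotientGroup.mk' (R.subgroupOf K)))
        (e.surjective.comp (QuotientGroup.mk'_surjective _))
    have hpp : p.Prime := Fact.out
    have hne : ∀ m : ℕ, m.Prime → m ≠ p → (m : ZMod p) ≠ 0 := fun m hm hmp h0 =>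
      hmp ((Nat.prime_dvd_prime_iff_eq hpp hm).1 ((ZMod.natCast_eq_zero_iff m p).1 h0)).symm
    have h2 : (2 : ZMod p) ≠ 0 := by simpa using hne 2 Nat.prime_two (Ne.symm hp)
    have h3' : (3 : ZMod p) ≠ 0 := by simpa using hne 3 Nat.prime_three (Ne.symm hp3)
    have htop := Matrix.SL2.commutator_eq_top (F := ZMod p) h2 fun h =>
      h3' (by linear_combination h)
    obtain ⟨i, j, -, -, -, hij⟩ := PLocal.SLTwo.exists_quaternion (p := p) hp
    haveI : Nontrivial (Matrix.SpecialLinearGroup (Fin 2) (ZMod p)) :=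
      ⟨⟨i * j, j * i, hij⟩⟩
    exact (Group.IsSolvable.commutator_lt_top_of_nontrivial _).ne htop

/-- Thompson factorization when no section has a quadratic element -/
theorem thompson_le_centralizer_of_noQuad {G : Type u} [Group G] [Finite G] [Fact p.Prime]
    (hG : NoQuad p G) (hc : centralizer (pCore p G : Set G) ≤ pCore p G) :
    thompsonSubgroup p G ≤ centralizer (PLocal.omegaZClosure p G : Set G) := by
  haveI := PLocal.omegaZClosure_normal p G
  have hel := PLocal.omegaZClosure_elementary hc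
  have hO := PLocal.pCore_mod_centralizer_eq_bot _ (PLocal.omegaZClosure_gen p G)
  refine sSup_le fun A hA => ?_
  by_contra hnot
  have hne : ⁅PLocal.omegaZClosure p G, A⁆ ≠ ⊥ := fun h =>
    hnot (le_centralizer_iff.1 (commutator_eq_bot_iff_le_centralizer.1 h))
  obtain ⟨hA', hquad, hne'⟩ := PLocal.thompson_replacement_max hel hA
  refine hne' hne (commutator_eq_bot_iff_le_centralizer.2 (le_centralizer_iff.1 fun a ha => ?_))
  have hap : a ^ p = 1 := hA'.1.2 a ha
  obtain ⟨k, -, hk⟩ := (Nat.dvd_prime_pow Fact.out).1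
    ((orderOf_dvd_of_pow_eq_one hap).trans (pow_one p).symm.dvd)
  exact mem_centralizer_of_noQuad hG _ hel hO ⟨k, hk⟩
    (le_bot_iff.mp ((commutator_mono (commutator_mono le_rfl (zpowers_le.2 ha))
      (zpowers_le.2 ha)).trans hquad.le))

theorem thompson_factorization_of_noQuad {G : Type u} [Group G] [Finite G] [Fact p.Prime]
    (hG : NoQuad p G) (hO : pPrimeCore p G = ⊥)
    (hc : centralizer (pCore p G : Set G) ≤ pCore p G) (P : Sylow p G) (g : G) :
    ∃ a ∈ normalizer (thompsonSubgroupOf p (P : Subgroup G) : Set G),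
      ∃ c ∈ centralizer {x : G | x ∈ (P : Subgroup G) ∧ (∀ y ∈ (P : Subgroup G), x * y = y * x) ∧
        x ^ p = 1}, g = a * c := by
  obtain ⟨x, hx, c, hcc, n, hn, hg⟩ :=
    (PLocal.thompsonFactorizable_iff hO).2 (thompson_le_centralizer_of_noQuad hG hc) P g⁻¹
  rw [hO, mem_bot] at hx
  subst hx
  refine ⟨n⁻¹, inv_mem hn, c⁻¹, inv_mem ?_, ?_⟩
  · refine mem_centralizer_iff.2 fun y ⟨hyP, hyc, hyp⟩ => mem_centralizer_iff.1 hcc y ?_
    exact subset_closure ⟨mem_inf.2 ⟨hyP, mem_centralizer_iff.2 fun z hz => (hyc z hz).symm⟩, hyp⟩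
  · rw [← mul_inv_rev, ← one_mul c, ← hg, inv_inv]

end CfsgLib.Transfer
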