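import Mathlib
import Cfsg.Agent.Lib.TwoGroups.Recognition
import Cfsg.Agent.Lib.Transfer.Tate

/-!
`p`-groups of maximal class: self-centralizing subgroups of order `p ^ 2`, and the structure of
the 2-groups of maximal class.
-/

set_option autoImplicit false

namespace CfsgLib.Transfer

open Subgroup
open scoped commutatorElement

universe u

/-- nilpotency class one for a nontrivial commutative group -/
theorem class_eq_one_of_comm {G : Type*} [Group G] [Nontrivial G]
    (h : ∀ x y : G, x * y = y * x) : Group.nilpotencyClass G = 1 := by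
  letI : CommGroup G := { (inferInstance : Group G) with mul_comm := h }
  refine le_antisymm (CommGroup.nilpotencyClass_le_one) ?_
  refine Nat.one_le_iff_ne_zero.mpr fun h0 => ?_
  have := Group.nilpotencyClass_zero_iff_subsingleton.mp h0
  exact false_of_nontrivial_of_subsingleton G

/-- a group with cyclic central quotient is commutative -/
theorem comm_of_cyclic_quotient_center {G : Type*} [Group G] [IsCyclic (G ⧸ center G)]
    (x y : G) : x * y = y * x :=
  (MonoidHom.isMulCommutative_of_isCyclic_of_ker_le_center (QuotientGroup.mk' (center G))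
    (le_of_eq (QuotientGroup.ker_mk' _))).is_comm.comm x y

theorem class_le_pred {p : ℕ} [hp : Fact p.Prime] :
    ∀ (n : ℕ) (G : Type u) [Group G] [Finite G], Nat.card G = p ^ n → 2 ≤ n →
      Group.nilpotencyClass G ≤ n - 1 := by
  intro n
  induction n using Nat.strong_induction_on with
  | _ n ih =>
    intro G _ _ hG hn
    have hGp : IsPGroup p G := IsPGroup.of_card hG
    have : Group.IsNilpotent G := hGp.isNilpotent
    have : Nontrivial G := Finite.one_lt_card_iff_nontrivial.mp
      (hG ▸ Nat.one_lt_pow (by omega) hp.out.one_lt)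
    by_cases hc : ∀ x y : G, x * y = y * x
    · rw [class_eq_one_of_comm hc]; omega
    obtain ⟨m, hm⟩ := IsPGroup.iff_card.mp (hGp.to_quotient (center G))
    have hZ := hGp.center_nontrivial
    have hlt : m < n := by
      have h1 := card_eq_card_quotient_mul_card_subgroup (center G)
      have h2 : 1 < Nat.card (center G) := Finite.one_lt_card
      rw [hG, hm] at h1
      refine (Nat.pow_lt_pow_iff_right hp.out.one_lt).mp ?_
      rw [h1]
      exact lt_mul_of_one_lt_right (pow_pos hp.out.pos m) h2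
    have hm2 : 2 ≤ m := by
      by_contra h
      refine hc fun x y => ?_
      have : IsCyclic (G ⧸ center G) := by
        rcases (by omega : m = 0 ∨ m = 1) with rfl | rfl
        · have := (Nat.card_eq_one_iff_unique.mp (by simpa using hm)).1
          exact isCyclic_of_subsingleton
        · exact isCyclic_of_prime_card (p := p) (by simpa using hm)
      exact comm_of_cyclic_quotient_center x y
    rw [Group.nilpotencyClass_eq_quotient_center_plus_one]
    have := ih m hlt _ hm hm2
    omega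

/-- in a group of maximal class the centre has prime order -/
theorem card_center_of_class {p : ℕ} [hp : Fact p.Prime] {G : Type*} [Group G] [Finite G]
    {n : ℕ} (hn : 3 ≤ n) (hG : Nat.card G = p ^ n) (hc : Group.nilpotencyClass G = n - 1) :
    Nat.card (center G) = p ∧ Group.nilpotencyClass (G ⧸ center G) = n - 2 ∧
      Nat.card (G ⧸ center G) = p ^ (n - 1) := by
  have hGp : IsPGroup p G := IsPGroup.of_card hG
  have : Nontrivial G := Finite.one_lt_card_iff_nontrivial.mp
    (hG ▸ Nat.one_lt_pow (by omega) hp.out.one_lt)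
  obtain ⟨m, hm⟩ := IsPGroup.iff_card.mp (hGp.to_quotient (center G))
  obtain ⟨j, hj⟩ := IsPGroup.iff_card.mp (hGp.to_subgroup (center G))
  have hq : Group.nilpotencyClass (G ⧸ center G) = n - 2 := by
    rw [Group.nilpotencyClass_quotient_center, hc]; omega
  have hsum : n = m + j := by
    have h1 := card_eq_card_quotient_mul_card_subgroup (center G)
    rw [hG, hm, hj, ← pow_add] at h1
    exact Nat.pow_right_injective hp.out.two_le h1
  have hj0 : j ≠ 0 := by
    rintro rfl
    have := hGp.center_nontrivial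
    have h2 : 1 < Nat.card (center G) := Finite.one_lt_card
    simp [hj] at h2
  have hm2 : 2 ≤ m := by
    by_contra h
    have hcy : IsCyclic (G ⧸ center G) := by
      rcases (by omega : m = 0 ∨ m = 1) with rfl | rfl
      · have := (Nat.card_eq_one_iff_unique.mp (by simpa using hm)).1
        exact isCyclic_of_subsingleton
      · exact isCyclic_of_prime_card (p := p) (by simpa using hm)
    rw [class_eq_one_of_comm (comm_of_cyclic_quotient_center)] at hc
    omega
  have hle := class_le_pred m _ hm hm2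
  have hj1 : j = 1 := by omega
  subst hj1
  exact ⟨by simpa using hj, hq, by rw [hm]; congr 1; omega⟩

/-- A `p`-group with a self-centralizing subgroup of order `p ^ 2` has maximal class. -/
theorem class_eq_of_self_centralizing {p : ℕ} [hp : Fact p.Prime] :
    ∀ (n : ℕ) (X : Type u) [Group X] [Finite X], Nat.card X = p ^ n →
      ∀ A : Subgroup X, Nat.card A = p ^ 2 → centralizer (A : Set X) = A →
        Group.nilpotencyClass X = n - 1 := by
  intro n
  induction n using Nat.strong_induction_on with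
  | _ n ih =>
    intro X _ _ hX A hA hC
    have hXp : IsPGroup p X := IsPGroup.of_card hX
    have hn2 : 2 ≤ n := by
      have h1 := card_subgroup_dvd_card A
      rw [hA, hX] at h1
      exact (Nat.pow_dvd_pow_iff_le_right hp.out.one_lt).mp h1
    have : Nontrivial X := Finite.one_lt_card_iff_nontrivial.mp
      (hX ▸ Nat.one_lt_pow (by omega) hp.out.one_lt)
    have : Group.IsNilpotent X := hXp.isNilpotent
    rcases eq_or_lt_of_le hn2 with rfl | hn3
    · have hAt : A = ⊤ := eq_top_of_card_eq A (by rw [hA, hX])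
      refine class_eq_one_of_comm fun x y => ?_
      have hx : x ∈ centralizer (A : Set X) := by rw [hC, hAt]; exact mem_top x
      exact (mem_centralizer_iff.mp hx y (hAt ▸ mem_top y)).symm
    set Z := center X with hZd
    have hZA : Z ≤ A := hC ▸ fun z hz => mem_centralizer_iff.mpr fun a _ =>
      mem_center_iff.mp hz a
    have hZne : Z ≠ A := by
      intro h
      have h1 : centralizer (A : Set X) = ⊤ := by
        rw [eq_top_iff]; intro x _
        exact mem_centralizer_iff.mpr fun a ha =>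
          ((mem_center_iff.mp (h.symm ▸ ha : a ∈ Z)) x).symm
      rw [hC] at h1
      rw [h1, card_top, hX] at hA
      have := Nat.pow_right_injective hp.out.two_le hA
      omega
    have hZc : Nat.card Z = p := by
      have hdvd := card_dvd_of_le hZA
      rw [hA] at hdvd
      obtain ⟨i, hi, hi'⟩ := (Nat.dvd_prime_pow hp.out).mp hdvd
      have hi2 : i ≠ 2 := fun h => hZne (eq_of_le_of_card_ge hZA (by rw [hA, hi', h]))
      have hi0 : i ≠ 0 := by
        rintro rfl
        have := hXp.center_nontrivial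
        have h2 : 1 < Nat.card Z := Finite.one_lt_card
        simp [hi'] at h2
      have : i = 1 := by omega
      rw [hi', this, pow_one]
    have hQc : Nat.card (X ⧸ Z) = p ^ (n - 1) := by
      have h1 := card_eq_card_quotient_mul_card_subgroup Z
      rw [hX, hZc] at h1
      have h2 : Nat.card (X ⧸ Z) * p = p ^ (n - 1) * p := by
        rw [← h1, ← pow_succ]; congr 1; omega
      exact Nat.eq_of_mul_eq_mul_right hp.out.pos h2
    have hQp : IsPGroup p (X ⧸ Z) := hXp.to_quotient Z
    set π := QuotientGroup.mk' Z with hπ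
    set Ā := A.map π with hĀd
    have hĀ : Nat.card Ā = p := by
      have h1 := card_eq_card_quotient_mul_card_subgroup (π.comp A.subtype).ker
      have hk : Nat.card (π.comp A.subtype).ker = p := by
        rw [← MonoidHom.comap_ker, QuotientGroup.ker_mk']
        exact (Nat.card_congr (subgroupOfEquivOfLe hZA).toEquiv).trans hZc
      have hr : Nat.card (A ⧸ (π.comp A.subtype).ker) = Nat.card Ā := by
        rw [Nat.card_congr (QuotientGroup.quotientKerEquivRange (π.comp A.subtype)).toEquiv,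
          MonoidHom.range_comp, range_subtype]
      rw [hA, hk, hr, pow_two] at h1
      exact (Nat.eq_of_mul_eq_mul_right hp.out.pos h1).symm
    set D := centralizer (Ā : Set (X ⧸ Z)) with hDd
    have hĀD : Ā ≤ D := by
      have := isCyclic_of_prime_card hĀ
      intro x hx
      exact mem_centralizer_iff.mpr fun y hy =>
        congrArg Subtype.val ((IsCyclic.commGroup (α := Ā)).mul_comm ⟨y, hy⟩ ⟨x, hx⟩)
    have hDne : D ≠ Ā := by
      intro h
      have : Nontrivial (X ⧸ Z) := Finite.one_lt_card_iff_nontrivial.mp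
        (hQc ▸ Nat.one_lt_pow (by omega) hp.out.one_lt)
      have hle : center (X ⧸ Z) ≤ Ā := h ▸ fun z hz => mem_centralizer_iff.mpr fun a _ =>
        mem_center_iff.mp hz a
      have := hQp.center_nontrivial
      have h2 : 1 < Nat.card (center (X ⧸ Z)) := Finite.one_lt_card
      have h3 : center (X ⧸ Z) = Ā := by
        refine eq_of_le_of_card_ge hle ?_
        have := card_dvd_of_le hle
        rw [hĀ] at this ⊢
        rcases (Nat.dvd_prime hp.out).mp this with h4 | h4 <;> omega
      have htop : D = ⊤ := by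
        rw [eq_top_iff]; intro x _
        exact mem_centralizer_iff.mpr fun a ha =>
          ((mem_center_iff.mp (h3.symm ▸ ha : a ∈ center (X ⧸ Z))) x).symm
      have h5 : Nat.card (⊤ : Subgroup (X ⧸ Z)) = p := by rw [← htop, h, hĀ]
      rw [card_top, hQc] at h5
      have := Nat.pow_right_injective hp.out.two_le (h5.trans (pow_one p).symm)
      omega
    obtain ⟨a, haA, haZ⟩ := SetLike.exists_of_lt (lt_of_le_of_ne hZA hZne)
    have hCa : ∀ x : X, x * a = a * x → x ∈ A := by
      intro x hx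
      rw [← hC]
      refine mem_centralizer_iff.mpr fun b hb => ?_
      have hle : A ≤ centralizer {x} := by
        have h1 : zpowers a ⊔ Z = A := by
          refine eq_of_le_of_card_ge (sup_le (zpowers_le.mpr haA) hZA) ?_
          have hdvd := card_dvd_of_le (sup_le (zpowers_le.mpr haA) hZA : zpowers a ⊔ Z ≤ A)
          rw [hA] at hdvd ⊢
          obtain ⟨i, hi, hi'⟩ := (Nat.dvd_prime_pow hp.out).mp hdvd
          have h2 : Nat.card Z < Nat.card (zpowers a ⊔ Z : Subgroup X) := by
            refine lt_of_le_of_ne (card_le_of_le le_sup_right) fun h => haZ ?_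
            rw [eq_of_le_of_card_ge (le_sup_right : Z ≤ zpowers a ⊔ Z) h.ge]
            exact mem_sup_left (mem_zpowers a)
          rw [hZc, hi'] at h2
          rw [hi']
          refine Nat.pow_le_pow_right hp.out.pos ?_
          by_contra hlt
          have : p ^ i ≤ p ^ 1 := Nat.pow_le_pow_right hp.out.pos (by omega)
          rw [pow_one] at this; omega
        rw [← h1]
        refine sup_le (zpowers_le.mpr (mem_centralizer_singleton_iff.mpr hx.symm)) fun z hz => ?_
        exact mem_centralizer_singleton_iff.mpr ((mem_center_iff.mp hz x).symm)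
      exact mem_centralizer_singleton_iff.mp (hle hb)
    have hcomm : ∀ x ∈ D.comap π, x * a * x⁻¹ * a⁻¹ ∈ Z := by
      intro x hx
      rw [← QuotientGroup.eq_one_iff]
      have h1 := mem_centralizer_iff.mp (mem_comap.mp hx) (π a) (mem_map_of_mem π haA)
      show π (x * a * x⁻¹ * a⁻¹) = 1
      rw [map_mul, map_mul, map_mul, map_inv, map_inv, ← h1]
      group
    let f : D.comap π →* Z :=
      MonoidHom.mk' (fun x => ⟨(x : X) * a * (x : X)⁻¹ * a⁻¹, hcomm x x.2⟩) fun x y => by
        refine Subtype.ext ?_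
        show ((x : X) * y) * a * ((x : X) * y)⁻¹ * a⁻¹ =
          ((x : X) * a * (x : X)⁻¹ * a⁻¹) * ((y : X) * a * (y : X)⁻¹ * a⁻¹)
        have h1 := mem_center_iff.mp (hcomm y y.2) ((x : X) * a * (x : X)⁻¹ * a⁻¹)
        rw [h1]
        have h2 := mem_center_iff.mp (hcomm y y.2) (x : X)
        calc ((x : X) * y) * a * ((x : X) * y)⁻¹ * a⁻¹
            = ((x : X) * ((y : X) * a * (y : X)⁻¹ * a⁻¹)) * (a * (x : X)⁻¹ * a⁻¹) := by group
          _ = _ := by rw [h2]; group
    have hDc : Nat.card D = p ^ 2 := by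
      obtain ⟨i, hi⟩ := IsPGroup.iff_card.mp (hQp.to_subgroup D)
      have hM : Nat.card (D.comap π) = p * p ^ i := by
        have h1 := card_eq_card_quotient_mul_card_subgroup (π.comp (D.comap π).subtype).ker
        have hk : Nat.card (π.comp (D.comap π).subtype).ker = p := by
          rw [← MonoidHom.comap_ker, QuotientGroup.ker_mk']
          refine (Nat.card_congr (subgroupOfEquivOfLe ?_).toEquiv).trans hZc
          intro z hz
          rw [mem_comap, hπ, QuotientGroup.mk'_apply, (QuotientGroup.eq_one_iff z).mpr hz]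
          exact one_mem _
        have hr : Nat.card (D.comap π ⧸ (π.comp (D.comap π).subtype).ker) = p ^ i := by
          rw [Nat.card_congr
            (QuotientGroup.quotientKerEquivRange (π.comp (D.comap π).subtype)).toEquiv,
            MonoidHom.range_comp, range_subtype,
            map_comap_eq_self_of_surjective (QuotientGroup.mk'_surjective Z), hi]
        rw [hk, hr] at h1
        rw [h1, mul_comm]
      have hker : Nat.card f.ker ≤ p ^ 2 := by
        rw [← hA]
        refine Nat.card_le_card_of_injective (fun x : f.ker => (⟨((x : D.comap π) : X), hCa _ ?_⟩ : A))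
          fun x y hxy => Subtype.ext (Subtype.ext (congrArg (fun b : A => (b : X)) hxy))
        have h1 : ((x : D.comap π) : X) * a * ((x : D.comap π) : X)⁻¹ * a⁻¹ = 1 :=
          congrArg Subtype.val (MonoidHom.mem_ker.mp x.2)
        rw [mul_inv_eq_one, mul_inv_eq_iff_eq_mul] at h1
        exact h1
      have h2 : Nat.card (D.comap π) ≤ p * p ^ 2 := by
        rw [card_eq_card_quotient_mul_card_subgroup f.ker,
          Nat.card_congr (QuotientGroup.quotientKerEquivRange f).toEquiv]
        exact Nat.mul_le_mul ((card_le_card_group f.range).trans hZc.le) hker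
      rw [hM] at h2
      have hi2 : i ≤ 2 := (Nat.pow_le_pow_iff_right hp.out.one_lt).mp
        (Nat.le_of_mul_le_mul_left h2 hp.out.pos)
      have h3 : p < p ^ i := by
        rw [← hi, ← hĀ]
        exact lt_of_le_of_ne (card_le_of_le hĀD) fun h =>
          hDne (eq_of_le_of_card_ge hĀD h.ge).symm
      have : i = 2 := by
        rcases (by omega : i = 0 ∨ i = 1 ∨ i = 2) with rfl | rfl | rfl <;> simp [hp.out.ne_zero] at h3 ⊢
      rw [hi, this]
    have hCD : centralizer (D : Set (X ⧸ Z)) = D := by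
      refine le_antisymm (centralizer_le hĀD) fun x hx => ?_
      have := IsPGroup.commutative_of_card_eq_prime_sq hDc
      exact mem_centralizer_iff.mpr fun y hy =>
        congrArg Subtype.val (this (⟨y, hy⟩ : D) ⟨x, hx⟩)
    have hrec := ih (n - 1) (by omega) (X ⧸ Z) hQc D hDc hCD
    rw [Group.nilpotencyClass_eq_quotient_center_plus_one]
    change Group.nilpotencyClass (X ⧸ Z) + 1 = n - 1
    omega

/-- The shape of a 2-group of maximal class of order `2 ^ n`: a cyclic subgroup `⟨a⟩` of index two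
and an element `b` outside acting by inversion, possibly times the central involution. -/
def MCShape (G : Type*) [Group G] (n : ℕ) : Prop :=
  ∃ a b : G, orderOf a = 2 ^ (n - 1) ∧ b ∉ zpowers a ∧
    (b * a * b⁻¹ = a⁻¹ ∨ 4 ≤ n ∧ b * a * b⁻¹ = a ^ 2 ^ (n - 2) * a⁻¹) ∧
    (b ^ 2 = 1 ∨ b ^ 2 = a ^ 2 ^ (n - 2))

section shape

variable {G : Type*} [Group G] {n : ℕ} {a b : G}

theorem w_sq (hn : 2 ≤ n) (ha : orderOf a = 2 ^ (n - 1)) :
    (a ^ 2 ^ (n - 2)) ^ 2 = 1 := by
  rw [← pow_mul, ← pow_succ, show n - 2 + 1 = n - 1 by omega, ← ha, pow_orderOf_eq_one]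

/-- powers of `a` commuting with `b` lie in `{1, w}` -/
theorem pow_fixed (hn : 3 ≤ n) (ha : orderOf a = 2 ^ (n - 1))
    (hconj : b * a * b⁻¹ = a⁻¹ ∨ 4 ≤ n ∧ b * a * b⁻¹ = a ^ 2 ^ (n - 2) * a⁻¹)
    {i : ℕ} (hi : b * a ^ i * b⁻¹ = a ^ i) : a ^ i = 1 ∨ a ^ i = a ^ 2 ^ (n - 2) := by
  have hN : ∀ k : ℕ, a ^ k = 1 ↔ 2 ^ (n - 1) ∣ k := fun k => by
    rw [← orderOf_dvd_iff_pow_eq_one, ha]
  have key : 2 ^ (n - 1) ∣ 2 * i := by
    rcases hconj with h | ⟨h4, h⟩
    · rw [← hN, two_mul, pow_add]
      rw [← conj_pow, h, inv_pow] at hi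
      exact (eq_inv_iff_mul_eq_one.mp hi.symm)
    · rw [← conj_pow, h, ((Commute.refl a).pow_left _).inv_right.mul_pow, inv_pow,
        mul_inv_eq_iff_eq_mul, ← pow_add] at hi
      have h1 : (a ^ 2 ^ (n - 2)) ^ i ^ 1 = a ^ (i + i) := by rw [pow_one]; exact hi
      have h2 : a ^ (2 * (i + i)) = 1 := by
        rw [mul_comm, pow_mul, ← hi, ← pow_mul, mul_comm, pow_mul, w_sq (by omega) ha, one_pow]
      rw [hN, show n - 1 = (n - 3) + 2 by omega, pow_add,
        show 2 * (i + i) = i * 2 ^ 2 by ring] at h2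
      have h3 := Nat.dvd_of_mul_dvd_mul_right (by norm_num) h2
      have h5 : 2 ∣ i := (dvd_pow_self 2 (by omega : n - 3 ≠ 0)).trans h3
      obtain ⟨j, rfl⟩ := h5
      rw [← hN, two_mul, ← hi, pow_mul, w_sq (by omega) ha, one_pow]
  rw [show n - 1 = (n - 2) + 1 by omega, pow_succ, mul_comm 2 i] at key
  obtain ⟨j, rfl⟩ := Nat.dvd_of_mul_dvd_mul_right (by norm_num) key
  rw [pow_mul]
  rcases Nat.even_or_odd' j with ⟨k, rfl | rfl⟩
  · exact Or.inl (by rw [pow_mul, w_sq (by omega) ha, one_pow])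
  · exact Or.inr (by rw [pow_succ, pow_mul, w_sq (by omega) ha, one_pow, one_mul])

theorem index_zpowers_two [Finite G] (hn : 1 ≤ n) (hG : Nat.card G = 2 ^ n)
    (ha : orderOf a = 2 ^ (n - 1)) : (zpowers a).index = 2 := by
  have h := (zpowers a).card_mul_index
  rw [Nat.card_zpowers, ha, hG, show 2 ^ n = 2 ^ (n - 1) * 2 by
    rw [← pow_succ]; congr 1; omega] at h
  exact Nat.eq_of_mul_eq_mul_left (by positivity) h

theorem exists_pow_or [Finite G] (hn : 1 ≤ n) (hG : Nat.card G = 2 ^ n)
    (ha : orderOf a = 2 ^ (n - 1)) (hb : b ∉ zpowers a) (x : G) :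
    ∃ i : ℕ, x = a ^ i ∨ x = b * a ^ i := by
  by_cases hx : x ∈ zpowers a
  · obtain ⟨i, hi⟩ := mem_powers_iff_mem_zpowers.mpr hx
    exact ⟨i, Or.inl hi.symm⟩
  · have h := (mul_mem_iff_of_index_two (index_zpowers_two hn hG ha) (a := b⁻¹) (b := x)).mpr
      (iff_of_false (by rwa [inv_mem_iff]) hx)
    obtain ⟨i, hi⟩ := mem_powers_iff_mem_zpowers.mpr h
    exact ⟨i, Or.inr (by rw [show a ^ i = b⁻¹ * x from hi, mul_inv_cancel_left])⟩

theorem sq_mem [Finite G] (hn : 1 ≤ n) (hG : Nat.card G = 2 ^ n)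
    (ha : orderOf a = 2 ^ (n - 1)) (x : G) : x ^ 2 ∈ zpowers a := by
  rw [pow_two]
  exact mul_self_mem_of_index_two (index_zpowers_two hn hG ha) x

theorem closure_ab [Finite G] (hn : 1 ≤ n) (hG : Nat.card G = 2 ^ n)
    (ha : orderOf a = 2 ^ (n - 1)) (hb : b ∉ zpowers a) : closure ({a, b} : Set G) = ⊤ := by
  rw [eq_top_iff]; intro x _
  obtain ⟨i, rfl | rfl⟩ := exists_pow_or hn hG ha hb x
  · exact pow_mem (subset_closure (by simp)) i
  · exact mul_mem (subset_closure (by simp)) (pow_mem (subset_closure (by simp)) i)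

/-- `a` does not commute with `b` -/
theorem not_commute (hn : 3 ≤ n) (ha : orderOf a = 2 ^ (n - 1))
    (hconj : b * a * b⁻¹ = a⁻¹ ∨ 4 ≤ n ∧ b * a * b⁻¹ = a ^ 2 ^ (n - 2) * a⁻¹) :
    b * a * b⁻¹ ≠ a := by
  intro h
  have h1 : b * a ^ 1 * b⁻¹ = a ^ 1 := by rwa [pow_one]
  have hlt : 1 < 2 ^ (n - 2) := Nat.one_lt_two_pow (by omega)
  have hd : 2 ^ (n - 2) * 2 = 2 ^ (n - 1) := by rw [← pow_succ]; congr 1; omega
  rcases pow_fixed hn ha hconj h1 with h2 | h2 <;> rw [pow_one] at h2
  · rw [h2, orderOf_one] at ha; omega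
  · have h3 : a ^ (2 ^ (n - 2) - 1) = 1 := by
      rw [← mul_right_inj a, ← pow_succ', Nat.sub_add_cancel hlt.le, ← h2, mul_one]
    have h4 := Nat.le_of_dvd (by omega) (orderOf_dvd_iff_pow_eq_one.mpr h3)
    rw [ha] at h4; omega

theorem center_eq [Finite G] (hn : 3 ≤ n) (hG : Nat.card G = 2 ^ n)
    (ha : orderOf a = 2 ^ (n - 1)) (hb : b ∉ zpowers a)
    (hconj : b * a * b⁻¹ = a⁻¹ ∨ 4 ≤ n ∧ b * a * b⁻¹ = a ^ 2 ^ (n - 2) * a⁻¹) :
    center G = zpowers (a ^ 2 ^ (n - 2)) := by
  apply le_antisymm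
  · intro x hx
    obtain ⟨i, rfl | rfl⟩ := exists_pow_or (by omega) hG ha hb x
    · have h1 : b * a ^ i * b⁻¹ = a ^ i := by rw [mem_center_iff.mp hx b, mul_inv_cancel_right]
      rcases pow_fixed hn ha hconj h1 with h | h <;> rw [h]
      · exact one_mem _
      · exact mem_zpowers _
    · exfalso
      refine not_commute hn ha hconj ?_
      have h1 := mem_center_iff.mp hx a
      rw [← mul_assoc, mul_assoc b, ← pow_succ, pow_succ', ← mul_assoc] at h1
      rw [mul_inv_eq_iff_eq_mul]
      exact (mul_right_cancel h1).symm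
  · rw [zpowers_le]
    refine mem_center_iff.mpr fun x => ?_
    have hbw : b * a ^ 2 ^ (n - 2) * b⁻¹ = a ^ 2 ^ (n - 2) := by
      have hinv : (a ^ 2 ^ (n - 2))⁻¹ = a ^ 2 ^ (n - 2) :=
        inv_eq_of_mul_eq_one_right (by rw [← pow_two, w_sq (by omega) ha])
      rcases hconj with h | ⟨h4, h⟩
      · rw [← conj_pow, h, inv_pow, hinv]
      · rw [← conj_pow, h, ((Commute.refl a).pow_left _).inv_right.mul_pow, inv_pow, hinv]
        rw [orderOf_dvd_iff_pow_eq_one.mp ((orderOf_dvd_of_pow_eq_one (w_sq (by omega) ha)).trans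
          (dvd_pow_self 2 (by omega))), one_mul]
    rw [mul_inv_eq_iff_eq_mul] at hbw
    obtain ⟨i, rfl | rfl⟩ := exists_pow_or (by omega) hG ha hb x
    · exact ((Commute.refl a).pow_pow i _).eq
    · rw [mul_assoc, ((Commute.refl a).pow_pow i _).eq, ← mul_assoc, hbw, mul_assoc]

end shape

theorem card_quotient_center_of_shape {G : Type*} [Group G] [Finite G] {n : ℕ} {a b : G}
    (hn : 3 ≤ n) (hG : Nat.card G = 2 ^ n) (ha : orderOf a = 2 ^ (n - 1)) (hb : b ∉ zpowers a)
    (hconj : b * a * b⁻¹ = a⁻¹ ∨ 4 ≤ n ∧ b * a * b⁻¹ = a ^ 2 ^ (n - 2) * a⁻¹)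
    (hb2 : b ^ 2 = 1 ∨ b ^ 2 = a ^ 2 ^ (n - 2)) :
    Nat.card (G ⧸ center G) = 2 ^ (n - 1) ∧
    orderOf (QuotientGroup.mk a : G ⧸ center G) = 2 ^ (n - 2) ∧
    (QuotientGroup.mk b : G ⧸ center G) ∉ zpowers (QuotientGroup.mk a : G ⧸ center G) ∧
    (QuotientGroup.mk b : G ⧸ center G) * QuotientGroup.mk a * (QuotientGroup.mk b)⁻¹ =
      (QuotientGroup.mk a : G ⧸ center G)⁻¹ ∧
    (QuotientGroup.mk b : G ⧸ center G) ^ 2 = 1 := by
  have hZ := center_eq hn hG ha hb hconj
  have hw : a ^ 2 ^ (n - 2) ∈ center G := hZ ▸ mem_zpowers _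
  have hord : orderOf (a ^ 2 ^ (n - 2)) = 2 := by
    refine orderOf_eq_prime (w_sq (by omega) ha) fun h => ?_
    have := Nat.le_of_dvd (by positivity) (orderOf_dvd_iff_pow_eq_one.mpr h)
    rw [ha] at this
    exact absurd this (not_le.mpr (Nat.pow_lt_pow_right one_lt_two (by omega)))
  have hcard : Nat.card (G ⧸ center G) = 2 ^ (n - 1) := by
    have h1 := card_eq_card_quotient_mul_card_subgroup (center G)
    have h2 : Nat.card (center G) = 2 := by rw [hZ, Nat.card_zpowers, hord]
    rw [hG, h2, show 2 ^ n = 2 ^ (n - 1) * 2 by rw [← pow_succ]; congr 1; omega] at h1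
    omega
  have hZa : center G ≤ zpowers a := by
    rw [hZ, zpowers_le]; exact pow_mem (mem_zpowers a) _
  refine ⟨hcard, ?_, ?_, ?_, ?_⟩
  · refine Nat.dvd_antisymm (orderOf_dvd_of_pow_eq_one ?_) ?_
    · rw [← QuotientGroup.mk_pow, QuotientGroup.eq_one_iff]; exact hw
    · have h1 := pow_orderOf_eq_one (QuotientGroup.mk a : G ⧸ center G)
      rw [← QuotientGroup.mk_pow, QuotientGroup.eq_one_iff] at h1
      obtain ⟨k, hk⟩ := mem_powers_iff_mem_zpowers.mpr (hZ.le h1)
      simp only [← pow_mul] at hk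
      have h2 := pow_inj_mod.mp hk
      rw [ha] at h2
      have h3 : 2 ^ (n - 2) * k ≡ orderOf (QuotientGroup.mk a : G ⧸ center G)
          [MOD 2 ^ (n - 2)] :=
        Nat.ModEq.of_dvd (pow_dvd_pow 2 (by omega)) h2
      exact Nat.modEq_zero_iff_dvd.mp (h3.symm.trans (Nat.modEq_zero_iff_dvd.mpr (dvd_mul_right _ _)))
  · intro h
    obtain ⟨i, hi⟩ := mem_powers_iff_mem_zpowers.mpr h
    simp only [← QuotientGroup.mk_pow, QuotientGroup.eq] at hi
    exact hb (by simpa using mul_mem (pow_mem (mem_zpowers a) i) (hZa hi))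
  · rcases hconj with h | ⟨-, h⟩
    · rw [← QuotientGroup.mk_inv, ← QuotientGroup.mk_mul, ← QuotientGroup.mk_mul, h,
        QuotientGroup.mk_inv]
    · rw [← QuotientGroup.mk_inv, ← QuotientGroup.mk_mul, ← QuotientGroup.mk_mul, h,
        QuotientGroup.mk_mul, (QuotientGroup.eq_one_iff _).mpr hw, one_mul, QuotientGroup.mk_inv]
  · rw [← QuotientGroup.mk_pow, QuotientGroup.eq_one_iff]
    rcases hb2 with h | h <;> rw [h]
    · exact one_mem _
    · exact hw

theorem class_of_shape : ∀ (n : ℕ) (G : Type u) [Group G] [Finite G], 3 ≤ n →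
    Nat.card G = 2 ^ n → MCShape G n → Group.nilpotencyClass G = n - 1 := by
  intro n
  induction n using Nat.strong_induction_on with
  | _ n ih =>
    intro G _ _ hn hG ⟨a, b, ha, hb, hconj, hb2⟩
    have : Group.IsNilpotent G := (IsPGroup.of_card hG).isNilpotent
    have : Nontrivial G := Finite.one_lt_card_iff_nontrivial.mp
      (hG ▸ Nat.one_lt_two_pow (by omega))
    obtain ⟨hc, hao, hbo, hcj, hbs⟩ := card_quotient_center_of_shape hn hG ha hb hconj hb2
    rw [Group.nilpotencyClass_eq_quotient_center_plus_one]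
    rcases eq_or_lt_of_le hn with rfl | hn4
    · have : Nontrivial (G ⧸ center G) := Finite.one_lt_card_iff_nontrivial.mp
        (hc ▸ Nat.one_lt_two_pow (by omega))
      have : Fact (Nat.Prime 2) := ⟨Nat.prime_two⟩
      rw [class_eq_one_of_comm (IsPGroup.commutative_of_card_eq_prime_sq (p := 2) hc)]
    · rw [ih (n - 1) (by omega) (G ⧸ center G) (by omega) hc
        ⟨_, _, by rw [hao, show n - 1 - 1 = n - 2 by omega], hbo, Or.inl hcj, Or.inl hbs⟩]
      omega

theorem klein_of_card_four {Q : Type*} [Group Q] (hc : Nat.card Q = 4) (hnc : ¬ IsCyclic Q) :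
    IsKleinFour Q := by
  have : Finite Q := Nat.finite_of_card_ne_zero (by omega)
  refine ⟨hc, ?_⟩
  have h2 : ∀ x : Q, x ^ 2 = 1 := by
    intro x
    have hd : orderOf x ∣ 2 ^ 2 := by
      rw [show 2 ^ 2 = Nat.card Q by omega]; exact orderOf_dvd_natCard x
    obtain ⟨i, hi, hi'⟩ := (Nat.dvd_prime_pow Nat.prime_two).mp hd
    have : i ≤ 1 := by
      by_contra h
      exact hnc (isCyclic_of_orderOf_eq_card x (by rw [hi', show i = 2 by omega, hc]; rfl))
    exact orderOf_dvd_iff_pow_eq_one.mp (hi' ▸ pow_dvd_pow 2 this |>.trans (by norm_num))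
  refine Nat.dvd_antisymm (Monoid.exponent_dvd_of_forall_pow_eq_one h2) ?_
  obtain ⟨x, hx⟩ : ∃ x : Q, x ≠ 1 := by
    by_contra h
    push Not at h
    have : Subsingleton Q := ⟨fun x y => by rw [h x, h y]⟩
    rw [Nat.card_unique] at hc; omega
  rw [← orderOf_eq_prime (h2 x) hx]
  exact Monoid.order_dvd_exponent x

theorem klein_congr {G H : Type*} [Group G] [Group H] (e : G ≃* H) (h : IsKleinFour G) :
    IsKleinFour H :=
  ⟨(Nat.card_congr e.toEquiv).symm.trans h.card_four,
    (Monoid.exponent_eq_of_mulEquiv e).symm.trans h.exponent_two⟩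

/-- abelianization is unchanged modulo a subgroup of the derived group -/
theorem klein_quotient_iff {G : Type*} [Group G] (N : Subgroup G) [N.Normal]
    (hN : N ≤ commutator G) :
    IsKleinFour ((G ⧸ N) ⧸ commutator (G ⧸ N)) ↔ IsKleinFour (G ⧸ commutator G) := by
  have hmap : (commutator G).map (QuotientGroup.mk' N) = commutator (G ⧸ N) := by
    simp only [_root_.commutator_def]
    rw [map_commutator, map_top_of_surjective _ (QuotientGroup.mk'_surjective N)]
  let e := (QuotientGroup.quotientMulEquivOfEq hmap.symm).trans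
    (QuotientGroup.quotientQuotientEquivQuotient N (commutator G) hN)
  exact ⟨klein_congr e, klein_congr e.symm⟩

theorem shape_base {G : Type*} [Group G] [Finite G] (hG : Nat.card G = 2 ^ 3)
    (hna : ∃ x y : G, x * y ≠ y * x) : MCShape G 3 := by
  have hord : ∀ x : G, orderOf x = 1 ∨ orderOf x = 2 ∨ orderOf x = 4 := by
    intro x
    obtain ⟨i, hi, hi'⟩ := (Nat.dvd_prime_pow Nat.prime_two).mp (hG ▸ orderOf_dvd_natCard x)
    rcases (by omega : i = 0 ∨ i = 1 ∨ i = 2 ∨ i = 3) with rfl | rfl | rfl | rfl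
    all_goals first
      | (left; simpa using hi')
      | (right; left; simpa using hi')
      | (right; right; simpa using hi')
      | skip
    exfalso
    have : IsCyclic G := isCyclic_of_orderOf_eq_card x (by rw [hi', hG])
    obtain ⟨u, v, huv⟩ := hna
    exact huv ((IsCyclic.commGroup (α := G)).mul_comm u v)
  obtain ⟨a, ha⟩ : ∃ a : G, orderOf a = 4 := by
    by_contra h
    push Not at h
    have h2 : ∀ x : G, x⁻¹ = x := fun x => inv_eq_of_mul_eq_one_right (by
      rcases hord x with h1 | h1 | h1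
      · rw [orderOf_eq_one_iff.mp h1, one_mul]
      · rw [← pow_two, ← h1, pow_orderOf_eq_one]
      · exact absurd h1 (h x))
    obtain ⟨u, v, huv⟩ := hna
    exact huv (by rw [← h2 (u * v), mul_inv_rev, h2, h2])
  obtain ⟨b, hb⟩ : ∃ b, b ∉ zpowers a := by
    by_contra h
    push Not at h
    have : IsCyclic G := ⟨⟨a, h⟩⟩
    obtain ⟨u, v, huv⟩ := hna
    exact huv ((IsCyclic.commGroup (α := G)).mul_comm u v)
  have ha' : orderOf a = 2 ^ (3 - 1) := by rw [ha]; norm_num
  have : (zpowers a).Normal := normal_of_index_eq_two (index_zpowers_two (by norm_num) hG ha')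
  obtain ⟨i, hi4, hi⟩ : ∃ i < 4, a ^ i = b * a * b⁻¹ := by
    obtain ⟨i, hi⟩ := mem_powers_iff_mem_zpowers.mpr
      (this.conj_mem a (mem_zpowers a) b)
    exact ⟨i % 4, Nat.mod_lt _ (by norm_num), by rw [← ha, pow_mod_orderOf]; exact hi⟩
  have ho : orderOf (b * a * b⁻¹) = 4 := by
    rw [← ha]; exact orderOf_injective (MulAut.conj b).toMonoidHom (MulEquiv.injective _) a
  have hinv : b * a * b⁻¹ = a⁻¹ := by
    interval_cases i
    · rw [← hi, pow_zero, orderOf_one] at ho; omega
    · exfalso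
      rw [pow_one] at hi
      obtain ⟨u, v, huv⟩ := hna
      have hab : a * b = b * a := mul_inv_eq_iff_eq_mul.mp hi.symm |>.symm
      have := isMulCommutative_closure (k := ({a, b} : Set G)) (by
        rintro x (rfl | rfl) y (rfl | rfl) <;> first | rfl | exact hab | exact hab.symm)
      rw [closure_ab (by norm_num) hG ha' hb] at this
      exact huv (congrArg Subtype.val
        (this.is_comm.comm (⟨u, mem_top u⟩ : (⊤ : Subgroup G)) ⟨v, mem_top v⟩))
    · have h1 : (b * a * b⁻¹) ^ 2 = 1 := by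
        rw [← hi, ← pow_mul, show 2 * 2 = orderOf a by omega, pow_orderOf_eq_one]
      have := Nat.le_of_dvd (by norm_num) (orderOf_dvd_of_pow_eq_one h1)
      omega
    · rw [← hi, eq_inv_iff_mul_eq_one, ← pow_succ,
        show 3 + 1 = orderOf a by omega, pow_orderOf_eq_one]
  obtain ⟨j, hj⟩ := mem_powers_iff_mem_zpowers.mpr (sq_mem (by norm_num) hG ha' b)
  refine ⟨a, b, ha', hb, Or.inl hinv, ?_⟩
  have hfix : b * a ^ j * b⁻¹ = a ^ j := by
    rw [show a ^ j = b ^ 2 from hj, ← pow_succ', pow_succ, mul_inv_cancel_right]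
  rcases pow_fixed (le_refl 3) ha' (Or.inl hinv) hfix with h | h
  · exact Or.inl (hj.symm.trans h)
  · exact Or.inr (hj.symm.trans h)

theorem shape_lift {G : Type*} [Group G] [Finite G] {n : ℕ} (hn : 4 ≤ n)
    (hG : Nat.card G = 2 ^ n) {z : G} [hZn : (zpowers z).Normal] (hz : z ∈ center G)
    (hz2 : orderOf z = 2) (hzc : z ∈ commutator G) (hS : MCShape (G ⧸ zpowers z) (n - 1)) :
    MCShape G n := by
  obtain ⟨qa, qb, ha, hb, hconj, hb2⟩ := hS
  obtain ⟨a, rfl⟩ := QuotientGroup.mk_surjective qa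
  obtain ⟨b, rfl⟩ := QuotientGroup.mk_surjective qb
  rw [show n - 1 - 1 = n - 2 by omega] at ha
  have hQ : Nat.card (G ⧸ zpowers z) = 2 ^ (n - 1) := by
    have h1 := card_eq_card_quotient_mul_card_subgroup (zpowers z)
    rw [hG, Nat.card_zpowers, hz2, show 2 ^ n = 2 ^ (n - 1) * 2 by
      rw [← pow_succ]; congr 1; omega] at h1
    omega
  have hz1 : z ≠ 1 := fun h => by rw [h, orderOf_one] at hz2; omega
  have hzz : z ^ 2 = 1 := hz2 ▸ pow_orderOf_eq_one z
  have hzmem : ∀ ζ ∈ zpowers z, ζ = 1 ∨ ζ = z := by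
    intro ζ hζ
    obtain ⟨i, rfl⟩ := mem_powers_iff_mem_zpowers.mpr hζ
    rcases Nat.even_or_odd' i with ⟨k, rfl | rfl⟩
    · exact Or.inl (by simp [pow_mul, hzz])
    · exact Or.inr (by simp [pow_succ, pow_mul, hzz])
  have hzc' : ∀ (ζ : G), ζ ∈ zpowers z → ∀ x : G, x * ζ = ζ * x := fun ζ hζ x =>
    mem_center_iff.mp (zpowers_le.mpr hz hζ) x
  -- the exponent by which `b` acts on `a` modulo `z`
  obtain ⟨u, hu, e, he5, hk, ζ, hζ, hba⟩ :
      ∃ (u : ℤ), Odd u ∧ ∃ e : Bool, (e = true → 5 ≤ n) ∧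
        (2 * u + 1 = (if e then (2 : ℤ) ^ (n - 3) else 0) - 1) ∧
        ∃ ζ ∈ zpowers z, b * a * b⁻¹ = a ^ (2 * u + 1) * ζ := by
    rcases hconj with h | ⟨h5, h⟩
    · refine ⟨-1, by decide, false, by simp, by norm_num, ?_⟩
      rw [← QuotientGroup.mk_inv, ← QuotientGroup.mk_mul, ← QuotientGroup.mk_mul,
        ← QuotientGroup.mk_inv, QuotientGroup.eq] at h
      refine ⟨((b * a * b⁻¹)⁻¹ * a⁻¹)⁻¹, inv_mem h, ?_⟩
      norm_num
    · refine ⟨2 ^ (n - 4) - 1, ?_, true, fun _ => by omega, ?_, ?_⟩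
      · rw [show n - 4 = (n - 5) + 1 by omega, pow_succ]
        exact ⟨2 ^ (n - 5) - 1, by ring⟩
      · rw [if_pos rfl, show n - 3 = (n - 4) + 1 by omega, pow_succ]; ring
      · rw [show n - 1 - 2 = n - 3 by omega, ← QuotientGroup.mk_inv, ← QuotientGroup.mk_inv,
          ← QuotientGroup.mk_pow, ← QuotientGroup.mk_mul, ← QuotientGroup.mk_mul,
          ← QuotientGroup.mk_mul, QuotientGroup.eq] at h
        refine ⟨((b * a * b⁻¹)⁻¹ * (a ^ 2 ^ (n - 3) * a⁻¹))⁻¹, inv_mem h, ?_⟩
        have he : (2 * (2 ^ (n - 4) - 1) + 1 : ℤ) = ((2 ^ (n - 3) : ℕ) : ℤ) + -1 := by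
          push_cast
          rw [show n - 3 = (n - 4) + 1 by omega, pow_succ]; ring
        rw [he, zpow_add, zpow_natCast, zpow_neg_one]
        group
  set k : ℤ := 2 * u + 1 with hkd
  set c : G := a ^ (2 * u) * ζ with hcd
  have hζ2 : ζ ^ 2 = 1 := by
    rcases hzmem ζ hζ with rfl | rfl
    · exact one_pow 2
    · exact hzz
  have hζodd : ζ ^ k = ζ := by
    rw [hkd, zpow_add, zpow_one, zpow_mul, zpow_ofNat, hζ2, one_zpow, one_mul]
  have hζeven : ζ ^ (2 * u) = 1 := by rw [zpow_mul, zpow_ofNat, hζ2, one_zpow]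
  have hζb : b * ζ * b⁻¹ = ζ := by rw [hzc' ζ hζ b, mul_inv_cancel_right]
  have hcb : b * c * b⁻¹ = c ^ k := by
    have h1 : b * a ^ (2 * u) * b⁻¹ = a ^ (k * (2 * u)) := by
      rw [← conj_zpow, hba, (show Commute (a ^ k) ζ from hzc' ζ hζ _).mul_zpow, ← zpow_mul,
        hζeven, mul_one]
    rw [hcd, (show Commute (a ^ (2 * u)) ζ from hzc' ζ hζ _).mul_zpow, hζodd, ← zpow_mul,
      mul_comm (2 * u) k, ← h1]
    calc b * (a ^ (2 * u) * ζ) * b⁻¹ = b * a ^ (2 * u) * (b⁻¹ * (b * ζ * b⁻¹)) := by group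
      _ = _ := by rw [hζb, ← mul_assoc]
  have hgen : closure ({a, b, z} : Set G) = ⊤ := by
    rw [eq_top_iff]; intro x _
    have h1 : ∀ y ∈ zpowers z, y ∈ closure ({a, b, z} : Set G) := fun y hy =>
      zpowers_le.mpr (subset_closure (by simp)) hy
    obtain ⟨i, hi | hi⟩ := exists_pow_or (by omega) hQ
      (by rw [ha, show n - 1 - 1 = n - 2 by omega]) hb (QuotientGroup.mk x : G ⧸ zpowers z)
    · rw [← QuotientGroup.mk_pow, eq_comm, QuotientGroup.eq] at hi
      rw [← mul_inv_cancel_left (a ^ i) x]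
      exact mul_mem (pow_mem (subset_closure (by simp)) i) (h1 _ hi)
    · rw [← QuotientGroup.mk_pow, ← QuotientGroup.mk_mul, eq_comm, QuotientGroup.eq] at hi
      rw [← mul_inv_cancel_left (b * a ^ i) x]
      exact mul_mem (mul_mem (subset_closure (by simp)) (pow_mem (subset_closure (by simp)) i))
        (h1 _ hi)
  have hCn : (zpowers c).Normal := by
    rw [← normalizer_eq_top_iff, eq_top_iff, ← hgen, closure_le]
    have hfix : ∀ x : G, x * c * x⁻¹ ∈ zpowers c → x ∈ normalizer (zpowers c : Set G) :=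
      fun x hx => by
        refine mem_normalizer_fintype fun y hy => ?_
        obtain ⟨i, rfl⟩ := mem_zpowers_iff.mp hy
        rw [← conj_zpow]
        exact zpow_mem hx i
    rintro x (rfl | rfl | rfl) <;> refine hfix _ ?_
    · convert mem_zpowers c using 1
      rw [mul_inv_eq_iff_eq_mul, hcd]
      exact (((Commute.refl x).zpow_right _).mul_right (hzc' ζ hζ x)).eq
    · rw [hcb]; exact zpow_mem (mem_zpowers c) k
    · rw [← hzc' x (mem_zpowers x) c, mul_inv_cancel_right]; exact mem_zpowers c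
  have hzC : z ∈ zpowers c := by
    have hab : b * a * b⁻¹ * a⁻¹ ∈ zpowers c := by
      convert mem_zpowers c using 1
      rw [hba, hcd, hkd, zpow_add_one, mul_assoc, mul_assoc, ← mul_assoc a, hzc' ζ hζ a,
        mul_inv_cancel_right]
    have hcomm : ∀ x y : G ⧸ zpowers c, x * y = y * x := by
      have hmap : closure ((QuotientGroup.mk' (zpowers c)) '' {a, b, z}) = ⊤ := by
        rw [← MonoidHom.map_closure, hgen,
          map_top_of_surjective _ (QuotientGroup.mk'_surjective _)]
      have hcl := isMulCommutative_closure (k := (QuotientGroup.mk' (zpowers c)) '' {a, b, z}) (by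
        have hza : ∀ x : G, (x : G ⧸ zpowers c) * z = z * x := fun x => by
          rw [← QuotientGroup.mk_mul, ← QuotientGroup.mk_mul, hzc' z (mem_zpowers z) x]
        have hab' : (b : G ⧸ zpowers c) * a = a * b := by
          rw [← mul_inv_eq_one, mul_inv_rev, ← mul_assoc]
          simpa only [← QuotientGroup.mk_mul, ← QuotientGroup.mk_inv, QuotientGroup.eq_one_iff]
            using hab
        rintro _ ⟨x, hx, rfl⟩ _ ⟨y, hy, rfl⟩
        simp only [QuotientGroup.mk'_apply]
        simp only [Set.mem_insert_iff, Set.mem_singleton_iff] at hx hy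
        rcases hx with rfl | rfl | rfl <;> rcases hy with rfl | rfl | rfl
        all_goals first
          | rfl | exact hab' | exact hab'.symm | exact hza _ | exact (hza _).symm)
      intro x y
      rw [hmap] at hcl
      exact congrArg Subtype.val (hcl.is_comm.comm
        (⟨x, mem_top x⟩ : (⊤ : Subgroup (G ⧸ zpowers c))) ⟨y, mem_top y⟩)
    have hle : commutator G ≤ zpowers c := by
      rw [_root_.commutator_def, commutator_le]
      intro x _ y _
      rw [← QuotientGroup.eq_one_iff]
      show QuotientGroup.mk' (zpowers c) ⁅x, y⁆ = 1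
      rw [map_commutatorElement, commutatorElement_eq_one_iff_mul_comm]
      exact hcomm _ _
    exact hle hzc
  have hN : ∀ i : ℤ, a ^ i ∈ zpowers z → (2 : ℤ) ^ (n - 2) ∣ i := by
    intro i hi
    rw [← QuotientGroup.eq_one_iff, QuotientGroup.mk_zpow, ← orderOf_dvd_iff_zpow_eq_one,
      ha] at hi
    exact_mod_cast hi
  have hza : z ∈ zpowers a := by
    obtain ⟨i, hi⟩ := mem_zpowers_iff.mp hzC
    rw [hcd, (show Commute (a ^ (2 * u)) ζ from hzc' ζ hζ _).mul_zpow, ← zpow_mul] at hi
    have h1 : a ^ (2 * u * i) ∈ zpowers z := by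
      rw [eq_mul_inv_of_mul_eq hi]
      exact mul_mem (mem_zpowers z) (inv_mem (zpow_mem hζ i))
    have h2 := hN _ h1
    have h3 : (2 : ℤ) ∣ i := by
      rw [show n - 2 = 1 + (n - 3) by omega, pow_add, pow_one, mul_assoc] at h2
      have h4 := (Int.prime_two.dvd_mul).mp
        ((dvd_pow_self (2 : ℤ) (by omega : n - 3 ≠ 0)).trans
          (Int.dvd_of_mul_dvd_mul_left (by norm_num) h2))
      exact h4.resolve_left (fun h => Int.two_dvd_ne_zero.mpr (Int.odd_iff.mp hu) h)
    obtain ⟨j, rfl⟩ := h3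
    rw [zpow_mul ζ, zpow_ofNat, hζ2, one_zpow, mul_one] at hi
    exact hi ▸ zpow_mem (mem_zpowers a) _
  have hao : orderOf a = 2 ^ (n - 1) := by
    have h1 : a ^ 2 ^ (n - 2) ∈ zpowers z := by
      rw [← QuotientGroup.eq_one_iff, QuotientGroup.mk_pow, ← ha, pow_orderOf_eq_one]
    have hne : a ^ 2 ^ (n - 2) ≠ 1 := by
      intro h
      obtain ⟨i, hi⟩ := mem_zpowers_iff.mp hza
      obtain ⟨j, rfl⟩ := hN i (hi ▸ mem_zpowers z)
      rw [zpow_mul, show (2 : ℤ) ^ (n - 2) = ((2 ^ (n - 2) : ℕ) : ℤ) by norm_num, zpow_natCast,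
        h, one_zpow] at hi
      exact hz1 hi.symm
    have h2 : (a ^ 2 ^ (n - 2)) ^ 2 = 1 := by
      rcases hzmem _ h1 with h | h
      · exact absurd h hne
      · rw [h, hzz]
    rw [← pow_mul, ← pow_succ] at h2
    rw [show n - 1 = n - 2 + 1 by omega]
    exact orderOf_eq_prime_pow hne h2
  have hw : z = a ^ 2 ^ (n - 2) := by
    have h1 : a ^ 2 ^ (n - 2) ∈ zpowers z := by
      rw [← QuotientGroup.eq_one_iff, QuotientGroup.mk_pow, ← ha, pow_orderOf_eq_one]
    rcases hzmem _ h1 with h | h
    · have h3 := Nat.le_of_dvd (by positivity) (orderOf_dvd_iff_pow_eq_one.mpr h)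
      rw [hao] at h3
      exact absurd h3 (not_le.mpr (Nat.pow_lt_pow_right one_lt_two (by omega)))
    · exact h.symm
  have hb' : b ∉ zpowers a := by
    intro h
    obtain ⟨i, rfl⟩ := mem_zpowers_iff.mp h
    exact hb (mem_zpowers_iff.mpr ⟨i, (QuotientGroup.mk_zpow _ a i).symm⟩)
  have hb2a : Commute (b ^ 2) a := by
    obtain ⟨i, hi⟩ := mem_powers_iff_mem_zpowers.mpr (sq_mem (by omega) hG hao b)
    rw [show b ^ 2 = a ^ i from hi.symm]
    exact (Commute.refl a).pow_left i
  have hef : e = false := by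
    by_contra hne
    have het : e = true := by simpa using hne
    have h5 := he5 het
    rw [het, if_pos rfl] at hk
    set v := a ^ 2 ^ (n - 3) with hv
    have hv4 : v ^ 2 = z := by rw [hv, ← pow_mul, ← pow_succ, hw]; congr 2; omega
    have hba' : b * a * b⁻¹ = v * ζ * a⁻¹ := by
      rw [hba, hk, sub_eq_add_neg, show (2 : ℤ) ^ (n - 3) = ((2 ^ (n - 3) : ℕ) : ℤ) by norm_num,
        zpow_add, zpow_natCast, zpow_neg_one, ← hv, mul_assoc, mul_assoc, hzc' ζ hζ]
    have hvpow : v ^ 2 ^ (n - 3) = 1 := by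
      rw [show n - 3 = 1 + (n - 4) by omega, pow_add, pow_one, pow_mul, hv4,
        show n - 4 = 1 + (n - 5) by omega, pow_add, pow_one, pow_mul, hzz, one_pow]
    have hζp : ζ ^ 2 ^ (n - 3) = 1 := by
      rw [show n - 3 = 1 + (n - 4) by omega, pow_add, pow_one, pow_mul, hζ2, one_pow]
    have hbv : b * v * b⁻¹ = v⁻¹ := by
      rw [hv, ← conj_pow, hba',
        ((((Commute.refl a).pow_left _).mul_left (hzc' ζ hζ a).symm).inv_right).mul_pow,
        (show Commute v ζ from hzc' ζ hζ v).mul_pow, hvpow, hζp, one_mul, one_mul, inv_pow]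
    have hb2' : b ^ 2 * a * (b ^ 2)⁻¹ = a := by rw [hb2a.eq, mul_inv_cancel_right]
    have hfin : b ^ 2 * a * (b ^ 2)⁻¹ = (v ^ 2)⁻¹ * a := by
      calc b ^ 2 * a * (b ^ 2)⁻¹ = b * (b * a * b⁻¹) * b⁻¹ := by rw [pow_two]; group
        _ = (b * v * b⁻¹) * (b * ζ * b⁻¹) * (b * a * b⁻¹)⁻¹ := by
          conv_lhs => rw [hba']
          group
        _ = v⁻¹ * ζ * (a * ζ⁻¹ * v⁻¹) := by rw [hbv, hζb, hba']; group
        _ = v⁻¹ * v⁻¹ * a := by
          have c1 : Commute ζ a := (hzc' ζ hζ a).symm
          have c2 : Commute a v⁻¹ := ((Commute.refl a).pow_right _).inv_right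
          have c3 : Commute ζ v⁻¹ := (hzc' ζ hζ _).symm
          calc v⁻¹ * ζ * (a * ζ⁻¹ * v⁻¹) = v⁻¹ * (ζ * a) * ζ⁻¹ * v⁻¹ := by group
            _ = v⁻¹ * a * v⁻¹ := by rw [c1.eq]; group
            _ = v⁻¹ * v⁻¹ * a := by rw [mul_assoc, c2.eq, mul_assoc]
        _ = _ := by rw [pow_two, mul_inv_rev]
    rw [hb2', hv4] at hfin
    exact hz1 (inv_eq_one.mp (mul_right_cancel ((one_mul a).trans hfin)).symm)
  rw [hef, if_neg (by simp), zero_sub] at hk
  rw [hk, zpow_neg_one, hzc' ζ hζ] at hba
  have hconj' : b * a * b⁻¹ = a⁻¹ ∨ 4 ≤ n ∧ b * a * b⁻¹ = a ^ 2 ^ (n - 2) * a⁻¹ := by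
    rcases hzmem ζ hζ with rfl | rfl
    · exact Or.inl (by rw [hba, one_mul])
    · exact Or.inr ⟨hn, by rw [hba, ← hw]⟩
  refine ⟨a, b, hao, hb', hconj', ?_⟩
  obtain ⟨i, hi⟩ := mem_powers_iff_mem_zpowers.mpr (sq_mem (by omega) hG hao b)
  have hfix : b * a ^ i * b⁻¹ = a ^ i := by
    rw [show a ^ i = b ^ 2 from hi, ← pow_succ', pow_succ, mul_inv_cancel_right]
  rcases pow_fixed (by omega) hao hconj' hfix with h | h
  · exact Or.inl (hi.symm.trans h)
  · exact Or.inr (hi.symm.trans h)

theorem shape_of_klein : ∀ (n : ℕ) (G : Type u) [Group G] [Finite G], 3 ≤ n →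
    Nat.card G = 2 ^ n → IsKleinFour (G ⧸ commutator G) → MCShape G n := by
  intro n
  induction n using Nat.strong_induction_on with
  | _ n ih =>
    intro G _ _ hn hG hK
    have : Fact (Nat.Prime 2) := ⟨Nat.prime_two⟩
    have hcc : Nat.card (commutator G) = 2 ^ (n - 2) := by
      have h1 := card_eq_card_quotient_mul_card_subgroup (commutator G)
      rw [hK.card_four, hG, show 2 ^ n = 4 * 2 ^ (n - 2) by
        rw [show (4 : ℕ) = 2 ^ 2 by norm_num, ← pow_add]; congr 1; omega] at h1
      omega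
    rcases eq_or_lt_of_le hn with rfl | hn4
    · refine shape_base hG ?_
      by_contra h
      push Not at h
      have hbot : commutator G = ⊥ := by
        rw [_root_.commutator_def, eq_bot_iff, commutator_le]
        exact fun x _ y _ => mem_bot.mpr (commutatorElement_eq_one_iff_mul_comm.mpr (h x y))
      rw [hbot, card_bot] at hcc
      norm_num at hcc
    · have hGp : IsPGroup 2 G := IsPGroup.of_card hG
      have : Group.IsNilpotent G := hGp.isNilpotent
      obtain ⟨z, hz, hz2⟩ : ∃ z, z ∈ commutator G ⊓ center G ∧ orderOf z = 2 := by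
        have hne : commutator G ⊓ center G ≠ ⊥ := by
          obtain ⟨z, hz, hzc, hzo⟩ := CfsgLib.Transfer.exists_mem_center_orderOf_eq hGp
            (Z := commutator G) (fun h => by
              rw [h, card_bot] at hcc
              have : 1 < 2 ^ (n - 2) := Nat.one_lt_two_pow (by omega)
              omega)
          intro h
          have : z ∈ commutator G ⊓ center G := ⟨hz, hzc⟩
          rw [h, mem_bot] at this
          rw [this, orderOf_one] at hzo
          omega
        obtain ⟨z, hz⟩ := exists_prime_orderOf_dvd_card' (G := (commutator G ⊓ center G :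
          Subgroup G)) 2 (by
            obtain ⟨k, hk⟩ := IsPGroup.iff_card.mp (hGp.to_subgroup (commutator G ⊓ center G))
            rcases Nat.eq_zero_or_pos k with rfl | hk0
            · exact absurd (card_eq_one.mp (by simpa using hk)) hne
            · rw [hk]; exact dvd_pow_self 2 (by omega))
        exact ⟨z, z.2, by rw [orderOf_coe, hz]⟩
      have hnorm : (zpowers z).Normal := ⟨fun x hx g => by
        rw [mem_center_iff.mp (zpowers_le.mpr hz.2 hx) g, mul_inv_cancel_right]; exact hx⟩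
      have hQ : Nat.card (G ⧸ zpowers z) = 2 ^ (n - 1) := by
        have h1 := card_eq_card_quotient_mul_card_subgroup (zpowers z)
        rw [hG, Nat.card_zpowers, hz2, show 2 ^ n = 2 ^ (n - 1) * 2 by
          rw [← pow_succ]; congr 1; omega] at h1
        omega
      exact shape_lift (by omega) hG hz.2 hz2 hz.1 (ih (n - 1) (by omega) _ (by omega) hQ
        ((klein_quotient_iff (zpowers z) (zpowers_le.mpr hz.1)).mpr hK))

theorem klein_of_class : ∀ (n : ℕ) (G : Type u) [Group G] [Finite G], 3 ≤ n →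
    Nat.card G = 2 ^ n → Group.nilpotencyClass G = n - 1 → IsKleinFour (G ⧸ commutator G) := by
  intro n
  induction n using Nat.strong_induction_on with
  | _ n ih =>
    intro G _ _ hn hG hc
    have : Fact (Nat.Prime 2) := ⟨Nat.prime_two⟩
    obtain ⟨hZ, hq, hQ⟩ := card_center_of_class hn hG hc
    have hGp : IsPGroup 2 G := IsPGroup.of_card hG
    have : Nontrivial G := Finite.one_lt_card_iff_nontrivial.mp
      (hG ▸ Nat.one_lt_two_pow (by omega))
    have hnc : ¬ ∀ x y : G, x * y = y * x := fun h => by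
      rw [class_eq_one_of_comm h] at hc; omega
    have hZle : center G ≤ commutator G := by
      have hne : commutator G ≠ ⊥ := fun h => hnc fun x y =>
        commutatorElement_eq_one_iff_mul_comm.mp (mem_bot.mp (h ▸ commutator_mem_commutator
          (mem_top x) (mem_top y)))
      obtain ⟨z, hz, hzc, hzo⟩ := CfsgLib.Transfer.exists_mem_center_orderOf_eq hGp
        (Z := commutator G) hne
      rw [← eq_of_le_of_card_ge (zpowers_le.mpr hzc : zpowers z ≤ center G)
        (by rw [Nat.card_zpowers, hzo, hZ])]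
      exact zpowers_le.mpr hz
    rcases eq_or_lt_of_le hn with rfl | hn4
    · have hle : commutator G ≤ center G := by
        rw [_root_.commutator_def, commutator_le]
        intro x _ y _
        rw [← QuotientGroup.eq_one_iff]
        show QuotientGroup.mk' (center G) ⁅x, y⁆ = 1
        rw [map_commutatorElement, commutatorElement_eq_one_iff_mul_comm]
        exact IsPGroup.commutative_of_card_eq_prime_sq (p := 2) hQ _ _
      refine klein_congr (QuotientGroup.quotientMulEquivOfEq (le_antisymm hZle hle))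
        (klein_of_card_four (by rw [hQ]; norm_num) ?_)
      intro h
      exact hnc (comm_of_cyclic_quotient_center)
    · exact (klein_quotient_iff (center G) hZle).mp
        (ih (n - 1) (by omega) _ (by omega) hQ (by rw [hq]; omega))

theorem shape_of_class {G : Type u} [Group G] [Finite G] {n : ℕ} (hn : 3 ≤ n)
    (hG : Nat.card G = 2 ^ n) (hc : Group.nilpotencyClass G = n - 1) : MCShape G n :=
  shape_of_klein n G hn hG (klein_of_class n G hn hG hc)

theorem exists_cyclic_index_two_of_class {G : Type u} [Group G] [Finite G] {n : ℕ} (hn : 3 ≤ n)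
    (hG : Nat.card G = 2 ^ n) (hc : Group.nilpotencyClass G = n - 1) :
    ∃ C : Subgroup G, IsCyclic C ∧ C.index = 2 := by
  obtain ⟨a, b, ha, -⟩ := shape_of_class hn hG hc
  exact ⟨zpowers a, inferInstance, index_zpowers_two (by omega) hG ha⟩

theorem quotient_center_dihedral_of_class {G : Type u} [Group G] [Finite G] {n : ℕ} (hn : 3 ≤ n)
    (hG : Nat.card G = 2 ^ n) (hc : Group.nilpotencyClass G = n - 1) :
    Nonempty (G ⧸ center G ≃* DihedralGroup (2 ^ (n - 2))) := by
  obtain ⟨a, b, ha, hb, hconj, hb2⟩ := shape_of_class hn hG hc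
  obtain ⟨hcq, hao, hbo, hcj, hbs⟩ := card_quotient_center_of_shape hn hG ha hb hconj hb2
  exact CfsgLib.TwoGroups.nonempty_mulEquiv_dihedralGroup hao (by rw [← pow_two, hbs]) hbo hcj
    (by rw [hcq, ← pow_succ']; congr 1; omega)

end CfsgLib.Transfer
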