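import Cfsg.Agent.Lib.Transfer.CoprimeAut
import Cfsg.Agent.Lib.Transfer.Fusion

/-!
# Elements of order `p` (of order dividing `4` for `p = 2`) and coprime automorphisms
-/

set_option autoImplicit false
set_option linter.all false

namespace CfsgLib.Transfer

open Cfsg Subgroup
open scoped commutatorElement

/-- order dividing `p`, or `4` when `p = 2` -/
def IsSmall {G : Type*} [Group G] (p : ℕ) (a : G) : Prop := a ^ p = 1 ∨ (p = 2 ∧ a ^ 4 = 1)

theorem IsSmall.map {G H : Type*} [Group G] [Group H] {p : ℕ} {a : G} (h : IsSmall p a)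
    (f : G →* H) : IsSmall p (f a) := by
  rcases h with h | ⟨h2, h⟩
  · exact Or.inl (by rw [← map_pow, h, map_one])
  · exact Or.inr ⟨h2, by rw [← map_pow, h, map_one]⟩

theorem isSmall_map_iff {G H : Type*} [Group G] [Group H] {p : ℕ} {a : G} (f : G →* H)
    (hf : Function.Injective f) : IsSmall p (f a) ↔ IsSmall p a := by
  refine ⟨fun h => ?_, fun h => h.map f⟩
  rcases h with h | ⟨h2, h⟩
  · exact Or.inl (hf (by rw [map_pow, h, map_one]))
  · exact Or.inr ⟨h2, hf (by rw [map_pow, h, map_one])⟩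

variable {G : Type*} [Group G] {p : ℕ}

theorem comm_pow_p_of_frattini_central [Finite G] [Fact p.Prime] (hG : IsPGroup p G)
    (h : frattini G ≤ center G) (x y : G) :
    ⁅x, y⁆ ∈ center G ∧ ⁅x, y⁆ ^ p = 1 := by
  have hc : ⁅x, y⁆ ∈ center G := h (CfsgLib.PGroups.commutator_le_frattini' hG
    (commutator_mem_commutator (mem_top x) (mem_top y)))
  refine ⟨hc, ?_⟩
  rw [← CfsgLib.PGroups.comm_pow_left_of_central hc, commutatorElement_eq_one_iff_mul_comm]
  exact (Subgroup.mem_center_iff.1 (h (CfsgLib.PGroups.pow_mem_frattini hG x)) y).symm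

/-- in class two with central `p`-th powers the small elements form a subgroup -/
theorem IsSmall.mul [Finite G] [hp : Fact p.Prime] (hG : IsPGroup p G)
    (h : ∀ x y : G, ⁅x, y⁆ ∈ center G ∧ ⁅x, y⁆ ^ p = 1) {u v : G} (hu : IsSmall p u)
    (hv : IsSmall p v) : IsSmall p (u * v) := by
  by_cases hp2 : p = 2
  · subst hp2
    have h4 : ∀ w : G, IsSmall 2 w → w ^ 4 = 1 := fun w hw => by
      rcases hw with hw | ⟨-, hw⟩
      · rw [show 4 = 2 * 2 from rfl, pow_mul, hw, one_pow]
      · exact hw
    refine Or.inr ⟨rfl, ?_⟩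
    rw [CfsgLib.PGroups.mul_pow_of_central (h v u).1, h4 u hu, h4 v hv, one_mul, one_mul,
      show Nat.choose 4 2 = 2 * 3 from rfl, pow_mul, (h v u).2, one_pow]
  · have hu' : u ^ p = 1 := hu.resolve_right fun h => hp2 h.1
    have hv' : v ^ p = 1 := hv.resolve_right fun h => hp2 h.1
    refine Or.inl ?_
    rw [CfsgLib.PGroups.mul_pow_of_central_odd (h v u).1 (hp.out.odd_of_ne_two hp2) (h v u).2,
      hu', hv', one_mul]

theorem isSmall_one : IsSmall p (1 : G) := Or.inl (one_pow p)

theorem IsSmall.inv {u : G} (hu : IsSmall p u) : IsSmall p u⁻¹ := by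
  rcases hu with hu | ⟨h2, hu⟩
  · exact Or.inl (by rw [inv_pow, hu, inv_one])
  · exact Or.inr ⟨h2, by rw [inv_pow, hu, inv_one]⟩

/-- A coprime automorphism which fixes every invariant subgroup of small exponent is trivial. -/
theorem eq_one_of_fixes_small_exponent.{u} {p : ℕ} [Fact p.Prime] :
    ∀ (n : ℕ) (G : Type u) [Group G] [Finite G], Nat.card G ≤ n → IsPGroup p G →
      ∀ (a : MulAut G) (m : ℕ), Nat.Coprime m p → a ^ m = 1 →
        (∀ K : Subgroup G, K.map a.toMonoidHom = K → (∀ x ∈ K, IsSmall p x) →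
          ∀ x ∈ K, a x = x) → a = 1 := by
  intro n
  induction n with
  | zero => exact fun G _ _ hc => absurd hc (Nat.card_pos (α := G)).not_ge
  | succ n ih =>
    intro G _ _ hc hG a m hm ha hfix
    have hsub : ∀ K : Subgroup G, K ≠ ⊤ → K.map a.toMonoidHom = K → ∀ x ∈ K, a x = x := by
      intro K hK hKa x hx
      let b : MulAut K := ((a : G ≃* G).subgroupMap K).trans (MulEquiv.subgroupCongr hKa)
      have hb : ∀ y : K, ((b y : K) : G) = a y := fun y => rfl
      have hbk : ∀ (k : ℕ) (y : K), (((b ^ k) y : K) : G) = (a ^ k) y := by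
        intro k
        induction k with
        | zero => intro y; simp
        | succ k ihk => intro y; rw [pow_succ', pow_succ', MulAut.mul_apply, MulAut.mul_apply, hb, ihk]
      have hbm : b ^ m = 1 := MulEquiv.ext fun y => Subtype.ext (by rw [hbk, ha]; rfl)
      have hlt : Nat.card K < Nat.card G :=
        lt_of_le_of_ne (Subgroup.card_le_card_group K) fun h => hK (eq_top_of_card_eq K h)
      have h1 := ih K (by omega) (hG.to_subgroup K) b m hm hbm fun L hL hLs y hy => by
        refine Subtype.ext ?_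
        rw [hb]
        refine hfix (L.map K.subtype) ?_ ?_ y ⟨y, hy, rfl⟩
        · conv_rhs => rw [← hL]
          rw [Subgroup.map_map, Subgroup.map_map]
          congr 1
        · rintro _ ⟨z, hz, rfl⟩
          exact (hLs z hz).map _
      have h2 := congrArg Subtype.val (DFunLike.congr_fun h1 (⟨x, hx⟩ : K))
      rw [hb] at h2
      exact h2
    set K : Subgroup G := Subgroup.closure (Set.range fun x => x⁻¹ * a x) with hK
    have hKa : K.map a.toMonoidHom = K := by
      rw [hK, MonoidHom.map_closure]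
      congr 1
      ext y
      constructor
      · rintro ⟨_, ⟨x, rfl⟩, rfl⟩; exact ⟨a x, by simp⟩
      · rintro ⟨x, rfl⟩
        exact ⟨_, ⟨a.symm x, rfl⟩, by simp⟩
    by_cases hKtop : K = ⊤
    swap
    · exact MulEquiv.ext fun x =>
        eq_of_fixed_diff hG a hm ha (hsub K hKtop hKa _ (subset_closure ⟨x, rfl⟩))
    rcases subsingleton_or_nontrivial G with hs | hnt
    · exact MulEquiv.ext fun x => Subsingleton.elim _ _
    have hΦa : (frattini G).map a.toMonoidHom = frattini G :=
      characteristic_iff_map_eq.mp frattini_characteristic a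
    have hΦfix := hsub _ CfsgLib.PGroups.frattini_ne_top hΦa
    have hΦc : frattini G ≤ center G := by
      have h1 : K ≤ Subgroup.centralizer (frattini G : Set G) := (closure_le _).mpr (by
        rintro _ ⟨x, rfl⟩; exact mem_centralizer_of_fixed_normal a hΦfix x)
      rw [hKtop] at h1
      exact fun y hy => Subgroup.mem_center_iff.mpr fun g =>
        (mem_centralizer_iff.mp (h1 (mem_top g)) y hy).symm
    have hcomm := comm_pow_p_of_frattini_central hG hΦc
    let S : Subgroup G :=
      { carrier := {x | IsSmall p x}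
        one_mem' := isSmall_one
        mul_mem' := fun hu hv => IsSmall.mul hG hcomm hu hv
        inv_mem' := fun hu => IsSmall.inv hu }
    have hSa : S.map a.toMonoidHom = S := by
      ext y
      constructor
      · rintro ⟨x, hx, rfl⟩
        exact IsSmall.map hx _
      · intro hy
        exact ⟨a.symm y, IsSmall.map hy a.symm.toMonoidHom, by simp⟩
    have hSfix : ∀ x ∈ S, a x = x := hfix S hSa fun x hx => hx
    refine MulEquiv.ext fun x => eq_of_fixed_diff hG a hm ha (hSfix _ ?_)
    show IsSmall p (x⁻¹ * a x)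
    have hpow : ∀ k : ℕ, p ∣ k → a (x ^ k) = x ^ k := fun k ⟨j, hj⟩ => by
      rw [hj, pow_mul, map_pow, hΦfix _ (CfsgLib.PGroups.pow_mem_frattini hG x)]
    by_cases hp2 : p = 2
    · subst hp2
      refine Or.inr ⟨rfl, ?_⟩
      rw [CfsgLib.PGroups.mul_pow_of_central (hcomm _ _).1, inv_pow, ← map_pow,
        hpow 4 (by norm_num), inv_mul_cancel, one_mul, show Nat.choose 4 2 = 2 * 3 from rfl,
        pow_mul, (hcomm _ _).2, one_pow]
    · refine Or.inl ?_
      rw [CfsgLib.PGroups.mul_pow_of_central_odd (hcomm _ _).1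
        ((Fact.out : p.Prime).odd_of_ne_two hp2) (hcomm _ _).2, inv_pow, ← map_pow,
        hpow p dvd_rfl, inv_mul_cancel]

/-- A coprime automorphism fixing the small elements of an invariant subgroup fixes it. -/
theorem fixes_of_fixes_small {G : Type*} [Group G] [Finite G] {p : ℕ} [Fact p.Prime]
    (hG : IsPGroup p G) (a : MulAut G) {m : ℕ} (hm : Nat.Coprime m p) (ha : a ^ m = 1)
    {K : Subgroup G} (hKa : K.map a.toMonoidHom = K)
    (hfix : ∀ x ∈ K, IsSmall p x → a x = x) : ∀ x ∈ K, a x = x := by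
  intro x hx
  let b : MulAut K := ((a : G ≃* G).subgroupMap K).trans (MulEquiv.subgroupCongr hKa)
  have hb : ∀ y : K, ((b y : K) : G) = a y := fun y => rfl
  have hbk : ∀ (k : ℕ) (y : K), (((b ^ k) y : K) : G) = (a ^ k) y := by
    intro k
    induction k with
    | zero => intro y; simp
    | succ k ihk => intro y; rw [pow_succ', pow_succ', MulAut.mul_apply, MulAut.mul_apply, hb, ihk]
  have hbm : b ^ m = 1 := MulEquiv.ext fun y => Subtype.ext (by rw [hbk, ha]; rfl)
  have h1 := eq_one_of_fixes_small_exponent (Nat.card K) K le_rfl (hG.to_subgroup K) b m hm hbm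
    fun L _ hLs y hy => Subtype.ext (by rw [hb]; exact hfix _ y.2 ((hLs y hy).map K.subtype))
  have h2 := congrArg Subtype.val (DFunLike.congr_fun h1 (⟨x, hx⟩ : K))
  rw [hb] at h2
  exact h2

/-- A `p'`-element pushing small elements down a series centralizes. -/
theorem centralizes_of_small_descends [Finite G] [Fact p.Prime] {Q : Subgroup G}
    (hQ : IsPGroup p Q) {g : G} (hg : g ∈ normalizer (Q : Set G))
    (hgc : Nat.Coprime (orderOf g) p) (Z : ℕ → Set G) (n : ℕ) (h0 : Z 0 ⊆ {1})
    (hn : ∀ a ∈ Q, IsSmall p a → a ∈ Z n)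
    (hstep : ∀ i, ∀ a ∈ Q, IsSmall p a → a ∈ Z (i + 1) → g * a * g⁻¹ * a⁻¹ ∈ Z i) :
    g ∈ centralizer (Q : Set G) := by
  set f := normalizerMonoidHom Q ⟨g, hg⟩ with hf
  have hfa : ∀ x : Q, ((f x : Q) : G) = g * x * g⁻¹ := fun x => rfl
  have hpow : f ^ orderOf g = 1 := by
    rw [hf, ← map_pow, show (⟨g, hg⟩ : normalizer (Q : Set G)) ^ orderOf g = 1 from
      Subtype.ext (pow_orderOf_eq_one g), map_one]
  have hone : f = 1 := by
    refine eq_one_of_fixes_small_exponent (Nat.card Q) Q le_rfl hQ f _ hgc hpow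
      fun K hK hsmall => ?_
    have hfK : ∀ x ∈ K, f x ∈ K := fun x hx => hK.le ⟨x, hx, rfl⟩
    have hind : ∀ i, ∀ x ∈ K, ((x : Q) : G) ∈ Z i → f x = x := by
      intro i
      induction i with
      | zero =>
        intro x _ hx
        rw [show x = 1 from Subtype.ext (h0 hx), map_one]
      | succ i ih =>
        intro x hx hxi
        have hcK : f x * x⁻¹ ∈ K := mul_mem (hfK x hx) (inv_mem hx)
        have hcfix := ih _ hcK (by
          show ((f x : Q) : G) * ((x : Q) : G)⁻¹ ∈ Z i
          rw [hfa]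
          exact hstep i _ x.2 ((hsmall x hx).map Q.subtype) hxi)
        have h2 : f (x⁻¹ : Q) = x⁻¹ := by
          refine eq_of_fixed_diff hQ f hgc hpow ?_
          rw [inv_inv, map_inv, show x * (f x)⁻¹ = (f x * x⁻¹)⁻¹ by group, map_inv, hcfix]
        rwa [map_inv, inv_inj] at h2
    exact fun x hx => hind n x hx (hn _ x.2 ((hsmall x hx).map Q.subtype))
  rw [mem_centralizer_iff]
  intro x hx
  have h := hfa ⟨x, hx⟩
  rw [hone, MulAut.one_apply] at h
  exact mul_inv_eq_iff_eq_mul.1 h.symm |>.symm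

end CfsgLib.Transfer
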