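import Mathlib

set_option autoImplicit false
set_option linter.unusedSectionVars false

/-!
The transfer of a parity character of a subgroup, evaluated orbit by orbit (owner: helper18).
-/

namespace CfsgLib.Transfer.Coset

open scoped Classical

variable {G : Type*} [Group G] {H : Subgroup G} [Fintype (G ⧸ H)]

theorem zmod_two_eq {a b : ZMod 2} (h : a + b = 0) : a = b := by
  revert a b; decide

/-- A parity character of `H`, extended to all of `G` as a function. -/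
structure Parity (H : Subgroup G) where
  toFun : G → ZMod 2
  map_mul : ∀ a ∈ H, ∀ b ∈ H, toFun (a * b) = toFun a + toFun b

namespace Parity

variable (Ψ : Parity H)

theorem map_one : Ψ.toFun 1 = 0 := by
  have := Ψ.map_mul 1 H.one_mem 1 H.one_mem
  rw [mul_one] at this
  exact left_eq_add.1 this

theorem map_inv {a : G} (ha : a ∈ H) : Ψ.toFun a⁻¹ = Ψ.toFun a :=
  zmod_two_eq (by rw [← Ψ.map_mul _ (H.inv_mem ha) _ ha, inv_mul_cancel, Ψ.map_one])

theorem map_mul_three {a b c : G} (ha : a ∈ H) (hb : b ∈ H) (hc : c ∈ H) :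
    Ψ.toFun (a * b * c) = Ψ.toFun a + Ψ.toFun b + Ψ.toFun c := by
  rw [Ψ.map_mul _ (H.mul_mem ha hb) _ hc, Ψ.map_mul _ ha _ hb]

theorem map_conj {a h : G} (ha : a ∈ H) (hh : h ∈ H) : Ψ.toFun (h⁻¹ * a * h) = Ψ.toFun a := by
  rw [Ψ.map_mul_three (H.inv_mem hh) ha hh, Ψ.map_inv hh, add_comm (Ψ.toFun h) (Ψ.toFun a),
    add_assoc, CharTwo.add_self_eq_zero, add_zero]

theorem map_comm {a b : G} (ha : a ∈ H) (hb : b ∈ H) : Ψ.toFun (a * b * a⁻¹ * b⁻¹) = 0 := by
  rw [Ψ.map_mul _ (H.mul_mem (H.mul_mem ha hb) (H.inv_mem ha)) _ (H.inv_mem hb),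
    Ψ.map_mul_three ha hb (H.inv_mem ha), Ψ.map_inv ha, Ψ.map_inv hb,
    add_comm (Ψ.toFun a) (Ψ.toFun b), add_assoc (Ψ.toFun b), CharTwo.add_self_eq_zero, add_zero,
    CharTwo.add_self_eq_zero]

theorem map_pow {a : G} (ha : a ∈ H) (k : ℕ) : Ψ.toFun (a ^ k) = k * Ψ.toFun a := by
  induction k with
  | zero => rw [pow_zero, Ψ.map_one, Nat.cast_zero, zero_mul]
  | succ k ih => rw [pow_succ, Ψ.map_mul _ (H.pow_mem ha k) _ ha, ih, Nat.cast_succ, add_mul, one_mul]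

/-- The value at a point fixed by `x`. -/
noncomputable def val (p : G ⧸ H) (x : G) : ZMod 2 := Ψ.toFun (p.out⁻¹ * x * p.out)

/-- The partial transfer over a set of cosets. -/
noncomputable def T (Ω : Finset (G ⧸ H)) (x : G) : ZMod 2 :=
  ∑ p ∈ Ω, Ψ.toFun ((x • p).out⁻¹ * x * p.out)

end Parity

theorem mem_of_mk_eq {a b : G} (h : (a : G ⧸ H) = b) : a⁻¹ * b ∈ H := QuotientGroup.eq.1 h

theorem smul_mk' (x a : G) : x • (a : G ⧸ H) = ((x * a : G) : G ⧸ H) := rfl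

theorem smul_eq_mk_mul_out (x : G) (p : G ⧸ H) : x • p = ((x * p.out : G) : G ⧸ H) := by
  conv_lhs => rw [← QuotientGroup.out_eq' p]
  rfl

theorem term_mem (x : G) (p : G ⧸ H) : (x • p).out⁻¹ * x * p.out ∈ H := by
  rw [mul_assoc]
  refine mem_of_mk_eq ?_
  rw [QuotientGroup.out_eq', smul_eq_mk_mul_out]

theorem smul_fix_iff (x : G) (c : G) : x • (c : G ⧸ H) = c ↔ c⁻¹ * x * c ∈ H := by
  rw [smul_mk', eq_comm, QuotientGroup.eq, mul_assoc]

theorem fix_mem {x : G} {p : G ⧸ H} (h : x • p = p) : p.out⁻¹ * x * p.out ∈ H := by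
  have := term_mem x p
  rwa [h] at this

theorem sum_smul {x : G} {Ω : Finset (G ⧸ H)} (hx : ∀ p ∈ Ω, x • p ∈ Ω) (f : G ⧸ H → ZMod 2) :
    ∑ p ∈ Ω, f (x • p) = ∑ p ∈ Ω, f p := by
  have himg : Ω.image (x • ·) = Ω := by
    refine Finset.eq_of_subset_of_card_le (Finset.image_subset_iff.2 hx) ?_
    rw [Finset.card_image_of_injective _ (MulAction.injective x)]
  conv_rhs => rw [← himg]
  rw [Finset.sum_image fun _ _ _ _ h => MulAction.injective x h]

namespace Parity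

variable (Ψ : Parity H)

/-- The partial transfer does not depend on the chosen representatives. -/
theorem T_eq_of_section {x : G} {Ω : Finset (G ⧸ H)} (hx : ∀ p ∈ Ω, x • p ∈ Ω) (τ : G ⧸ H → G)
    (hτ : ∀ p ∈ Ω, (τ p : G ⧸ H) = p) :
    Ψ.T Ω x = ∑ p ∈ Ω, Ψ.toFun ((τ (x • p))⁻¹ * x * τ p) := by
  have hmem : ∀ p ∈ Ω, p.out⁻¹ * τ p ∈ H := fun p hp =>
    mem_of_mk_eq (by rw [QuotientGroup.out_eq', hτ p hp])
  have key : ∀ p ∈ Ω, Ψ.toFun ((τ (x • p))⁻¹ * x * τ p) =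
      Ψ.toFun ((x • p).out⁻¹ * τ (x • p)) + Ψ.toFun ((x • p).out⁻¹ * x * p.out) +
        Ψ.toFun (p.out⁻¹ * τ p) := by
    intro p hp
    rw [← Ψ.map_inv (hmem _ (hx p hp)),
      ← Ψ.map_mul_three (H.inv_mem (hmem _ (hx p hp))) (term_mem x p) (hmem p hp)]
    congr 1
    group
  rw [Finset.sum_congr rfl key, Finset.sum_add_distrib, Finset.sum_add_distrib,
    sum_smul hx fun p => Ψ.toFun (p.out⁻¹ * τ p)]
  show Ψ.T Ω x = _ + Ψ.T Ω x + _
  rw [add_comm _ (Ψ.T Ω x), add_assoc, CharTwo.add_self_eq_zero, add_zero]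

theorem T_one (Ω : Finset (G ⧸ H)) : Ψ.T Ω 1 = 0 := by
  refine Finset.sum_eq_zero fun p _ => ?_
  rw [one_smul, mul_one, inv_mul_cancel, Ψ.map_one]

theorem T_mul {a b : G} {Ω : Finset (G ⧸ H)} (hb : ∀ p ∈ Ω, b • p ∈ Ω) :
    Ψ.T Ω (a * b) = Ψ.T Ω a + Ψ.T Ω b := by
  unfold Parity.T
  rw [← sum_smul hb fun p => Ψ.toFun ((a • p).out⁻¹ * a * p.out), ← Finset.sum_add_distrib]
  refine Finset.sum_congr rfl fun p _ => ?_
  rw [← Ψ.map_mul _ (term_mem a (b • p)) _ (term_mem b p), mul_smul]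
  congr 1
  group

theorem T_union {x : G} {A B : Finset (G ⧸ H)} (h : Disjoint A B) :
    Ψ.T (A ∪ B) x = Ψ.T A x + Ψ.T B x :=
  Finset.sum_union h

theorem T_sdiff {x : G} {A B : Finset (G ⧸ H)} (h : A ⊆ B) :
    Ψ.T B x = Ψ.T A x + Ψ.T (B \ A) x := by
  rw [← T_union Ψ Finset.disjoint_sdiff, Finset.union_sdiff_of_subset h]

/-- Translating the set of cosets conjugates the element. -/
theorem T_image {x e : G} {Q : Finset (G ⧸ H)} (hx' : ∀ p ∈ Q, (e⁻¹ * x * e) • p ∈ Q) :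
    Ψ.T (Q.image (e • ·)) x = Ψ.T Q (e⁻¹ * x * e) := by
  have hx : ∀ p ∈ Q.image (e • ·), x • p ∈ Q.image (e • ·) := by
    intro p hp
    obtain ⟨q, hq, rfl⟩ := Finset.mem_image.1 hp
    refine Finset.mem_image.2 ⟨_, hx' q hq, ?_⟩
    rw [← mul_smul, ← mul_smul]
    congr 1
    group
  rw [Ψ.T_eq_of_section hx (fun p => e * (e⁻¹ • p).out) (fun p _ => by
    rw [← smul_mk', QuotientGroup.out_eq', smul_inv_smul]),
    Finset.sum_image fun _ _ _ _ h => MulAction.injective e h]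
  refine Finset.sum_congr rfl fun q _ => ?_
  rw [inv_smul_smul, ← mul_smul, ← mul_smul]
  congr 1
  group

/-- An element interchanging two blocks transfers as its square on one of them. -/
theorem T_swap {e : G} {Q : Finset (G ⧸ H)} (hd : Disjoint Q (Q.image (e • ·)))
    (h2 : ∀ p ∈ Q, (e * e) • p ∈ Q) :
    Ψ.T (Q ∪ Q.image (e • ·)) e = Ψ.T Q (e * e) := by
  set τ : G ⧸ H → G := fun p => if p ∈ Q then p.out else e * (e⁻¹ • p).out with hτdef
  have hx : ∀ p ∈ Q ∪ Q.image (e • ·), e • p ∈ Q ∪ Q.image (e • ·) := by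
    intro p hp
    rcases Finset.mem_union.1 hp with hp | hp
    · exact Finset.mem_union_right _ (Finset.mem_image_of_mem _ hp)
    · obtain ⟨q, hq, rfl⟩ := Finset.mem_image.1 hp
      rw [← mul_smul]
      exact Finset.mem_union_left _ (h2 q hq)
  have hτ : ∀ p ∈ Q ∪ Q.image (e • ·), (τ p : G ⧸ H) = p := by
    intro p _
    simp only [hτdef]
    split
    · exact QuotientGroup.out_eq' p
    · rw [← smul_mk', QuotientGroup.out_eq', smul_inv_smul]
  have hn : ∀ q ∈ Q, τ (e • q) = e * q.out := by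
    intro q hq
    have : e • q ∉ Q := fun h => Finset.disjoint_left.1 hd h (Finset.mem_image_of_mem _ hq)
    simp only [hτdef, if_neg this, inv_smul_smul]
  have hy : ∀ q ∈ Q, τ q = q.out := fun q hq => if_pos hq
  rw [Ψ.T_eq_of_section hx τ hτ, Finset.sum_union hd,
    Finset.sum_image fun _ _ _ _ h => MulAction.injective e h]
  have h0 : ∀ q ∈ Q, Ψ.toFun ((τ (e • q))⁻¹ * e * τ q) = 0 := by
    intro q hq
    rw [hn q hq, hy q hq, show (e * q.out)⁻¹ * e * q.out = 1 by group, Ψ.map_one]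
  rw [Finset.sum_eq_zero h0, zero_add]
  refine Finset.sum_congr rfl fun q hq => ?_
  rw [hn q hq, ← mul_smul, hy _ (h2 q hq)]
  congr 1
  group

/-- The value at a fixed point moved along. -/
theorem val_smul {x s : G} {p : G ⧸ H} (hfix : (s⁻¹ * x * s) • p = p) :
    Ψ.val (s • p) x = Ψ.val p (s⁻¹ * x * s) := by
  have hh : (s * p.out)⁻¹ * (s • p).out ∈ H :=
    mem_of_mk_eq (by rw [QuotientGroup.out_eq', smul_eq_mk_mul_out])
  have ha : p.out⁻¹ * (s⁻¹ * x * s) * p.out ∈ H := fix_mem hfix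
  unfold Parity.val
  rw [← Ψ.map_conj ha hh]
  congr 1
  group

theorem T_fixed {x : G} {Ω : Finset (G ⧸ H)} (hfix : ∀ p ∈ Ω, x • p = p) :
    Ψ.T Ω x = ∑ p ∈ Ω, Ψ.val p x :=
  Finset.sum_congr rfl fun p hp => by rw [hfix p hp, Parity.val]

theorem T_fixed_const {x : G} {Ω : Finset (G ⧸ H)} {v : ZMod 2} (hfix : ∀ p ∈ Ω, x • p = p)
    (hv : ∀ p ∈ Ω, Ψ.val p x = v) : Ψ.T Ω x = Ω.card * v := by
  rw [Ψ.T_fixed hfix, Finset.sum_congr rfl hv, Finset.sum_const, nsmul_eq_mul]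

/-- The base point transfers as the character itself. -/
theorem T_base {x : G} (hx : x ∈ H) : Ψ.T {((1 : G) : G ⧸ H)} x = Ψ.toFun x := by
  have hfix : x • ((1 : G) : G ⧸ H) = ((1 : G) : G ⧸ H) := by
    rw [smul_fix_iff]; simpa using hx
  have ho : ((1 : G) : G ⧸ H).out ∈ H := by
    have := mem_of_mk_eq (QuotientGroup.out_eq' ((1 : G) : G ⧸ H)).symm
    simpa using this
  rw [Parity.T, Finset.sum_singleton, hfix, Ψ.map_conj hx ho]

end Parity

/-- The orbit of a coset under a subgroup, as a finite set. -/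
noncomputable def orb (S : Subgroup G) (p : G ⧸ H) : Finset (G ⧸ H) :=
  Finset.univ.filter fun q => ∃ s ∈ S, s • p = q

theorem mem_orb {S : Subgroup G} {p q : G ⧸ H} : q ∈ orb S p ↔ ∃ s ∈ S, s • p = q := by
  simp [orb]

theorem self_mem_orb (S : Subgroup G) (p : G ⧸ H) : p ∈ orb S p :=
  mem_orb.2 ⟨1, S.one_mem, one_smul _ p⟩

theorem smul_mem_orb {S : Subgroup G} {p q : G ⧸ H} {s : G} (hs : s ∈ S) (hq : q ∈ orb S p) :
    s • q ∈ orb S p := by
  obtain ⟨t, ht, rfl⟩ := mem_orb.1 hq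
  exact mem_orb.2 ⟨s * t, S.mul_mem hs ht, mul_smul s t p⟩

theorem orb_eq_of_fixed {S : Subgroup G} {p : G ⧸ H} (h : ∀ s ∈ S, s • p = p) : orb S p = {p} := by
  ext q
  rw [mem_orb, Finset.mem_singleton]
  exact ⟨fun ⟨s, hs, e⟩ => e ▸ h s hs, fun e => ⟨1, S.one_mem, by rw [one_smul, e]⟩⟩

/-- An invariant set transfers to zero if each of its orbits does. -/
theorem Parity.T_eq_zero_of_orbits (Ψ : Parity H) (S : Subgroup G) {x : G} (Ω : Finset (G ⧸ H))
    (hinv : ∀ s ∈ S, ∀ p ∈ Ω, s • p ∈ Ω) (h0 : ∀ p ∈ Ω, Ψ.T (orb S p) x = 0) : Ψ.T Ω x = 0 := by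
  induction hn : Ω.card using Nat.strong_induction_on generalizing Ω with
  | _ n ih =>
  rcases Ω.eq_empty_or_nonempty with rfl | ⟨p, hp⟩
  · exact Finset.sum_empty
  have hsub : orb S p ⊆ Ω := by
    intro q hq
    obtain ⟨s, hs, rfl⟩ := mem_orb.1 hq
    exact hinv s hs p hp
  rw [Ψ.T_sdiff hsub, h0 p hp, zero_add]
  refine ih (Ω \ orb S p).card ?_ _ ?_ (fun q hq => h0 q (Finset.mem_sdiff.1 hq).1) rfl
  · rw [← hn]
    exact Finset.card_lt_card (Finset.sdiff_ssubset hsub ⟨p, self_mem_orb S p⟩)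
  · intro s hs q hq
    rw [Finset.mem_sdiff] at hq ⊢
    refine ⟨hinv s hs q hq.1, fun hc => hq.2 ?_⟩
    have := smul_mem_orb (S.inv_mem hs) hc
    rwa [inv_smul_smul] at this

/-- Nontrivial orbits of 2-groups have even size. -/
theorem even_card_orb [Finite G] {S : Subgroup G} (hS : IsPGroup 2 S) {p : G ⧸ H}
    (hne : ∃ s ∈ S, s • p ≠ p) : ((orb S p).card : ZMod 2) = 0 := by
  have : Fact (Nat.Prime 2) := ⟨Nat.prime_two⟩
  obtain ⟨k, hk⟩ := hS.card_orbit p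
  have hc : Nat.card (MulAction.orbit S p) = (orb S p).card := by
    rw [← Nat.card_eq_finsetCard]
    refine Nat.card_congr (Equiv.subtypeEquivRight fun q => ?_)
    rw [mem_orb, MulAction.mem_orbit_iff]
    exact ⟨fun ⟨s, hs⟩ => ⟨s, s.2, hs⟩, fun ⟨s, hs, e⟩ => ⟨⟨s, hs⟩, e⟩⟩
  rw [hc] at hk
  rcases k with _ | k
  · exfalso
    rw [pow_zero, Finset.card_eq_one] at hk
    obtain ⟨a, ha⟩ := hk
    obtain ⟨s, hs, hne⟩ := hne
    have h1 := self_mem_orb S p
    have h2 := smul_mem_orb hs h1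
    rw [ha, Finset.mem_singleton] at h1 h2
    exact hne (h2.trans h1.symm)
  · rw [hk, pow_succ, Nat.cast_mul]
    exact (congrArg _ (CharTwo.two_eq_zero (R := ZMod 2))).trans (mul_zero _)

/-- The transfer as a homomorphism vanishes when `O²(G) = G`. -/
theorem Parity.T_univ_eq_zero [Finite G] (Ψ : Parity H)
    (hres : Subgroup.closure {g : G | Nat.Coprime (orderOf g) 2} = ⊤) (x : G) :
    Ψ.T Finset.univ x = 0 := by
  have hmul : ∀ a b, Ψ.T Finset.univ (a * b) = Ψ.T Finset.univ a + Ψ.T Finset.univ b :=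
    fun a b => Ψ.T_mul fun _ _ => Finset.mem_univ _
  have hx : x ∈ Subgroup.closure {g : G | Nat.Coprime (orderOf g) 2} := hres ▸ Subgroup.mem_top x
  induction hx using Subgroup.closure_induction with
  | mem g hg =>
    have hp : ∀ k : ℕ, Ψ.T Finset.univ (g ^ k) = k * Ψ.T Finset.univ g := by
      intro k
      induction k with
      | zero => rw [pow_zero, Ψ.T_one, Nat.cast_zero, zero_mul]
      | succ k ih => rw [pow_succ, hmul, ih, Nat.cast_succ, add_mul, one_mul]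
    have h1 := hp (orderOf g)
    rw [pow_orderOf_eq_one, Ψ.T_one] at h1
    obtain ⟨j, hj⟩ : Odd (orderOf g) := by
      rw [← Nat.coprime_two_right]; exact hg
    rw [hj, Nat.cast_add, Nat.cast_mul] at h1
    simpa [CharTwo.two_eq_zero (R := ZMod 2)] using h1.symm
  | one => exact Ψ.T_one _
  | mul a b _ _ ha hb => rw [hmul, ha, hb, add_zero]
  | inv a _ ha =>
    have := hmul a⁻¹ a
    rw [inv_mul_cancel, Ψ.T_one, ha, add_zero] at this
    exact this.symm

end CfsgLib.Transfer.Coset
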