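import Cfsg.Prelude.Def_Solvable
import Cfsg.Agent.Lib.ThreeTrans.LargeExtra
import Cfsg.Agent.Lib.Transfer.CosetTransfer

set_option autoImplicit false
set_option linter.unusedSectionVars false

/-!
Parity characters of the centralizer of a central involution of a large extraspecial 2-group, evaluated
by the transfer (owner: helper18).
-/

namespace CfsgLib.Transfer.LargeExtra

open Cfsg CfsgLib.ThreeTrans CfsgLib.Transfer.Coset
open scoped Classical

variable {G : Type*} [Group G]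

section IndexTwo

variable [Finite G]

theorem relIndex_of_two_mul_card {M S : Subgroup G} (hle : M ≤ S)
    (hc : 2 * Nat.card M = Nat.card S) : M.relIndex S = 2 := by
  have h := CfsgLib.PGroups.card_mul_relIndex hle
  rw [← hc, mul_comm 2] at h
  exact Nat.eq_of_mul_eq_mul_left Nat.card_pos h

theorem mul_mem_iff_of_two_mul_card {M S : Subgroup G} (hle : M ≤ S)
    (hc : 2 * Nat.card M = Nat.card S) {a b : G} (ha : a ∈ S) (hb : b ∈ S) :
    a * b ∈ M ↔ (a ∈ M ↔ b ∈ M) :=
  Subgroup.mul_mem_iff_of_index_two (H := M.subgroupOf S) (relIndex_of_two_mul_card hle hc)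
    (a := ⟨a, ha⟩) (b := ⟨b, hb⟩)

theorem conj_mem_of_two_mul_card {M S : Subgroup G} (hle : M ≤ S)
    (hc : 2 * Nat.card M = Nat.card S) {a m : G} (ha : a ∈ S) (hm : m ∈ M) : a⁻¹ * m * a ∈ M := by
  rw [mul_mem_iff_of_two_mul_card hle hc (S.mul_mem (S.inv_mem ha) (hle hm)) ha,
    mul_mem_iff_of_two_mul_card hle hc (S.inv_mem ha) (hle hm)]
  simp [hm]

theorem exists_notMem_of_two_mul_card {M S : Subgroup G}
    (hc : 2 * Nat.card M = Nat.card S) : ∃ e ∈ S, e ∉ M := by
  by_contra h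
  simp only [not_exists, not_and, not_not] at h
  have := Subgroup.card_le_of_le (H := S) (K := M) h
  have : 0 < Nat.card M := Nat.card_pos
  omega

theorem exists_two_mul_card {R S : Subgroup G} (hS : IsPGroup 2 S) (hle : R ≤ S)
    (hne : ∃ s ∈ S, s ∉ R) : ∃ M, R ≤ M ∧ M ≤ S ∧ 2 * Nat.card M = Nat.card S := by
  have : Fact (Nat.Prime 2) := ⟨Nat.prime_two⟩
  obtain ⟨b, hb⟩ := IsPGroup.iff_card.mp hS
  obtain ⟨a, ha⟩ := IsPGroup.iff_card.mp (hS.to_le hle)
  have hlt : Nat.card R < Nat.card S := by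
    refine lt_of_le_of_ne (Subgroup.card_le_of_le hle) fun h => ?_
    obtain ⟨s, hs, hsR⟩ := hne
    exact hsR (Subgroup.eq_of_le_of_card_ge hle h.ge ▸ hs)
  rw [ha, hb, Nat.pow_lt_pow_iff_right one_lt_two] at hlt
  have hR : Nat.card (R.subgroupOf S) = 2 ^ a :=
    (Nat.card_congr (Subgroup.subgroupOfEquivOfLe hle).toEquiv).trans ha
  obtain ⟨K, hK, hRK⟩ := Sylow.exists_subgroup_card_pow_prime_le 2 (m := b - 1)
    (hb ▸ pow_dvd_pow 2 (Nat.sub_le b 1)) (R.subgroupOf S) hR (by omega)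
  refine ⟨K.map S.subtype, ?_, Subgroup.map_subtype_le K, ?_⟩
  · intro r hr
    exact ⟨⟨r, hle hr⟩, hRK hr, rfl⟩
  · rw [Subgroup.card_map_of_injective S.subtype_injective, hK, hb, ← pow_succ']
    congr 1
    omega

theorem two_mul_card_inf {E M S : Subgroup G} (hES : E ≤ S) (hle : M ≤ S)
    (hc : 2 * Nat.card M = Nat.card S) {e : G} (he : e ∈ E) (heM : e ∉ M) :
    2 * Nat.card ↥(E ⊓ M) = Nat.card E := by
  have hr : (E ⊓ M).relIndex E = 2 := by
    rw [Subgroup.relIndex_eq_two_iff_exists_notMem_and]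
    refine ⟨e, he, fun h => heM h.2, fun b hb => ?_⟩
    by_cases hbM : b ∈ M
    · exact Or.inr ⟨hb, hbM⟩
    · refine Or.inl ⟨E.mul_mem hb he, ?_⟩
      show b * e ∈ M
      rw [mul_mem_iff_of_two_mul_card hle hc (hES hb) (hES he)]
      simp [hbM, heM]
  have := CfsgLib.PGroups.card_mul_relIndex (H := E ⊓ M) (K := E) inf_le_left
  rw [hr] at this
  omega

/-- The parity character of a subgroup of index 2. -/
noncomputable def parityOfIndexTwo {K H : Subgroup G} (hle : K ≤ H)
    (hc : 2 * Nat.card K = Nat.card H) : Parity H where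
  toFun x := if x ∈ K then 0 else 1
  map_mul a ha b hb := by
    have h := mul_mem_iff_of_two_mul_card hle hc ha hb
    by_cases h1 : a ∈ K <;> by_cases h2 : b ∈ K <;> simp [h1, h2, h, CharTwo.add_self_eq_zero]

end IndexTwo

/-- The coset of the centralizer itself. -/
abbrev base (z : G) : G ⧸ Subgroup.centralizer ({z} : Set G) := ((1 : G) : G ⧸ _)

/-- The hypotheses of the statements give the basic large extraspecial setting. -/
theorem largeData_of [Finite G] {z : G} (hz : orderOf z = 2) {E : Subgroup G}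
    (hE : E = (pCore 2 ↥(Subgroup.centralizer ({z} : Set G))).map
      (Subgroup.centralizer ({z} : Set G)).subtype)
    (hext : IsExtraspecial 2 ↥E) (hcent : Subgroup.centralizer (E : Set G) ≤ E) :
    LargeData z E := by
  have hEH : E ≤ Subgroup.centralizer ({z} : Set G) := hE ▸ Subgroup.map_subtype_le _
  have hzc : z ∈ Subgroup.centralizer (E : Set G) := by
    rw [Subgroup.mem_centralizer_iff]
    exact fun q hq => mem_centralizer_singleton_iff'.1 (hEH hq)
  have hzE : z ∈ E := hcent hzc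
  have hzC : (⟨z, hzE⟩ : E) ∈ Subgroup.center E :=
    Subgroup.mem_center_iff.2 fun q => Subtype.ext (Subgroup.mem_centralizer_iff.1 hzc q q.2)
  have hcenter : (Subgroup.center E).map E.subtype = Subgroup.zpowers z := by
    refine (Subgroup.eq_of_le_of_card_ge (Subgroup.zpowers_le.2
      (Subgroup.mem_map.2 ⟨⟨z, hzE⟩, hzC, rfl⟩ : z ∈ (Subgroup.center E).map E.subtype)) ?_).symm
    rw [Subgroup.card_map_of_injective E.subtype_injective, Nat.card_zpowers, hz, hext.2]
  refine ⟨hz, hext, hcenter, ?_, ?_⟩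
  · refine le_antisymm (fun x hx => ?_) (Subgroup.zpowers_le.2 hzc)
    rw [← hcenter]
    exact ⟨⟨x, hcent hx⟩, Subgroup.mem_center_iff.2 fun q =>
      Subtype.ext (Subgroup.mem_centralizer_iff.1 hx q q.2), rfl⟩
  · have hn : (pCore 2 ↥(Subgroup.centralizer ({z} : Set G))).Normal := CfsgLib.Core.normal_pCore 2 _
    intro x hx
    rw [Subgroup.mem_normalizer_iff]
    intro y
    have key : ∀ u ∈ Subgroup.centralizer ({z} : Set G), ∀ v ∈ E, u * v * u⁻¹ ∈ E := by
      intro u hu v hv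
      rw [hE] at hv ⊢
      obtain ⟨w, hw, rfl⟩ := hv
      exact ⟨⟨u, hu⟩ * w * ⟨u, hu⟩⁻¹, hn.conj_mem w hw _, rfl⟩
    refine ⟨key x hx y, fun h => ?_⟩
    have := key x⁻¹ (inv_mem hx) _ h
    simpa [mul_assoc] using this

section Data

variable [Finite G] {z : G} {E : Subgroup G} (h : LargeData z E)
include h

theorem inv_eq_self {u : G} (hu : u ∈ Subgroup.zpowers z) : u⁻¹ = u := by
  rcases h.eq_or hu with e | e <;> simp [e, h.inv_z]

/-- An involution commuting with a hyperplane of `E` lies in `E`. -/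
theorem mem_of_centralizes {M : Subgroup G} (hle : M ≤ E) (hc : 2 * Nat.card M = Nat.card E)
    (hzM : z ∈ M) {w : G} (hwz : Commute w z) (hww : w * w = 1) (hw : ∀ m ∈ M, Commute w m) :
    w ∈ E := by
  obtain ⟨e, he, heM⟩ := exists_notMem_of_two_mul_card hc
  set y := e⁻¹ * (w * e * w⁻¹) with hydef
  have hy : y ∈ E := E.mul_mem (E.inv_mem he) (h.conj_mem hwz he)
  have hwey : w * e * w⁻¹ = e * y := by rw [hydef]; group
  have hym : ∀ m ∈ M, Commute y m := by
    intro m hm
    have h1 : e * m * e⁻¹ ∈ M := by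
      have := conj_mem_of_two_mul_card hle hc (E.inv_mem he) hm
      rwa [inv_inv] at this
    have hwi : w⁻¹ * m * w = m := by rw [mul_assoc, ← (hw m hm).eq, inv_mul_cancel_left]
    have h2 : w * e * w⁻¹ * m * (w * e * w⁻¹)⁻¹ = e * m * e⁻¹ := by
      calc w * e * w⁻¹ * m * (w * e * w⁻¹)⁻¹ = w * (e * (w⁻¹ * m * w) * e⁻¹) * w⁻¹ := by group
        _ = w * (e * m * e⁻¹) * w⁻¹ := by rw [hwi]
        _ = e * m * e⁻¹ := by rw [(hw _ h1).eq, mul_inv_cancel_right]
    refine mul_inv_eq_iff_eq_mul.1 (?_ : y * m * y⁻¹ = m)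
    calc y * m * y⁻¹ = e⁻¹ * (w * e * w⁻¹ * m * (w * e * w⁻¹)⁻¹) * e := by rw [hydef]; group
      _ = m := by rw [h2]; group
  have hyM : y ∈ M := by
    by_contra hyM
    apply hyM
    have : y ∈ Subgroup.centralizer (E : Set G) := by
      rw [Subgroup.mem_centralizer_iff]
      intro q hq
      by_cases hqM : q ∈ M
      · exact (hym q hqM).eq.symm
      · have hq' : y⁻¹ * q ∈ M := by
          rw [mul_mem_iff_of_two_mul_card hle hc (E.inv_mem hy) hq]
          simp [hyM, hqM]
        have h3 : Commute y (y * (y⁻¹ * q)) := (Commute.refl y).mul_right (hym _ hq')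
        rw [mul_inv_cancel_left] at h3
        exact h3.eq.symm
    rw [h.hcent] at this
    exact Subgroup.zpowers_le.2 hzM this
  have hwy : Commute w y := hw y hyM
  have hwi : w⁻¹ = w := inv_eq_of_mul_eq_one_left hww
  have hyy : y * y = 1 := by
    have h1 : w * (w * e * w⁻¹) * w⁻¹ = e := by
      rw [hwi, show w * (w * e * w) * w = (w * w) * e * (w * w) by group, hww, one_mul, mul_one]
    rw [hwey, show w * (e * y) * w⁻¹ = w * e * w⁻¹ * (w * y * w⁻¹) by group, hwey, hwy.eq,
      mul_inv_cancel_right, mul_assoc] at h1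
    exact mul_left_cancel (h1.trans (mul_one e).symm)
  have hyz : y ∈ Subgroup.zpowers z := by
    by_cases hey : e⁻¹ * y * e = y
    · rw [← h.hcent, Subgroup.mem_centralizer_iff]
      have hye : Commute y e := by
        rw [mul_assoc, inv_mul_eq_iff_eq_mul] at hey
        exact hey
      intro q hq
      by_cases hqM : q ∈ M
      · exact (hym q hqM).eq.symm
      · have hq' : e⁻¹ * q ∈ M := by
          rw [mul_mem_iff_of_two_mul_card hle hc (E.inv_mem he) hq]
          simp [heM, hqM]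
        have h3 : Commute y (e * (e⁻¹ * q)) := hye.mul_right (hym _ hq')
        rw [mul_inv_cancel_left] at h3
        exact h3.eq.symm
    · exfalso
      have h1 : e⁻¹ * y * e = z * y := by
        have := h.conj_eq_or (E.inv_mem he) hy
        rw [inv_inv] at this
        exact this.resolve_left hey
      have h2 : w * (e * e) * w⁻¹ = e * e := by
        rcases h.eq_or (h.sq_mem he) with e' | e' <;> rw [e']
        · group
        · rw [hwz.eq, mul_inv_cancel_right]
      rw [show w * (e * e) * w⁻¹ = (w * e * w⁻¹) * (w * e * w⁻¹) by group, hwey,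
        show e * y * (e * y) = e * e * (e⁻¹ * y * e * y) by group, h1, mul_assoc z y y, hyy,
        mul_one] at h2
      exact h.z_ne_one (mul_eq_left.1 h2)
  refine h.mem_of_trivial hwz fun q hq => ?_
  by_cases hqM : q ∈ M
  · rw [(hw q hqM).eq, mul_inv_cancel_right, mul_inv_cancel]
    exact one_mem _
  · have hq' : e⁻¹ * q ∈ M := by
      rw [mul_mem_iff_of_two_mul_card hle hc (E.inv_mem he) hq]
      simp [heM, hqM]
    have h3 : w * q * w⁻¹ * q⁻¹ = y := by
      calc w * q * w⁻¹ * q⁻¹ = w * e * w⁻¹ * (w * (e⁻¹ * q) * w⁻¹) * q⁻¹ := by group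
        _ = e * y * (e⁻¹ * q) * q⁻¹ := by rw [hwey, (hw _ hq').eq, mul_inv_cancel_right]
        _ = e * y * e⁻¹ := by group
        _ = y := by
          rw [Commute.eq (show Commute e y from ?_), mul_inv_cancel_right]
          rcases h.eq_or hyz with e' | e' <;> rw [e']
          · exact Commute.one_right e
          · exact h.commute_z he
    rw [h3]
    exact hyz

/-- A hyperplane of `E` is centralized only by four elements of `E`. -/
theorem centralizer_hyperplane {M : Subgroup G} (hle : M ≤ E) (hc : 2 * Nat.card M = Nat.card E)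
    {a b : G} (ha : a ∈ E) (hb : b ∈ E) (haM : ∀ m ∈ M, Commute a m) (haz : a ∉ Subgroup.zpowers z)
    (hbM : ∀ m ∈ M, Commute b m) : b ∈ Subgroup.zpowers z ∨ a * b ∈ Subgroup.zpowers z := by
  obtain ⟨e, he, heM⟩ := exists_notMem_of_two_mul_card hc
  have key : ∀ u, (∀ m ∈ M, Commute u m) → Commute u e → u ∈ Subgroup.zpowers z := by
    intro u hu hue
    rw [← h.hcent, Subgroup.mem_centralizer_iff]
    intro q hq
    by_cases hqM : q ∈ M
    · exact (hu q hqM).eq.symm
    · have hq' : e⁻¹ * q ∈ M := by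
        rw [mul_mem_iff_of_two_mul_card hle hc (E.inv_mem he) hq]
        simp [heM, hqM]
      have h3 : Commute u (e * (e⁻¹ * q)) := hue.mul_right (hu _ hq')
      rw [mul_inv_cancel_left] at h3
      exact h3.eq.symm
  rcases h.conj_eq_or he hb with e1 | e1
  · exact Or.inl (key b hbM (mul_inv_eq_iff_eq_mul.1 e1).symm)
  rcases h.conj_eq_or he ha with e2 | e2
  · exact absurd (key a haM (mul_inv_eq_iff_eq_mul.1 e2).symm) haz
  refine Or.inr (key _ (fun m hm => (haM m hm).mul_left (hbM m hm)) (Commute.symm ?_))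
  refine mul_inv_eq_iff_eq_mul.1 (?_ : e * (a * b) * e⁻¹ = a * b)
  calc e * (a * b) * e⁻¹ = (e * a * e⁻¹) * (e * b * e⁻¹) := by group
    _ = z * a * (z * b) := by rw [e1, e2]
    _ = z * (a * z) * b := by group
    _ = a * b := by rw [(h.commute_z ha).eq, ← mul_assoc, h.mul_self_z, one_mul]

/-- A large subgroup of `E` has `z` as a commutator. -/
theorem exists_commutator {D : Subgroup G} (hle : D ≤ E) (hzD : z ∈ D)
    (hbig : 2 * Nat.card E < Nat.card D * Nat.card D) :
    ∃ a ∈ D, ∃ b ∈ D, a * b * a⁻¹ * b⁻¹ = z := by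
  have : Fact (Nat.Prime 2) := ⟨Nat.prime_two⟩
  by_contra hcon
  simp only [not_exists, not_and] at hcon
  have hcomm : ∀ a ∈ D, ∀ b ∈ D, a * b = b * a := fun a ha b hb =>
    mul_inv_eq_iff_eq_mul.1 (mul_inv_eq_one.1
      ((h.eq_or (h.comm_mem (hle ha) (hle hb))).resolve_right (hcon a ha b hb)))
  have hZ : Subgroup.center E ≤ D.subgroupOf E := fun q hq => by
    rw [h.center_mem_iff] at hq
    exact Subgroup.mem_subgroupOf.2 (Subgroup.zpowers_le.2 hzD hq)
  have h1 := CfsgLib.PGroups.IsExtraspecial.card_centralizer_mul_card h.hE hZ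
  have h2 : D.subgroupOf E ≤ Subgroup.centralizer (D.subgroupOf E : Set E) := by
    intro a ha
    rw [Subgroup.mem_centralizer_iff]
    exact fun b hb => Subtype.ext (hcomm b hb a ha)
  have h3 : Nat.card (D.subgroupOf E) = Nat.card D :=
    Nat.card_congr (Subgroup.subgroupOfEquivOfLe hle).toEquiv
  have h4 := Nat.mul_le_mul_right (Nat.card (D.subgroupOf E)) (Subgroup.card_le_of_le h2)
  rw [h1, h3] at h4
  omega

section Transfer

variable [Fintype (G ⧸ Subgroup.centralizer ({z} : Set G))]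

theorem fix_base {x : G} (hx : x ∈ Subgroup.centralizer ({z} : Set G)) : x • base z = base z := by
  rw [smul_fix_iff]; simpa using hx

theorem smul_ne_base {x : G} (hx : x ∈ Subgroup.centralizer ({z} : Set G))
    {p : G ⧸ Subgroup.centralizer ({z} : Set G)} (hp : p ≠ base z) : x • p ≠ base z := fun hc => by
  apply hp
  rw [← inv_smul_smul x p, hc, fix_base h (inv_mem hx)]

theorem z_mem_centralizer : z ∈ Subgroup.centralizer ({z} : Set G) :=
  h.le_centralizer h.z_mem

theorem z_smul_comm {s : G} (hs : s ∈ Subgroup.centralizer ({z} : Set G))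
    (p : G ⧸ Subgroup.centralizer ({z} : Set G)) : z • s • p = s • z • p := by
  rw [← mul_smul, ← mul_smul, mem_centralizer_singleton_iff'.1 hs]

/-- The conjugate of `z` attached to a coset. -/
theorem out_conj_props {p : G ⧸ Subgroup.centralizer ({z} : Set G)} :
    p.out * z * p.out⁻¹ * (p.out * z * p.out⁻¹) = 1 ∧
    (∀ d, d • p = p → Commute (p.out * z * p.out⁻¹) d) ∧
    (p.out * z * p.out⁻¹ ∈ Subgroup.zpowers z → p = base z) := by
  refine ⟨by rw [conj_mul, h.mul_self_z, mul_one, mul_inv_cancel], fun d hd => ?_, fun hw => ?_⟩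
  · have h1 : Commute z (p.out⁻¹ * d * p.out) :=
      (mem_centralizer_singleton_iff'.1 (fix_mem hd) : Commute _ z).symm
    have h2 := (LargeData.commute_conj_iff' (g := p.out)).2 h1
    rwa [show p.out * (p.out⁻¹ * d * p.out) * p.out⁻¹ = d by group] at h2
  · rw [← QuotientGroup.out_eq' p, QuotientGroup.eq, mul_one]
    refine inv_mem (mem_centralizer_singleton_iff'.2 ?_)
    rcases h.eq_or hw with e | e
    · exact absurd (conj_eq_one_iff.1 e) h.z_ne_one
    · exact mul_inv_eq_iff_eq_mul.1 e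

/-- Outside the base point no coset is fixed by all of `E`. -/
theorem eq_base_of_fixed {p : G ⧸ Subgroup.centralizer ({z} : Set G)} (hE : ∀ q ∈ E, q • p = p) :
    p = base z := by
  refine (out_conj_props h).2.2 ?_
  rw [← h.hcent, Subgroup.mem_centralizer_iff]
  exact fun q hq => ((out_conj_props h).2.1 q (hE q hq)).eq.symm

variable (Ψ : Parity (Subgroup.centralizer ({z} : Set G)))
variable (hA : ∀ p : G ⧸ Subgroup.centralizer ({z} : Set G), p ≠ base z → z • p = p →
    2 * Nat.card ↥(E ⊓ MulAction.stabilizer G p) = Nat.card E →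
    ∀ d ∈ E ⊓ MulAction.stabilizer G p, Ψ.val p d = 0)
variable (hB : ∀ p : G ⧸ Subgroup.centralizer ({z} : Set G), p ≠ base z → z • p = p →
    Nat.card E ≤ 4 * Nat.card ↥(E ⊓ MulAction.stabilizer G p) → Ψ.val p z = 0)

include hA hB in
/-- A hyperplane of `E` transfers to zero on each of its orbits of `z`-fixed cosets. -/
theorem T_orb_hyperplane {N0 : Subgroup G} (hle : N0 ≤ E) (hc : 2 * Nat.card N0 = Nat.card E)
    (hzN : z ∈ N0) {p : G ⧸ Subgroup.centralizer ({z} : Set G)} (hp : p ≠ base z) (hzp : z • p = p)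
    {m : G} (hm : m ∈ N0) : Ψ.T (orb N0 p) m = 0 := by
  have : Fact (Nat.Prime 2) := ⟨Nat.prime_two⟩
  have hN0 : IsPGroup 2 N0 := (CfsgLib.PGroups.IsExtraspecial.isPGroup h.hE).to_le hle
  by_cases hall : ∀ s ∈ N0, s • p = p
  · rw [orb_eq_of_fixed hall, Ψ.T_fixed (by simpa using hall m hm), Finset.sum_singleton]
    have heq : E ⊓ MulAction.stabilizer G p = N0 := by
      refine le_antisymm (fun d hd => ?_) fun d hd => ⟨hle hd, hall d hd⟩
      by_contra hdN
      refine hp (eq_base_of_fixed h fun q hq => ?_)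
      by_cases hqN : q ∈ N0
      · exact hall q hqN
      · have h1 : d⁻¹ * q ∈ N0 := by
          rw [mul_mem_iff_of_two_mul_card hle hc (E.inv_mem hd.1) hq]
          simp [hdN, hqN]
        have h2 := hall _ h1
        rw [mul_smul, inv_smul_eq_iff] at h2
        exact h2.trans hd.2
    exact hA p hp hzp (by rw [heq]; exact hc) m (by rw [heq]; exact hm)
  simp only [not_forall] at hall
  obtain ⟨s0, hs0, hs0p⟩ := hall
  obtain ⟨N, hDN, hNN0, hNc⟩ := exists_two_mul_card hN0
    (inf_le_left : N0 ⊓ MulAction.stabilizer G p ≤ N0) ⟨s0, hs0, fun hh => hs0p hh.2⟩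
  have hzN' : z ∈ N := hDN ⟨hzN, hzp⟩
  have hQz : ∀ u ∈ Subgroup.zpowers z, Ψ.T (orb N p) u = 0 := by
    intro u hu
    rcases h.eq_or hu with e | e <;> rw [e]
    · exact Ψ.T_one _
    have hfix : ∀ q ∈ orb N p, z • q = q := by
      intro q hq
      obtain ⟨s, hs, rfl⟩ := mem_orb.1 hq
      rw [z_smul_comm h (h.le_centralizer (hle (hNN0 hs))), hzp]
    have hconst : ∀ q ∈ orb N p, Ψ.val q z = Ψ.val p z := by
      intro q hq
      obtain ⟨s, hs, rfl⟩ := mem_orb.1 hq
      have hsz : s⁻¹ * z * s = z := by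
        rw [mul_assoc, ← (h.commute_z (hle (hNN0 hs))).eq, inv_mul_cancel_left]
      rw [Ψ.val_smul (by rw [hsz]; exact hzp), hsz]
    rw [Ψ.T_fixed_const hfix hconst]
    by_cases hmove : ∃ s ∈ N, s • p ≠ p
    · rw [even_card_orb (hN0.to_le hNN0) hmove, zero_mul]
    · simp only [not_exists, not_and, not_not] at hmove
      have hND : N ≤ E ⊓ MulAction.stabilizer G p := fun s hs => ⟨hle (hNN0 hs), hmove s hs⟩
      have := Subgroup.card_le_of_le hND
      rw [hB p hp hzp (by omega), mul_zero]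
  have hsplit : ∀ e ∈ N0, e ∉ N → orb N0 p = orb N p ∪ (orb N p).image (e • ·) ∧
      Disjoint (orb N p) ((orb N p).image (e • ·)) := by
    intro e he heN
    constructor
    · ext q
      rw [Finset.mem_union, Finset.mem_image]
      constructor
      · intro hq
        obtain ⟨s, hs, rfl⟩ := mem_orb.1 hq
        by_cases hsN : s ∈ N
        · exact Or.inl (mem_orb.2 ⟨s, hsN, rfl⟩)
        · refine Or.inr ⟨(e⁻¹ * s) • p, mem_orb.2 ⟨_, ?_, rfl⟩, ?_⟩
          · rw [mul_mem_iff_of_two_mul_card hNN0 hNc (N0.inv_mem he) hs]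
            simp [heN, hsN]
          · rw [← mul_smul, mul_inv_cancel_left]
      · rintro (hq | ⟨q', hq, rfl⟩)
        · obtain ⟨s, hs, rfl⟩ := mem_orb.1 hq
          exact mem_orb.2 ⟨s, hNN0 hs, rfl⟩
        · obtain ⟨s, hs, rfl⟩ := mem_orb.1 hq
          exact mem_orb.2 ⟨e * s, N0.mul_mem he (hNN0 hs), mul_smul _ _ _⟩
    · rw [Finset.disjoint_left]
      intro q hq hq'
      obtain ⟨r, hr, rfl⟩ := mem_orb.1 hq
      obtain ⟨q'', hq'', hqe⟩ := Finset.mem_image.1 hq'
      obtain ⟨s, hs, rfl⟩ := mem_orb.1 hq''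
      have h1 : (r⁻¹ * (e * s)) ∈ N :=
        hDN ⟨N0.mul_mem (N0.inv_mem (hNN0 hr)) (N0.mul_mem he (hNN0 hs)), by
          show (r⁻¹ * (e * s)) • p = p
          rw [mul_smul, mul_smul, inv_smul_eq_iff]
          exact hqe⟩
      exact heN ((mul_mem_cancel_right hs).1 ((mul_mem_cancel_left (inv_mem hr)).1 h1))
  by_cases hmN : m ∈ N
  · obtain ⟨e, he, heN⟩ := exists_notMem_of_two_mul_card hNc
    obtain ⟨h1, h2⟩ := hsplit e he heN
    have hme : e⁻¹ * m * e ∈ N := conj_mem_of_two_mul_card hNN0 hNc he hmN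
    rw [h1, Ψ.T_union h2, Ψ.T_image fun q hq => smul_mem_orb hme hq]
    have hu : m⁻¹ * (e⁻¹ * m * e) ∈ Subgroup.zpowers z := by
      have := h.comm_mem (E.inv_mem (hle hm)) (E.inv_mem (hle he))
      rw [inv_inv, inv_inv] at this
      rwa [show m⁻¹ * (e⁻¹ * m * e) = m⁻¹ * e⁻¹ * m * e by group]
    conv_lhs => arg 2; rw [show e⁻¹ * m * e = m * (m⁻¹ * (e⁻¹ * m * e)) by group]
    rw [Ψ.T_mul fun q hq => smul_mem_orb (Subgroup.zpowers_le.2 hzN' hu) hq, hQz _ hu, add_zero,
      CharTwo.add_self_eq_zero]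
  · obtain ⟨h1, h2⟩ := hsplit m hm hmN
    have hmm := h.sq_mem (hle hm)
    rw [h1, Ψ.T_swap h2 fun q hq => smul_mem_orb (Subgroup.zpowers_le.2 hzN' hmm) hq, hQz _ hmm]

include hA hB in
/-- Every orbit of a 2-subgroup off the base point transfers to zero. -/
theorem T_orb_eq_zero (S : Subgroup G) (hS : IsPGroup 2 S)
    (hSH : S ≤ Subgroup.centralizer ({z} : Set G)) (hzS : z ∈ S)
    (p : G ⧸ Subgroup.centralizer ({z} : Set G)) (hp : p ≠ base z) (hzE : z • p = p → E ≤ S)
    (x : G) (hx : x ∈ S) : Ψ.T (orb S p) x = 0 := by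
  induction hn : Nat.card S using Nat.strong_induction_on generalizing S p x with
  | _ n ih =>
  have : Fact (Nat.Prime 2) := ⟨Nat.prime_two⟩
  have hne : ∃ s ∈ S, s ∉ S ⊓ MulAction.stabilizer G p := by
    by_contra hc
    simp only [not_exists, not_and, not_not] at hc
    exact hp (eq_base_of_fixed h fun q hq => (hc q (hzE (hc z hzS).2 hq)).2)
  obtain ⟨M, hRM, hMS, hMc⟩ := exists_two_mul_card hS inf_le_left hne
  have hMn : Nat.card M < n := by
    have : 0 < Nat.card M := Nat.card_pos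
    omega
  have key : ∀ e ∈ S, e ∉ M →
      (∀ y ∈ M, Ψ.T (orb M p) y + Ψ.T (orb M p) (e⁻¹ * y * e) = 0) →
      Ψ.T (orb M p) (e * e) = 0 → Ψ.T (orb S p) x = 0 := by
    intro e he heM h1 h2
    have hsplit : orb S p = orb M p ∪ (orb M p).image (e • ·) := by
      ext q
      rw [Finset.mem_union, Finset.mem_image]
      constructor
      · intro hq
        obtain ⟨s, hs, rfl⟩ := mem_orb.1 hq
        by_cases hsN : s ∈ M
        · exact Or.inl (mem_orb.2 ⟨s, hsN, rfl⟩)
        · refine Or.inr ⟨(e⁻¹ * s) • p, mem_orb.2 ⟨_, ?_, rfl⟩, ?_⟩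
          · rw [mul_mem_iff_of_two_mul_card hMS hMc (S.inv_mem he) hs]
            simp [heM, hsN]
          · rw [← mul_smul, mul_inv_cancel_left]
      · rintro (hq | ⟨q', hq, rfl⟩)
        · obtain ⟨s, hs, rfl⟩ := mem_orb.1 hq
          exact mem_orb.2 ⟨s, hMS hs, rfl⟩
        · obtain ⟨s, hs, rfl⟩ := mem_orb.1 hq
          exact mem_orb.2 ⟨e * s, S.mul_mem he (hMS hs), mul_smul _ _ _⟩
    have hd : Disjoint (orb M p) ((orb M p).image (e • ·)) := by
      rw [Finset.disjoint_left]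
      intro q hq hq'
      obtain ⟨r, hr, rfl⟩ := mem_orb.1 hq
      obtain ⟨q'', hq'', hqe⟩ := Finset.mem_image.1 hq'
      obtain ⟨s, hs, rfl⟩ := mem_orb.1 hq''
      have h3 : (r⁻¹ * (e * s)) ∈ M :=
        hRM ⟨S.mul_mem (S.inv_mem (hMS hr)) (S.mul_mem he (hMS hs)), by
          show (r⁻¹ * (e * s)) • p = p
          rw [mul_smul, mul_smul, inv_smul_eq_iff]
          exact hqe⟩
      exact heM ((mul_mem_cancel_right hs).1 ((mul_mem_cancel_left (inv_mem hr)).1 h3))
    have hM0 : ∀ y ∈ M, Ψ.T (orb S p) y = 0 := by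
      intro y hy
      rw [hsplit, Ψ.T_union hd,
        Ψ.T_image fun q hq => smul_mem_orb (conj_mem_of_two_mul_card hMS hMc he hy) hq]
      exact h1 y hy
    by_cases hxM : x ∈ M
    · exact hM0 x hxM
    have hy : e⁻¹ * x ∈ M := by
      rw [mul_mem_iff_of_two_mul_card hMS hMc (S.inv_mem he) hx]
      simp [heM, hxM]
    have hee : e * e ∈ M := by
      rw [mul_mem_iff_of_two_mul_card hMS hMc he he]
    rw [← mul_inv_cancel_left e x, Ψ.T_mul fun q hq => smul_mem_orb (hMS hy) hq, hM0 _ hy,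
      hsplit, Ψ.T_swap hd fun q hq => smul_mem_orb hee hq, h2, add_zero]
  have hIH : z ∈ M → (z • p = p → E ≤ M) → ∀ y ∈ M, Ψ.T (orb M p) y = 0 :=
    fun hzM hEM y hy => ih _ hMn M (hS.to_le hMS) (hMS.trans hSH) hzM p hp hEM y hy rfl
  obtain ⟨e0, he0, he0M⟩ := exists_notMem_of_two_mul_card hMc
  have hee0 : e0 * e0 ∈ M := by rw [mul_mem_iff_of_two_mul_card hMS hMc he0 he0]
  by_cases hzp : z • p = p
  · have hzM : z ∈ M := hRM ⟨hzS, hzp⟩
    have hES := hzE hzp
    by_cases hEM : E ≤ M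
    · refine key e0 he0 he0M (fun y hy => ?_) (hIH hzM (fun _ => hEM) _ hee0)
      rw [hIH hzM (fun _ => hEM) y hy,
        hIH hzM (fun _ => hEM) _ (conj_mem_of_two_mul_card hMS hMc he0 hy), add_zero]
    obtain ⟨e, he, heM⟩ := SetLike.not_le_iff_exists.1 hEM
    have h0 : ∀ u ∈ E ⊓ M, Ψ.T (orb M p) u = 0 := by
      intro u hu
      refine Ψ.T_eq_zero_of_orbits (E ⊓ M) _ (fun s hs q hq => smul_mem_orb hs.2 hq)
        (fun q hq => ?_)
      obtain ⟨s, hs, rfl⟩ := mem_orb.1 hq
      exact T_orb_hyperplane h Ψ hA hB inf_le_left (two_mul_card_inf hES hMS hMc he heM)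
        ⟨h.z_mem, hzM⟩ (smul_ne_base h (hSH (hMS hs)) hp)
        (by rw [z_smul_comm h (hSH (hMS hs)), hzp]) hu
    refine key e (hES he) heM (fun y hy => ?_)
      (h0 _ (Subgroup.mem_inf.2 ⟨E.mul_mem he he,
        (mul_mem_iff_of_two_mul_card hMS hMc (hES he) (hES he)).2 Iff.rfl⟩))
    have hu : y⁻¹ * (e⁻¹ * y * e) ∈ E ⊓ M := by
      refine ⟨?_, M.mul_mem (M.inv_mem hy) (conj_mem_of_two_mul_card hMS hMc (hES he) hy)⟩
      have := E.mul_mem (h.conj_mem (c := y⁻¹)
        (mem_centralizer_singleton_iff'.1 (inv_mem (hSH (hMS hy)))) (E.inv_mem he)) he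
      simpa [mul_assoc] using this
    conv_lhs => arg 2; rw [show e⁻¹ * y * e = y * (y⁻¹ * (e⁻¹ * y * e)) by group]
    rw [Ψ.T_mul fun q hq => smul_mem_orb hu.2 hq, h0 _ hu, add_zero, CharTwo.add_self_eq_zero]
  · by_cases hzM : z ∈ M
    · refine key e0 he0 he0M (fun y hy => ?_) (hIH hzM (fun h' => absurd h' hzp) _ hee0)
      rw [hIH hzM (fun h' => absurd h' hzp) y hy,
        hIH hzM (fun h' => absurd h' hzp) _ (conj_mem_of_two_mul_card hMS hMc he0 hy), add_zero]
    · refine key z hzS hzM (fun y hy => ?_) (by rw [h.mul_self_z]; exact Ψ.T_one _)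
      rw [mul_assoc z⁻¹, mem_centralizer_singleton_iff'.1 (hSH (hMS hy)), inv_mul_cancel_left,
        CharTwo.add_self_eq_zero]

include hA hB in
/-- The character is trivial. -/
theorem parity_eq_zero (hres : pResidual 2 G = ⊤) {x : G}
    (hx : x ∈ Subgroup.centralizer ({z} : Set G)) : Ψ.toFun x = 0 := by
  have : Fact (Nat.Prime 2) := ⟨Nat.prime_two⟩
  obtain ⟨k, m, hm, hkm⟩ := Nat.exists_eq_pow_mul_and_not_dvd (orderOf_pos x).ne' 2 (by norm_num)
  have hxm : Ψ.toFun (x ^ m) = Ψ.toFun x := by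
    obtain ⟨j, rfl⟩ : Odd m := by rw [← Nat.not_even_iff_odd, even_iff_two_dvd]; exact hm
    rw [Ψ.map_pow hx, Nat.cast_add, Nat.cast_mul]
    simp [CharTwo.two_eq_zero (R := ZMod 2)]
  rw [← hxm]
  set y := x ^ m with hy
  have hyH : y ∈ Subgroup.centralizer ({z} : Set G) := pow_mem hx m
  have hy2 : IsPGroup 2 (Subgroup.zpowers y) := by
    rintro ⟨u, hu⟩
    obtain ⟨j, rfl⟩ := Subgroup.mem_zpowers_iff.1 hu
    refine ⟨k, Subtype.ext ?_⟩
    show (y ^ j) ^ 2 ^ k = 1
    rw [← zpow_natCast (y ^ j), zpow_comm, zpow_natCast, hy, ← pow_mul, mul_comm m, ← hkm,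
      pow_orderOf_eq_one, one_zpow]
  have hS : IsPGroup 2 ↥(Subgroup.zpowers y ⊔ E) :=
    hy2.to_sup_of_normal_right' (CfsgLib.PGroups.IsExtraspecial.isPGroup h.hE)
      ((Subgroup.zpowers_le.2 hyH).trans h.hnorm)
  have hSH : Subgroup.zpowers y ⊔ E ≤ Subgroup.centralizer ({z} : Set G) :=
    sup_le (Subgroup.zpowers_le.2 hyH) h.le_centralizer
  have h0 := Ψ.T_univ_eq_zero hres y
  rw [Ψ.T_sdiff (Finset.subset_univ {base z}), Ψ.T_base hyH] at h0
  rw [Ψ.T_eq_zero_of_orbits (Subgroup.zpowers y ⊔ E) (Finset.univ \ {base z})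
    (fun s hs q hq => ?_) (fun q hq => ?_), add_zero] at h0
  · exact h0
  · simp only [Finset.mem_sdiff, Finset.mem_univ, Finset.mem_singleton, true_and] at hq ⊢
    exact smul_ne_base h (hSH hs) hq
  · simp only [Finset.mem_sdiff, Finset.mem_univ, Finset.mem_singleton, true_and] at hq
    exact T_orb_eq_zero h Ψ hA hB _ hS hSH (Subgroup.mem_sup_right h.z_mem) q hq
      (fun _ => le_sup_right) y (Subgroup.mem_sup_left (Subgroup.mem_zpowers y))

end Transfer

end Data

end CfsgLib.Transfer.LargeExtra
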