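import Cfsg.Agent.Lib.Transfer.Conj
import Mathlib.GroupTheory.Transfer
import Mathlib.Data.Fintype.Lattice

/-!
# Abelian Hall subgroups: conjugacy and Burnside transfer
-/

namespace CfsgLib.Transfer

open Subgroup
open scoped IsMulCommutative

variable {G : Type*} [Group G] [Finite G]

private theorem exists_sylow_le_hall {p : ℕ} [Fact p.Prime] {H S : Subgroup G}
    (hS : S ≤ H) (hSp : IsPGroup p S) (hHall : ¬ p ∣ H.index) :
    ∃ P : Sylow p G, S ≤ (P : Subgroup G) ∧ (P : Subgroup G) ≤ H := by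
  obtain ⟨T, hST, hTH, hTp, hTi⟩ := exists_sylow_of_le hS hSp
  refine ⟨hTp.toSylow ?_, hST, hTH⟩
  intro hd
  rw [← relIndex_mul_index hTH] at hd
  exact ((Fact.out : p.Prime).dvd_mul.mp hd).elim hTi hHall

/-- Abelian Hall subgroups of the same order are conjugate. -/
theorem exists_conj_of_abelian_hall (H K : Subgroup G) [IsMulCommutative H] [IsMulCommutative K]
    (hcard : Nat.card H = Nat.card K) (hHall : Nat.Coprime (Nat.card H) H.index) :
    ∃ g : G, K.map (MulAut.conj g).toMonoidHom = H := by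
  classical
  obtain ⟨g, hg⟩ := Finite.exists_max
    fun g : G => Nat.card (H ⊓ K.map (MulAut.conj g).toMonoidHom : Subgroup G)
  set L := K.map (MulAut.conj g).toMonoidHom with hL
  set S := H ⊓ L with hS
  have hLcard : Nat.card L = Nat.card H := (card_map_conj g K).trans hcard.symm
  refine ⟨g, ?_⟩
  by_cases hSH : S = H
  · exact (eq_of_le_of_card_ge (hSH ▸ inf_le_right) hLcard.le).symm
  exfalso
  have hrel : S.relIndex H ≠ 1 := fun h => hSH (le_antisymm inf_le_left (relIndex_eq_one.mp h))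
  obtain ⟨p, hp, hpd⟩ := Nat.exists_prime_and_dvd hrel
  have := Fact.mk hp
  have hpH : p ∣ Nat.card H := hpd.trans (relIndex_dvd_card _ _)
  have hnd : ¬ p ∣ H.index := fun h => hp.not_dvd_one (hHall.gcd_eq_one ▸ Nat.dvd_gcd hpH h)
  have hnd' : ¬ p ∣ L.index := by
    have h1 := L.card_mul_index
    rw [hLcard, ← H.card_mul_index] at h1
    rwa [Nat.eq_of_mul_eq_mul_left Nat.card_pos h1]
  obtain ⟨P, -, hPH⟩ := exists_sylow_le_hall (bot_le (a := H)) (IsPGroup.of_bot (p := p)) hnd
  obtain ⟨Q, -, hQL⟩ := exists_sylow_le_hall (bot_le (a := L)) (IsPGroup.of_bot (p := p)) hnd'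
  have hcent : ∀ A : Subgroup G, IsMulCommutative A → S ≤ A →
      A ≤ Subgroup.centralizer (S : Set G) := fun A hA hle x hx =>
    mem_centralizer_iff.mpr fun y hy =>
      congrArg Subtype.val (hA.is_comm.comm ⟨y, hle hy⟩ ⟨x, hx⟩)
  have hLcomm : IsMulCommutative L := Subgroup.map_isMulCommutative K _
  have hPC := hPH.trans (hcent H ‹_› inf_le_left)
  have hQC := hQL.trans (hcent L hLcomm inf_le_right)
  obtain ⟨c, hc⟩ := MulAction.exists_smul_eq (Subgroup.centralizer (S : Set G))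
    (Q.subtype hQC) (P.subtype hPC)
  simp_rw [Sylow.smul_subtype, Subgroup.smul_def] at hc
  replace hc := Sylow.subtype_injective hc
  -- the new conjugate meets `H` in more than `S`
  have hle : S ⊔ (P : Subgroup G) ≤ H ⊓ K.map (MulAut.conj ((c : G) * g)).toMonoidHom := by
    have hmem : ∀ x, (c : G)⁻¹ * x * c ∈ L → x ∈ K.map (MulAut.conj ((c : G) * g)).toMonoidHom := by
      intro x hx
      rw [hL, mem_map_conj] at hx
      rw [mem_map_conj]
      simpa [mul_assoc] using hx
    refine sup_le (le_inf inf_le_left fun x hx => hmem x ?_) (le_inf hPH fun x hx => hmem x ?_)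
    · have hxc : x * (c : G) = c * x := mem_centralizer_iff.mp c.2 x hx
      rw [mul_assoc, hxc, inv_mul_cancel_left]
      exact hx.2
    · rw [← hc, mem_sylow_smul] at hx
      exact hQL hx
  have hPS : ¬ (P : Subgroup G) ≤ S := fun hle' => by
    have h1 : S.relIndex H ∣ (P : Subgroup G).relIndex H := relIndex_dvd_of_le_left H hle'
    exact P.not_dvd_index ((hpd.trans h1).trans (relIndex_dvd_index_of_le hPH))
  have hlt : S < S ⊔ (P : Subgroup G) :=
    lt_of_le_of_ne le_sup_left fun h => hPS (h.symm ▸ le_sup_right)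
  have h1 := card_lt_of_lt (lt_of_lt_of_le hlt hle)
  exact absurd (hg ((c : G) * g)) (not_le.mpr h1)

/-- An abelian Hall subgroup central in its normalizer has a normal complement. -/
theorem exists_normal_complement_of_abelian_hall (H : Subgroup G)
    (hHall : Nat.Coprime (Nat.card H) H.index)
    (h : Subgroup.normalizer (H : Set G) ≤ Subgroup.centralizer (H : Set G)) :
    ∃ N : Subgroup G, N.Normal ∧ N.IsComplement' H := by
  have hcomm : IsMulCommutative H :=
    ⟨⟨fun a b => Subtype.ext (mem_centralizer_iff.mp (h (le_normalizer b.2)) a a.2)⟩⟩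
  have key : ∀ x ∈ H, ∀ g₀ : G, g₀⁻¹ * x * g₀ ∈ H → g₀⁻¹ * x * g₀ = x := by
    intro x hx g₀ hy
    set W := Subgroup.centralizer ({x} : Set G)
    have hHW : H ≤ W := fun a ha => mem_centralizer_iff.mpr fun b hb => by
      rw [Set.mem_singleton_iff.mp hb]
      exact congrArg Subtype.val (hcomm.is_comm.comm ⟨x, hx⟩ ⟨a, ha⟩)
    have hKW : H.map (MulAut.conj g₀).toMonoidHom ≤ W := by
      rintro _ ⟨a, ha, rfl⟩
      refine mem_centralizer_iff.mpr fun b hb => ?_
      rw [Set.mem_singleton_iff.mp hb]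
      have h1 : (g₀⁻¹ * x * g₀) * a = a * (g₀⁻¹ * x * g₀) :=
        congrArg Subtype.val (hcomm.is_comm.comm ⟨_, hy⟩ ⟨a, ha⟩)
      show x * (g₀ * a * g₀⁻¹) = g₀ * a * g₀⁻¹ * x
      calc x * (g₀ * a * g₀⁻¹) = g₀ * ((g₀⁻¹ * x * g₀) * a) * g₀⁻¹ := by group
        _ = g₀ * (a * (g₀⁻¹ * x * g₀)) * g₀⁻¹ := by rw [h1]
        _ = _ := by group
    have hc1 : Nat.card (H.subgroupOf W) = Nat.card H :=
      Nat.card_congr (subgroupOfEquivOfLe hHW).toEquiv
    have hc2 : Nat.card ((H.map (MulAut.conj g₀).toMonoidHom).subgroupOf W) = Nat.card H :=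
      (Nat.card_congr (subgroupOfEquivOfLe hKW).toEquiv).trans (card_map_conj _ _)
    have : IsMulCommutative (H.map (MulAut.conj g₀).toMonoidHom) :=
      Subgroup.map_isMulCommutative H _
    obtain ⟨c, hc⟩ := exists_conj_of_abelian_hall (H.subgroupOf W)
      ((H.map (MulAut.conj g₀).toMonoidHom).subgroupOf W) (hc1.trans hc2.symm)
      (by rw [hc1]; exact hHall.coprime_dvd_right (relIndex_dvd_index_of_le hHW))
    have hn : (c : G) * g₀ ∈ Subgroup.normalizer (H : Set G) := by
      rw [← map_conj_eq_self_iff]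
      refine eq_of_le_of_card_ge ?_ (card_map_conj _ _).ge
      rintro _ ⟨a, ha, rfl⟩
      have h1 : (⟨g₀ * a * g₀⁻¹, hKW (conj_mem_map_conj ha)⟩ : W) ∈
          (H.map (MulAut.conj g₀).toMonoidHom).subgroupOf W :=
        mem_subgroupOf.mpr (conj_mem_map_conj ha)
      have h2 := mem_subgroupOf.mp (hc ▸ conj_mem_map_conj (g := c) h1)
      simpa [mul_assoc] using h2
    have h1 := mem_centralizer_iff.mp (h hn) _ hy
    have h2 : x * (c : G) = c * x := mem_centralizer_iff.mp c.2 x rfl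
    calc g₀⁻¹ * x * g₀ = ((g₀⁻¹ * x * g₀) * ((c : G) * g₀)) * ((c : G) * g₀)⁻¹ := by group
      _ = (((c : G) * g₀) * (g₀⁻¹ * x * g₀)) * ((c : G) * g₀)⁻¹ := by rw [h1]
      _ = ((c : G) * x) * (c : G)⁻¹ := by group
      _ = x := by rw [← h2]; group
  set τ := MonoidHom.transfer (MonoidHom.id H) with hτ
  have hpow : ∀ x : H, τ x = x ^ H.index := by
    intro x
    rw [hτ, MonoidHom.transfer_eq_pow _ _ fun k g₀ hk => key _ (pow_mem x.2 k) g₀ hk]
    exact Subtype.ext rfl
  refine ⟨τ.ker, inferInstance, ?_⟩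
  refine isComplement'_of_disjoint_and_mul_eq_univ (disjoint_iff.mpr (eq_bot_iff.mpr ?_))
    (Set.eq_univ_iff_forall.mpr fun g => ?_)
  · rintro x ⟨hx1, hx2⟩
    have h1 : (⟨x, hx2⟩ : H) ^ H.index = 1 := (hpow ⟨x, hx2⟩).symm.trans hx1
    have h3 := (powCoprime hHall).injective
      (show powCoprime hHall ⟨x, hx2⟩ = powCoprime hHall 1 by simpa using h1)
    exact Subgroup.mem_bot.mpr (congrArg Subtype.val h3)
  · set y := (powCoprime hHall).symm (τ g)
    have hy : τ (y : G) = τ g := (hpow y).trans ((powCoprime hHall).apply_symm_apply _)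
    exact Set.mem_mul.mpr ⟨g * (y : G)⁻¹, by
      rw [SetLike.mem_coe, MonoidHom.mem_ker, map_mul, map_inv, hy, mul_inv_cancel],
      y, y.2, by group⟩

end CfsgLib.Transfer
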