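import Mathlib
import Cfsg.Agent.Lib.PGroups.Extraspecial

/-!
Uniqueness of extraspecial groups: gluing an isomorphism along a non-commuting pair, extraspecial
groups of exponent `p`, and the at most two extraspecial `2`-groups of a given order.
-/

set_option autoImplicit false

namespace CfsgLib.Transfer

open Subgroup
open scoped commutatorElement

universe u v w

/-- the centre is `⟨z⟩` of order `p` and contains all commutators and `p`-th powers -/
structure CentralPrime (p : ℕ) (E : Type*) [Group E] (z : E) : Prop where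
  order : orderOf z = p
  center_eq : center E = zpowers z
  comm : ∀ a b : E, ⁅a, b⁆ ∈ zpowers z
  powMem : ∀ a : E, a ^ p ∈ zpowers z

namespace CentralPrime

variable {p : ℕ} {E : Type*} [Group E] {z x y : E}

theorem z_mem (h : CentralPrime p E z) : z ∈ center E := h.center_eq ▸ mem_zpowers z

theorem comm_center (h : CentralPrime p E z) (a b : E) : ⁅a, b⁆ ∈ center E :=
  h.center_eq ▸ h.comm a b

theorem z_comm (h : CentralPrime p E z) (k : ℤ) (a : E) : a * z ^ k = z ^ k * a :=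
  mem_center_iff.mp (zpow_mem h.z_mem k) a

theorem of_extraspecial [Finite E] [hp : Fact p.Prime] (hE : Cfsg.IsExtraspecial p E)
    (hz : z ∈ center E) (hz1 : z ≠ 1) : CentralPrime p E z := by
  have hZ : center E = zpowers z :=
    (CfsgLib.PGroups.IsExtraspecial.eq_center_of_le hE (zpowers_le.mpr hz)
      (zpowers_ne_bot.mpr hz1)).symm
  refine ⟨?_, hZ, fun a b => hZ ▸ CfsgLib.PGroups.IsExtraspecial.comm_mem hE a b,
    fun a => hZ ▸ CfsgLib.PGroups.IsExtraspecial.pow_mem_center hE a⟩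
  exact orderOf_eq_prime (CfsgLib.PGroups.IsExtraspecial.center_pow hE hz) hz1

theorem comm_left (h : CentralPrime p E z) (a b c : E) : ⁅a * b, c⁆ = ⁅a, c⁆ * ⁅b, c⁆ :=
  map_mul (CfsgLib.PGroups.commHom h.comm_center c) a b

theorem comm_zpow_left (h : CentralPrime p E z) (a c : E) (k : ℤ) : ⁅a ^ k, c⁆ = ⁅a, c⁆ ^ k :=
  map_zpow (CfsgLib.PGroups.commHom h.comm_center c) a k

theorem comm_inv_left (h : CentralPrime p E z) (a c : E) : ⁅a⁻¹, c⁆ = ⁅a, c⁆⁻¹ :=
  map_inv (CfsgLib.PGroups.commHom h.comm_center c) a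

theorem comm_zpow_right (h : CentralPrime p E z) (a c : E) (k : ℤ) : ⁅a, c ^ k⁆ = ⁅a, c⁆ ^ k := by
  rw [← commutatorElement_inv (c ^ k) a, h.comm_zpow_left, ← inv_zpow, commutatorElement_inv]

theorem swap (h : CentralPrime p E z) (hxy : ⁅x, y⁆ = z) (a b : ℤ) :
    y ^ b * x ^ a = x ^ a * y ^ b * z ^ (-(a * b)) := by
  have h1 : ⁅x ^ a, y ^ b⁆ = z ^ (a * b) := by
    rw [h.comm_zpow_left, h.comm_zpow_right, hxy, ← zpow_mul, mul_comm]
  rw [h.z_comm, zpow_neg, ← h1, commutatorElement_def]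
  group

/-- the centraliser of a pair -/
def pairCent (x y : E) : Subgroup E := centralizer ({x, y} : Set E)

omit [Group E] in
theorem _root_.CfsgLib.Transfer.mem_pair {x y a : E} (h : a ∈ ({x, y} : Set E)) :
    a = x ∨ a = y := h

theorem mem_pairCent {x y c : E} : c ∈ pairCent x y ↔ ⁅c, x⁆ = 1 ∧ ⁅c, y⁆ = 1 := by
  simp only [pairCent, mem_centralizer_iff, commutatorElement_eq_one_iff_mul_comm]
  constructor
  · exact fun h => ⟨(h x (Or.inl rfl)).symm, (h y (Or.inr rfl)).symm⟩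
  · rintro ⟨h1, h2⟩ a (rfl | rfl)
    · exact h1.symm
    · exact h2.symm

theorem center_le_pairCent (x y : E) : center E ≤ pairCent x y := center_le_centralizer _

theorem decomp (h : CentralPrime p E z) (hxy : ⁅x, y⁆ = z) (e : E) :
    ∃ a b : ℤ, ∃ c ∈ pairCent x y, e = x ^ a * y ^ b * c := by
  obtain ⟨a, ha⟩ := mem_zpowers_iff.mp (h.comm e y)
  obtain ⟨b, hb⟩ := mem_zpowers_iff.mp (h.comm e x)
  have hyx : ⁅y, x⁆ = z⁻¹ := by rw [← commutatorElement_inv, hxy]
  refine ⟨a, -b, (x ^ a * y ^ (-b))⁻¹ * e, mem_pairCent.mpr ⟨?_, ?_⟩, by group⟩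
  · rw [h.comm_left, h.comm_inv_left, h.comm_left, h.comm_zpow_left, h.comm_zpow_left,
      commutatorElement_self, one_zpow, one_mul, hyx, inv_zpow, zpow_neg, inv_inv, ← hb,
      inv_mul_cancel]
  · rw [h.comm_left, h.comm_inv_left, h.comm_left, h.comm_zpow_left, h.comm_zpow_left,
      commutatorElement_self, one_zpow, mul_one, hxy, ← ha, inv_mul_cancel]

theorem comm_decomp (h : CentralPrime p E z) (hxy : ⁅x, y⁆ = z) {a b : ℤ} {c : E}
    (hc : c ∈ pairCent x y) :
    ⁅x ^ a * y ^ b * c, y⁆ = z ^ a ∧ ⁅x ^ a * y ^ b * c, x⁆ = z ^ (-b) := by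
  obtain ⟨h1, h2⟩ := mem_pairCent.mp hc
  have hyx : ⁅y, x⁆ = z⁻¹ := by rw [← commutatorElement_inv, hxy]
  constructor
  · rw [h.comm_left, h.comm_left, h.comm_zpow_left, h.comm_zpow_left, commutatorElement_self,
      one_zpow, h2, hxy, mul_one, mul_one]
  · rw [h.comm_left, h.comm_left, h.comm_zpow_left, h.comm_zpow_left, commutatorElement_self,
      one_zpow, h1, hyx, mul_one, one_mul, inv_zpow, zpow_neg]

theorem pow_mem_pairCent (h : CentralPrime p E z) (a : E) : a ^ p ∈ pairCent x y :=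
  center_le_pairCent x y (h.center_eq.ge (h.powMem a))

theorem z_mem_pairCent (h : CentralPrime p E z) : z ∈ pairCent x y :=
  center_le_pairCent x y h.z_mem

/-- the centraliser of a non-commuting pair inherits the hypothesis -/
theorem pair (h : CentralPrime p E z) (hxy : ⁅x, y⁆ = z) :
    CentralPrime p (pairCent x y) ⟨z, h.z_mem_pairCent⟩ := by
  refine ⟨by rw [← Subgroup.orderOf_coe]; exact h.order, ?_, fun a b => ?_, fun a => ?_⟩
  · apply le_antisymm
    · intro d hd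
      have hd' : (d : E) ∈ center E := by
        refine mem_center_iff.mpr fun e => ?_
        obtain ⟨a, b, c, hc, rfl⟩ := h.decomp hxy e
        obtain ⟨h1, h2⟩ := mem_pairCent.mp d.2
        have hc1 : Commute (d : E) x := commutatorElement_eq_one_iff_mul_comm.mp h1
        have hc2 : Commute (d : E) y := commutatorElement_eq_one_iff_mul_comm.mp h2
        have hc3 : Commute (d : E) c :=
          (congrArg Subtype.val (mem_center_iff.mp hd ⟨c, hc⟩)).symm
        exact (((hc1.zpow_right a).mul_right (hc2.zpow_right b)).mul_right hc3).eq.symm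
      rw [h.center_eq] at hd'
      obtain ⟨k, hk⟩ := mem_zpowers_iff.mp hd'
      exact mem_zpowers_iff.mpr ⟨k, Subtype.ext (by simpa using hk)⟩
    · refine zpowers_le.mpr (mem_center_iff.mpr fun a => Subtype.ext ?_)
      exact mem_center_iff.mp h.z_mem a
  · obtain ⟨k, hk⟩ := mem_zpowers_iff.mp (h.comm (a : E) b)
    exact mem_zpowers_iff.mpr ⟨k, Subtype.ext (by simpa [commutatorElement_def] using hk)⟩
  · obtain ⟨k, hk⟩ := mem_zpowers_iff.mp (h.powMem (a : E))
    exact mem_zpowers_iff.mpr ⟨k, Subtype.ext (by simpa using hk)⟩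

theorem card_pair [Finite E] (h : CentralPrime p E z) (hxy : ⁅x, y⁆ = z) :
    Nat.card E = p * p * Nat.card (pairCent x y) := by
  let f : E →* E × E := (CfsgLib.PGroups.commHom h.comm_center x).prod
    (CfsgLib.PGroups.commHom h.comm_center y)
  have hf : ∀ e, f e = (⁅e, x⁆, ⁅e, y⁆) := fun _ => rfl
  have hker : f.ker = pairCent x y := by
    ext c; rw [MonoidHom.mem_ker, hf, Prod.mk_eq_one, mem_pairCent]
  have hrange : f.range = (zpowers z).prod (zpowers z) := by
    apply le_antisymm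
    · rintro _ ⟨e, rfl⟩
      rw [hf]; exact ⟨h.comm e x, h.comm e y⟩
    · rintro ⟨u, w⟩ ⟨hu, hw⟩
      obtain ⟨i, rfl⟩ := mem_zpowers_iff.mp hu
      obtain ⟨j, rfl⟩ := mem_zpowers_iff.mp hw
      obtain ⟨h1, h2⟩ := h.comm_decomp hxy (a := j) (b := -i) (one_mem _)
      exact ⟨x ^ j * y ^ (-i) * 1, by rw [hf, h1, h2, neg_neg]⟩
  rw [← hker, ← f.ker.index_mul_card, Subgroup.index_ker, hrange,
    Nat.card_congr ((zpowers z).prodEquiv (zpowers z)).toEquiv, Nat.card_prod, Nat.card_zpowers,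
    h.order]

end CentralPrime

theorem shift {G : Type*} [Group G] {p : ℕ} (a₁ b₁ k l : ℤ) (u v d : G)
    (huv : Commute (u ^ p) v) :
    u ^ (a₁ + (p : ℤ) * k) * v ^ (b₁ + (p : ℤ) * (-l)) * d =
      u ^ a₁ * v ^ b₁ * ((u ^ p) ^ k * (v ^ p) ^ (-l) * d) := by
  rw [zpow_add, zpow_add, zpow_mul, zpow_mul, zpow_natCast, zpow_natCast]
  calc u ^ a₁ * (u ^ p) ^ k * (v ^ b₁ * (v ^ p) ^ (-l)) * d
      = u ^ a₁ * ((u ^ p) ^ k * v ^ b₁) * (v ^ p) ^ (-l) * d := by simp only [mul_assoc]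
    _ = _ := by rw [(huv.zpow_zpow k b₁).eq]; simp only [mul_assoc]

theorem normal_form_mul {G : Type*} [Group G] {p : ℕ} {ζ u v : G} (hG : CentralPrime p G ζ)
    (huv : ⁅u, v⁆ = ζ) (a₁ b₁ a₂ b₂ : ℤ) (d₁ d₂ : G) (h1 : Commute d₁ u) (h2 : Commute d₁ v) :
    (u ^ a₁ * v ^ b₁ * d₁) * (u ^ a₂ * v ^ b₂ * d₂) =
      u ^ (a₁ + a₂) * v ^ (b₁ + b₂) * (ζ ^ (-(a₂ * b₁)) * d₁ * d₂) := by
  have h3 : Commute d₁ (u ^ a₂ * v ^ b₂) := (h1.zpow_right _).mul_right (h2.zpow_right _)
  calc (u ^ a₁ * v ^ b₁ * d₁) * (u ^ a₂ * v ^ b₂ * d₂)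
      = u ^ a₁ * v ^ b₁ * (d₁ * (u ^ a₂ * v ^ b₂)) * d₂ := by simp only [mul_assoc]
    _ = u ^ a₁ * (v ^ b₁ * u ^ a₂) * v ^ b₂ * (d₁ * d₂) := by
          rw [h3.eq]; simp only [mul_assoc]
    _ = u ^ a₁ * u ^ a₂ * v ^ b₁ * (v ^ b₂ * ζ ^ (-(a₂ * b₁))) * (d₁ * d₂) := by
          rw [hG.swap huv, hG.z_comm _ (v ^ b₂)]; simp only [mul_assoc]
    _ = _ := by rw [zpow_add, zpow_add]; simp only [mul_assoc]

open CentralPrime in
theorem image_eq {p : ℕ} {E E' : Type*} [Group E] [Group E'] {z x y : E} {x' y' : E'}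
    {z' : E'} (h : CentralPrime p E z) (h' : CentralPrime p E' z') (hxy : ⁅x, y⁆ = z)
    (hxy' : ⁅x', y'⁆ = z')
    (ψ : pairCent x y →* pairCent x' y')
    (hx : (ψ ⟨x ^ p, h.pow_mem_pairCent x⟩ : E') = x' ^ p)
    (hy : (ψ ⟨y ^ p, h.pow_mem_pairCent y⟩ : E') = y' ^ p)
    {a b a₁ b₁ : ℤ} {c c₁ : pairCent x y} (he : x ^ a * y ^ b * c = x ^ a₁ * y ^ b₁ * c₁) :
    x' ^ a * y' ^ b * (ψ c : E') = x' ^ a₁ * y' ^ b₁ * ψ c₁ := by
  obtain ⟨ha, hb⟩ := h.comm_decomp hxy (a := a) (b := b) c.2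
  obtain ⟨ha1, hb1⟩ := h.comm_decomp hxy (a := a₁) (b := b₁) c₁.2
  rw [he, ha1] at ha
  rw [he, hb1] at hb
  rw [zpow_eq_zpow_iff_modEq, h.order, Int.modEq_iff_dvd] at ha hb
  obtain ⟨k, hk⟩ := ha
  obtain ⟨l, hl⟩ := hb
  obtain rfl : a = a₁ + p * k := by omega
  obtain rfl : b = b₁ + p * (-l) := by
    have : (p : ℤ) * (-l) = -(p * l) := by ring
    omega
  have hxc : Commute (x ^ p) y :=
    (mem_center_iff.mp (h.center_eq.ge (h.powMem x)) y).symm
  have hxc' : Commute (x' ^ p) y' :=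
    (mem_center_iff.mp (h'.center_eq.ge (h'.powMem x')) y').symm
  rw [shift a₁ b₁ k l x y (c : E) hxc, mul_right_inj] at he
  have he' : (⟨x ^ p, h.pow_mem_pairCent x⟩ : pairCent x y) ^ k *
      ⟨y ^ p, h.pow_mem_pairCent y⟩ ^ (-l) * c = c₁ := Subtype.ext (by simpa using he)
  have := congrArg (fun d : pairCent x' y' => (d : E')) (congrArg ψ he')
  simp only [map_mul, map_zpow, Subgroup.coe_mul, SubgroupClass.coe_zpow, hx, hy] at this
  rw [shift a₁ b₁ k l x' y' _ hxc', this]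

open CentralPrime in
/-- an isomorphism between the centralisers of non-commuting pairs extends to the groups -/
theorem glue {p : ℕ} {E E' : Type*} [Group E] [Group E'] {z x y : E} {x' y' : E'} {z' : E'}
    (h : CentralPrime p E z) (h' : CentralPrime p E' z') (hxy : ⁅x, y⁆ = z)
    (hxy' : ⁅x', y'⁆ = z') (ψ : pairCent x y ≃* pairCent x' y')
    (hz : (ψ ⟨z, h.z_mem_pairCent⟩ : E') = z')
    (hx : (ψ ⟨x ^ p, h.pow_mem_pairCent x⟩ : E') = x' ^ p)
    (hy : (ψ ⟨y ^ p, h.pow_mem_pairCent y⟩ : E') = y' ^ p) :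
    ∃ φ : E ≃* E', φ z = z' := by
  choose a b c hc he using h.decomp hxy
  let Φ : E → E' := fun e => x' ^ a e * y' ^ b e * (ψ ⟨c e, hc e⟩ : E')
  have hΦ : ∀ (i j : ℤ) (d : pairCent x y), Φ (x ^ i * y ^ j * d) = x' ^ i * y' ^ j * ψ d :=
    fun i j d => image_eq h h' hxy hxy' ψ.toMonoidHom hx hy (he _).symm
  have hmul : ∀ e₁ e₂, Φ (e₁ * e₂) = Φ e₁ * Φ e₂ := by
    intro e₁ e₂
    set a₁ := a e₁; set b₁ := b e₁; set c₁ : pairCent x y := ⟨c e₁, hc e₁⟩
    set a₂ := a e₂; set b₂ := b e₂; set c₂ : pairCent x y := ⟨c e₂, hc e₂⟩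
    have e1 : e₁ = x ^ a₁ * y ^ b₁ * c₁ := he e₁
    have e2 : e₂ = x ^ a₂ * y ^ b₂ * c₂ := he e₂
    have hcm : ∀ (d : pairCent x y), Commute (d : E) x ∧ Commute (d : E) y := fun d =>
      ⟨commutatorElement_eq_one_iff_mul_comm.mp (mem_pairCent.mp d.2).1,
        commutatorElement_eq_one_iff_mul_comm.mp (mem_pairCent.mp d.2).2⟩
    have hcm' : ∀ (d : pairCent x' y'), Commute (d : E') x' ∧ Commute (d : E') y' := fun d =>
      ⟨commutatorElement_eq_one_iff_mul_comm.mp (mem_pairCent.mp d.2).1,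
        commutatorElement_eq_one_iff_mul_comm.mp (mem_pairCent.mp d.2).2⟩
    have hprod : e₁ * e₂ = x ^ (a₁ + a₂) * y ^ (b₁ + b₂) *
        (((⟨z, h.z_mem_pairCent⟩ : pairCent x y) ^ (-(a₂ * b₁)) * c₁ * c₂ : pairCent x y) : E) := by
      rw [e1, e2, normal_form_mul h hxy _ _ _ _ _ _ (hcm c₁).1 (hcm c₁).2]
      simp only [Subgroup.coe_mul, SubgroupClass.coe_zpow]
    rw [hprod, hΦ]
    show _ = (x' ^ a₁ * y' ^ b₁ * (ψ c₁ : E')) * (x' ^ a₂ * y' ^ b₂ * (ψ c₂ : E'))
    rw [normal_form_mul h' hxy' _ _ _ _ _ _ (hcm' (ψ c₁)).1 (hcm' (ψ c₁)).2]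
    simp only [map_mul, map_zpow, Subgroup.coe_mul, SubgroupClass.coe_zpow, hz]
  let F : E →* E' := MonoidHom.mk' Φ hmul
  have hF : Function.Bijective F := by
    constructor
    · intro e₁ e₂ hee
      rw [he e₁, he e₂]
      have := image_eq h' h hxy' hxy ψ.symm.toMonoidHom (by
          have : ψ ⟨x ^ p, h.pow_mem_pairCent x⟩ = ⟨x' ^ p, h'.pow_mem_pairCent x'⟩ :=
            Subtype.ext hx
          rw [MulEquiv.coe_toMonoidHom, ← this, MulEquiv.symm_apply_apply]) (by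
          have : ψ ⟨y ^ p, h.pow_mem_pairCent y⟩ = ⟨y' ^ p, h'.pow_mem_pairCent y'⟩ :=
            Subtype.ext hy
          rw [MulEquiv.coe_toMonoidHom, ← this, MulEquiv.symm_apply_apply])
        (a := a e₁) (b := b e₁) (a₁ := a e₂) (b₁ := b e₂) (c := ψ ⟨c e₁, hc e₁⟩)
        (c₁ := ψ ⟨c e₂, hc e₂⟩) hee
      simpa using this
    · intro e'
      obtain ⟨i, j, d, hd, rfl⟩ := h'.decomp hxy' e'
      exact ⟨x ^ i * y ^ j * (ψ.symm ⟨d, hd⟩ : E), (hΦ i j _).trans (by simp)⟩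
  refine ⟨MulEquiv.ofBijective F hF, ?_⟩
  show Φ z = z'
  have := hΦ 0 0 ⟨z, h.z_mem_pairCent⟩
  simpa [hz] using this

theorem center_cyclic_case {p : ℕ} {E E' : Type*} [Group E] [Group E'] [Finite E] [Finite E']
    [hp : Fact p.Prime] {z : E} {z' : E'} (h : CentralPrime p E z) (h' : CentralPrime p E' z')
    (hc : Nat.card E = p) (hcard : Nat.card E = Nat.card E') : ∃ φ : E ≃* E', φ z = z' := by
  have hz : ∀ e : E, e ∈ zpowers z := fun e => by
    rw [eq_top_of_card_eq (zpowers z) (by rw [Nat.card_zpowers, h.order, hc])]; exact mem_top e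
  have hz' : ∀ e : E', e ∈ zpowers z' := fun e => by
    rw [eq_top_of_card_eq (zpowers z') (by rw [Nat.card_zpowers, h'.order, ← hcard, hc])]
    exact mem_top e
  exact ⟨mulEquivOfOrderOfEq hz hz' (h.order.trans h'.order.symm), mulEquivOfOrderOfEq_apply_gen _ _ _⟩

theorem exists_pair {p : ℕ} {E : Type*} [Group E] [Finite E] [hp : Fact p.Prime] {z : E}
    (h : CentralPrime p E z) {x : E} (hx : x ∉ center E) : ∃ y : E, ⁅x, y⁆ = z := by
  obtain ⟨y, hy⟩ : ∃ y : E, ⁅x, y⁆ ≠ 1 := by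
    by_contra hc
    push Not at hc
    exact hx (mem_center_iff.mpr fun g => (commutatorElement_eq_one_iff_mul_comm.mp (hc g)).symm)
  have hgen : zpowers ⁅x, y⁆ = zpowers z := by
    refine eq_of_le_of_card_ge (zpowers_le.mpr (h.comm x y)) ?_
    rw [Nat.card_zpowers, Nat.card_zpowers, h.order]
    have hd := Subgroup.orderOf_dvd_natCard (zpowers z) (h.comm x y)
    rw [Nat.card_zpowers, h.order] at hd
    rcases (Nat.dvd_prime hp.out).mp hd with h1 | h1
    · exact absurd (orderOf_eq_one_iff.mp h1) hy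
    · exact h1.ge
  obtain ⟨k, hk⟩ := mem_zpowers_iff.mp (hgen ▸ mem_zpowers z : z ∈ zpowers ⁅x, y⁆)
  exact ⟨y ^ k, by rw [h.comm_zpow_right, hk]⟩

/-- central-prime groups of exponent `p` are determined by their order -/
theorem centralPrime_exponent_unique {p : ℕ} [hp : Fact p.Prime] :
    ∀ (n : ℕ) (E : Type u) (E' : Type v) [Group E] [Group E'] [Finite E] [Finite E'] (z : E)
      (z' : E'), Nat.card E = n → Nat.card E' = n → CentralPrime p E z → CentralPrime p E' z' →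
      (∀ a : E, a ^ p = 1) → (∀ a : E', a ^ p = 1) → ∃ φ : E ≃* E', φ z = z' := by
  intro n
  induction n using Nat.strong_induction_on with
  | _ n ih =>
    intro E E' _ _ _ _ z z' hE hE' h h' he he'
    have hZ : Nat.card (center E) = p := by rw [h.center_eq, Nat.card_zpowers, h.order]
    have hZ' : Nat.card (center E') = p := by rw [h'.center_eq, Nat.card_zpowers, h'.order]
    by_cases hn : n = p
    · exact center_cyclic_case h h' (hE.trans hn) (hE.trans hE'.symm)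
    obtain ⟨x, hx⟩ : ∃ x : E, x ∉ center E := by
      by_contra hc
      push Not at hc
      exact hn (by rw [← hE, ← hZ, (eq_top_iff' _).mpr hc, card_top])
    obtain ⟨x', hx'⟩ : ∃ x : E', x ∉ center E' := by
      by_contra hc
      push Not at hc
      exact hn (by rw [← hE', ← hZ', (eq_top_iff' _).mpr hc, card_top])
    obtain ⟨y, hxy⟩ := exists_pair h hx
    obtain ⟨y', hxy'⟩ := exists_pair h' hx'
    have hc1 := h.card_pair hxy
    have hc2 := h'.card_pair hxy'
    have hlt : Nat.card (CentralPrime.pairCent x y) < n := by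
      rw [← hE, hc1]
      exact lt_mul_of_one_lt_left Nat.card_pos
        (one_lt_mul'' hp.out.one_lt hp.out.one_lt)
    have heq : Nat.card (CentralPrime.pairCent x' y') = Nat.card (CentralPrime.pairCent x y) :=
      (Nat.eq_of_mul_eq_mul_left (by positivity [hp.out.pos])
        (hc1.symm.trans (hE.trans (hE'.symm.trans hc2)))).symm
    obtain ⟨ψ, hψ⟩ := ih _ hlt _ _ _ _ rfl heq (h.pair hxy) (h'.pair hxy')
      (fun a => Subtype.ext (by simpa using he (a : E)))
      (fun a => Subtype.ext (by simpa using he' (a : E')))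
    have h1 : ∀ (w : E) (hw : w ∈ CentralPrime.pairCent x y), w = 1 →
        (ψ ⟨w, hw⟩ : E') = 1 := by
      rintro w hw rfl
      exact (congrArg Subtype.val (map_one ψ))
    exact glue h h' hxy hxy' ψ (congrArg Subtype.val hψ)
      (by rw [h1 _ _ (he x), he' x']) (by rw [h1 _ _ (he y), he' y'])

/-- For odd `p` an extraspecial group of exponent `p` is determined by its order. -/
theorem extraspecial_exponent_unique {p : ℕ} [hp : Fact p.Prime] {E : Type u} {E' : Type v}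
    [Group E] [Group E'] [Finite E] [Finite E'] (hE : Cfsg.IsExtraspecial p E)
    (hE' : Cfsg.IsExtraspecial p E') (he : Monoid.exponent E = p) (he' : Monoid.exponent E' = p)
    (hc : Nat.card E = Nat.card E') : Nonempty (E ≃* E') := by
  obtain ⟨z, hz, hz1⟩ := (bot_or_exists_ne_one (center E)).resolve_left fun h => by
    have := CfsgLib.PGroups.IsExtraspecial.card_center hE
    rw [h, card_bot] at this
    exact hp.out.ne_one this.symm
  obtain ⟨z', hz', hz1'⟩ := (bot_or_exists_ne_one (center E')).resolve_left fun h => by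
    have := CfsgLib.PGroups.IsExtraspecial.card_center hE'
    rw [h, card_bot] at this
    exact hp.out.ne_one this.symm
  obtain ⟨φ, -⟩ := centralPrime_exponent_unique (Nat.card E) E E' z z' rfl hc.symm
    (CentralPrime.of_extraspecial hE hz hz1) (CentralPrime.of_extraspecial hE' hz' hz1')
    (fun a => he ▸ Monoid.pow_exponent_eq_one a) (fun a => he' ▸ Monoid.pow_exponent_eq_one a)
  exact ⟨φ⟩

section two

variable {E : Type*} [Group E] [Finite E] {z : E}

theorem sq_cases (h : CentralPrime 2 E z) (a : E) : a ^ 2 = 1 ∨ a ^ 2 = z := by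
  obtain ⟨k, hk⟩ := mem_zpowers_iff.mp (h.powMem a)
  rw [← hk, ← zpow_mod_orderOf, h.order]
  rcases Int.emod_two_eq_zero_or_one k with h2 | h2 <;> simp [h2]

theorem comm_two (h : CentralPrime 2 E z) {x y : E} (hxy : ⁅x, y⁆ = z) : y * x = z * (x * y) := by
  have h1 : z * z = 1 := by rw [← pow_two, ← h.order, pow_orderOf_eq_one]
  have h2 : x * y = z * (y * x) := by rw [← hxy, commutatorElement_def]; group
  rw [h2, ← mul_assoc, h1, one_mul]

theorem mul_sq_two (h : CentralPrime 2 E z) {x y : E} (hxy : ⁅x, y⁆ = z) :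
    (y * x) ^ 2 = z * y ^ 2 * x ^ 2 := by
  have h2 : x * y = z * (y * x) := by
    rw [comm_two h hxy, ← mul_assoc, show z * z = 1 by rw [← pow_two, ← h.order,
      pow_orderOf_eq_one], one_mul]
  have hz : ∀ a, a * z = z * a := fun a => mem_center_iff.mp h.z_mem a
  calc (y * x) ^ 2 = y * (x * y) * x := by rw [pow_two]; simp only [mul_assoc]
    _ = y * z * (y * x) * x := by rw [h2]; simp only [mul_assoc]
    _ = _ := by rw [hz y, pow_two, pow_two]; simp only [mul_assoc]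

/-- An involution outside the centre lies in a dihedral pair. -/
theorem exists_dihedral_pair (h : CentralPrime 2 E z) {x : E} (hx : x ∉ center E)
    (hx2 : x ^ 2 = 1) : ∃ y, ⁅x, y⁆ = z ∧ y ^ 2 = 1 := by
  have : Fact (Nat.Prime 2) := ⟨Nat.prime_two⟩
  obtain ⟨y, hxy⟩ := exists_pair h hx
  rcases sq_cases h y with hy | hy
  · exact ⟨y, hxy, hy⟩
  refine ⟨y * x, ?_, ?_⟩
  · rw [← commutatorElement_inv, h.comm_left, commutatorElement_self, mul_one,
      commutatorElement_inv, hxy]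
  · rw [mul_sq_two h hxy, hy, hx2, mul_one, ← pow_two, ← h.order, pow_orderOf_eq_one]

/-- outside order `8` there is a noncentral involution -/
theorem exists_involution (h : CentralPrime 2 E z) (hcard : Nat.card E ≠ 2)
    (h8 : Nat.card E ≠ 8) : ∃ x ∉ center E, x ^ 2 = 1 := by
  have : Fact (Nat.Prime 2) := ⟨Nat.prime_two⟩
  have hZ : Nat.card (center E) = 2 := by rw [h.center_eq, Nat.card_zpowers, h.order]
  obtain ⟨x, hx⟩ : ∃ x : E, x ∉ center E := by
    by_contra hc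
    push Not at hc
    exact hcard (by rw [← hZ, (eq_top_iff' _).mpr hc, card_top])
  obtain ⟨y, hxy⟩ := exists_pair h hx
  obtain ⟨c, hc, hcz⟩ : ∃ c ∈ CentralPrime.pairCent x y, c ∉ center E := by
    by_contra hh
    push Not at hh
    refine h8 ?_
    rw [h.card_pair hxy, le_antisymm hh (CentralPrime.center_le_pairCent x y), hZ]
  rcases sq_cases h x with h1 | h1
  · exact ⟨x, hx, h1⟩
  rcases sq_cases h c with h2 | h2
  · exact ⟨c, hcz, h2⟩
  refine ⟨x * c, fun hh => ?_, ?_⟩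
  · have hd := (CentralPrime.mem_pairCent.mp hc).2
    have : ⁅x * c, y⁆ = 1 :=
      commutatorElement_eq_one_iff_mul_comm.mpr (mem_center_iff.mp hh y).symm
    rw [h.comm_left, hd, mul_one, hxy] at this
    have := h.order
    rw [‹z = 1›, orderOf_one] at this
    omega
  · have hcx : Commute x c :=
      (commutatorElement_eq_one_iff_mul_comm.mp (CentralPrime.mem_pairCent.mp hc).1).symm
    rw [hcx.mul_pow, h1, h2, ← pow_two, ← h.order, pow_orderOf_eq_one]

/-- In order 8 there is a pair with both squares trivial or both equal to `z`. -/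
theorem exists_pair_eight (h : CentralPrime 2 E z) (h8 : Nat.card E = 8) :
    ∃ x y : E, ⁅x, y⁆ = z ∧
      ((x ^ 2 = 1 ∧ y ^ 2 = 1) ∨ (x ^ 2 = z ∧ y ^ 2 = z)) := by
  have : Fact (Nat.Prime 2) := ⟨Nat.prime_two⟩
  by_cases hi : ∃ x ∉ center E, x ^ 2 = 1
  · obtain ⟨x, hx, hx2⟩ := hi
    obtain ⟨y, hxy, hy⟩ := exists_dihedral_pair h hx hx2
    exact ⟨x, y, hxy, Or.inl ⟨hx2, hy⟩⟩
  push Not at hi
  have hZ : Nat.card (center E) = 2 := by rw [h.center_eq, Nat.card_zpowers, h.order]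
  obtain ⟨x, hx⟩ : ∃ x : E, x ∉ center E := by
    by_contra hc
    push Not at hc
    rw [(eq_top_iff' _).mpr hc, card_top, h8] at hZ
    omega
  obtain ⟨y, hxy⟩ := exists_pair h hx
  have hy : y ∉ center E := fun hh => by
    rw [commutatorElement_eq_one_iff_mul_comm.mpr (mem_center_iff.mp hh x)] at hxy
    have := h.order
    rw [← hxy, orderOf_one] at this
    omega
  exact ⟨x, y, hxy, Or.inr ⟨(sq_cases h x).resolve_left (hi x hx),
    (sq_cases h y).resolve_left (hi y hy)⟩⟩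

end two

/-- gluing along pairs with matching squares -/
theorem glue_two {E E' : Type*} [Group E] [Group E'] [Finite E] [Finite E'] {z x y : E}
    {z' x' y' : E'} (h : CentralPrime 2 E z) (h' : CentralPrime 2 E' z') (hxy : ⁅x, y⁆ = z)
    (hxy' : ⁅x', y'⁆ = z') (ψ : CentralPrime.pairCent x y ≃* CentralPrime.pairCent x' y')
    (hz : ψ ⟨z, h.z_mem_pairCent⟩ = ⟨z', h'.z_mem_pairCent⟩)
    (hs : (x ^ 2 = 1 ∧ y ^ 2 = 1) ∧ (x' ^ 2 = 1 ∧ y' ^ 2 = 1) ∨
      (x ^ 2 = z ∧ y ^ 2 = z) ∧ (x' ^ 2 = z' ∧ y' ^ 2 = z')) :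
    ∃ φ : E ≃* E', φ z = z' := by
  have h1 : ∀ (w : E) (hw : w ∈ CentralPrime.pairCent x y), w = 1 → (ψ ⟨w, hw⟩ : E') = 1 := by
    rintro w hw rfl; exact congrArg Subtype.val (map_one ψ)
  have h2 : ∀ (w : E) (hw : w ∈ CentralPrime.pairCent x y), w = z → (ψ ⟨w, hw⟩ : E') = z' := by
    rintro w hw rfl; exact congrArg Subtype.val hz
  rcases hs with ⟨⟨a, b⟩, c, d⟩ | ⟨⟨a, b⟩, c, d⟩
  · exact glue h h' hxy hxy' ψ (congrArg Subtype.val hz) (by rw [h1 _ _ a, c]) (by rw [h1 _ _ b, d])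
  · exact glue h h' hxy hxy' ψ (congrArg Subtype.val hz) (by rw [h2 _ _ a, c]) (by rw [h2 _ _ b, d])

theorem centralPrime_two_at_most_two : ∀ (n : ℕ) (A : Type u) (B : Type v) (C : Type w)
    [Group A] [Group B] [Group C] [Finite A] [Finite B] [Finite C] (za : A) (zb : B) (zc : C),
    Nat.card A = n → Nat.card B = n → Nat.card C = n → CentralPrime 2 A za → CentralPrime 2 B zb →
    CentralPrime 2 C zc →
    (∃ φ : A ≃* B, φ za = zb) ∨ (∃ φ : B ≃* C, φ zb = zc) ∨ (∃ φ : A ≃* C, φ za = zc) := by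
  intro n
  induction n using Nat.strong_induction_on with
  | _ n ih =>
    intro A B C _ _ _ _ _ _ za zb zc hA hB hC ha hb hc
    have : Fact (Nat.Prime 2) := ⟨Nat.prime_two⟩
    by_cases h2 : n = 2
    · exact Or.inl (center_cyclic_case ha hb (hA.trans h2) (hA.trans hB.symm))
    by_cases h8 : n = 8
    · obtain ⟨xa, ya, hxa, ta⟩ := exists_pair_eight ha (hA.trans h8)
      obtain ⟨xb, yb, hxb, tb⟩ := exists_pair_eight hb (hB.trans h8)
      obtain ⟨xc, yc, hxc, tc⟩ := exists_pair_eight hc (hC.trans h8)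
      have ca := ha.card_pair hxa
      have cb := hb.card_pair hxb
      have cc := hc.card_pair hxc
      have ea : Nat.card (CentralPrime.pairCent xa ya) = 2 := by omega
      have eb : Nat.card (CentralPrime.pairCent xb yb) = 2 := by omega
      have ec : Nat.card (CentralPrime.pairCent xc yc) = 2 := by omega
      obtain ⟨pab, hab⟩ := center_cyclic_case (ha.pair hxa) (hb.pair hxb) ea (ea.trans eb.symm)
      obtain ⟨pbc, hbc⟩ := center_cyclic_case (hb.pair hxb) (hc.pair hxc) eb (eb.trans ec.symm)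
      obtain ⟨pac, hac⟩ := center_cyclic_case (ha.pair hxa) (hc.pair hxc) ea (ea.trans ec.symm)
      rcases ta with ta | ta <;> rcases tb with tb | tb
      · exact Or.inl (glue_two ha hb hxa hxb pab hab (Or.inl ⟨ta, tb⟩))
      · rcases tc with tc | tc
        · exact Or.inr (Or.inr (glue_two ha hc hxa hxc pac hac (Or.inl ⟨ta, tc⟩)))
        · exact Or.inr (Or.inl (glue_two hb hc hxb hxc pbc hbc (Or.inr ⟨tb, tc⟩)))
      · rcases tc with tc | tc
        · exact Or.inr (Or.inl (glue_two hb hc hxb hxc pbc hbc (Or.inl ⟨tb, tc⟩)))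
        · exact Or.inr (Or.inr (glue_two ha hc hxa hxc pac hac (Or.inr ⟨ta, tc⟩)))
      · exact Or.inl (glue_two ha hb hxa hxb pab hab (Or.inr ⟨ta, tb⟩))
    obtain ⟨xa, hxa1, hxa2⟩ := exists_involution ha (by omega) (by omega)
    obtain ⟨xb, hxb1, hxb2⟩ := exists_involution hb (by omega) (by omega)
    obtain ⟨xc, hxc1, hxc2⟩ := exists_involution hc (by omega) (by omega)
    obtain ⟨ya, hxa, hya⟩ := exists_dihedral_pair ha hxa1 hxa2
    obtain ⟨yb, hxb, hyb⟩ := exists_dihedral_pair hb hxb1 hxb2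
    obtain ⟨yc, hxc, hyc⟩ := exists_dihedral_pair hc hxc1 hxc2
    have ca := ha.card_pair hxa
    have cb := hb.card_pair hxb
    have cc := hc.card_pair hxc
    have hpos : 0 < Nat.card A := Nat.card_pos
    obtain ⟨φ, hφ⟩ | ⟨φ, hφ⟩ | ⟨φ, hφ⟩ :=
      ih (Nat.card (CentralPrime.pairCent xa ya)) (by omega) _ _ _ _ _ _ rfl (by omega) (by omega)
        (ha.pair hxa) (hb.pair hxb) (hc.pair hxc)
    · exact Or.inl (glue_two ha hb hxa hxb φ hφ (Or.inl ⟨⟨hxa2, hya⟩, hxb2, hyb⟩))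
    · exact Or.inr (Or.inl (glue_two hb hc hxb hxc φ hφ (Or.inl ⟨⟨hxb2, hyb⟩, hxc2, hyc⟩)))
    · exact Or.inr (Or.inr (glue_two ha hc hxa hxc φ hφ (Or.inl ⟨⟨hxa2, hya⟩, hxc2, hyc⟩)))

theorem exists_centralPrime {p : ℕ} [hp : Fact p.Prime] {G : Type*} [Group G] [Finite G]
    (hG : Cfsg.IsExtraspecial p G) : ∃ z : G, CentralPrime p G z := by
  obtain ⟨z, hz, hz1⟩ := (bot_or_exists_ne_one (center G)).resolve_left fun h => by
    have := CfsgLib.PGroups.IsExtraspecial.card_center hG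
    rw [h, card_bot] at this
    exact hp.out.ne_one this.symm
  exact ⟨z, CentralPrime.of_extraspecial hG hz hz1⟩

/-- There are at most two extraspecial `2`-groups of a given order. -/
theorem extraspecial_two_at_most_two {A : Type u} {B : Type v} {C : Type w} [Group A] [Group B]
    [Group C] [Finite A] [Finite B] [Finite C] (hA : Cfsg.IsExtraspecial 2 A)
    (hB : Cfsg.IsExtraspecial 2 B) (hC : Cfsg.IsExtraspecial 2 C)
    (h12 : Nat.card A = Nat.card B) (h23 : Nat.card B = Nat.card C) :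
    Nonempty (A ≃* B) ∨ Nonempty (B ≃* C) ∨ Nonempty (A ≃* C) := by
  have : Fact (Nat.Prime 2) := ⟨Nat.prime_two⟩
  obtain ⟨za, ha⟩ := exists_centralPrime hA
  obtain ⟨zb, hb⟩ := exists_centralPrime hB
  obtain ⟨zc, hc⟩ := exists_centralPrime hC
  rcases centralPrime_two_at_most_two _ A B C za zb zc rfl h12.symm (h12.trans h23).symm ha hb hc
    with ⟨φ, -⟩ | ⟨φ, -⟩ | ⟨φ, -⟩
  exacts [Or.inl ⟨φ⟩, Or.inr (Or.inl ⟨φ⟩), Or.inr (Or.inr ⟨φ⟩)]

end CfsgLib.Transfer
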