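import Cfsg.Agent.Lib.Transfer.Conj
import Mathlib.GroupTheory.Nilpotent
import Mathlib.Data.Nat.Choose.Dvd

/-!
# The `p`-th power of a product in class three

`mul_pow_of_class_three`: if `yx = xyc`, `cx = xcd₁`, `cy = ycd₂` and `d₁`, `d₂` commute with
`x`, `y`, then `(xy)^n = xⁿ yⁿ c^C(n,2) d₁^C(n,3) d₂^(C(n,2)+2C(n,3))`.
-/

namespace CfsgLib.Transfer

open scoped commutatorElement

variable {G : Type*} [Group G]

theorem mul_pow_of_class_three {x y c d₁ d₂ : G} (hc : y * x = x * y * c)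
    (h1 : c * x = x * c * d₁) (h2 : c * y = y * c * d₂)
    (h1x : Commute d₁ x) (h1y : Commute d₁ y) (h2x : Commute d₂ x) (h2y : Commute d₂ y) (n : ℕ) :
    (x * y) ^ n = x ^ n * y ^ n * c ^ n.choose 2 * d₁ ^ n.choose 3 *
      d₂ ^ (n.choose 2 + 2 * n.choose 3) := by
  have hcm : ∀ d : G, Commute d x → Commute d y → Commute d c := by
    intro d hx hy
    have h : c = (x * y)⁻¹ * (y * x) := by rw [hc, inv_mul_cancel_left]
    rw [h]
    exact ((hx.mul_right hy).inv_right).mul_right (hy.mul_right hx)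
  have h1c : Commute d₁ c := hcm d₁ h1x h1y
  have h2c : Commute d₂ c := hcm d₂ h2x h2y
  have powc : ∀ (z d : G), c * z = z * c * d → Commute d c → ∀ m : ℕ,
      c ^ m * z = z * c ^ m * d ^ m := by
    intro z d hz hd m
    induction m with
    | zero => simp
    | succ m ih =>
        calc c ^ (m + 1) * z = c ^ m * (c * z) := by rw [pow_succ, mul_assoc]
          _ = (c ^ m * z) * c * d := by rw [hz]; simp only [mul_assoc]
          _ = z * c ^ m * (d ^ m * c) * d := by rw [ih]; simp only [mul_assoc]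
          _ = z * c ^ m * (c * d ^ m) * d := by rw [(hd.pow_left m).eq]
          _ = _ := by rw [pow_succ, pow_succ]; simp only [mul_assoc]
  have hyx : ∀ m : ℕ, y ^ m * x = x * y ^ m * c ^ m * d₂ ^ m.choose 2 := by
    intro m
    induction m with
    | zero => simp
    | succ m ih =>
        have hyc : c * y ^ m = y ^ m * c * d₂ ^ m := by
          clear ih
          induction m with
          | zero => simp
          | succ m ih =>
              calc c * y ^ (m + 1) = (c * y ^ m) * y := by rw [pow_succ, mul_assoc]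
                _ = y ^ m * c * (d₂ ^ m * y) := by rw [ih]; simp only [mul_assoc]
                _ = y ^ m * (c * y) * d₂ ^ m := by
                  rw [(h2y.pow_left m).eq]; simp only [mul_assoc]
                _ = _ := by rw [h2, pow_succ, pow_succ']; simp only [mul_assoc]
        calc y ^ (m + 1) * x = y * (y ^ m * x) := by rw [pow_succ', mul_assoc]
          _ = (y * x) * y ^ m * c ^ m * d₂ ^ m.choose 2 := by rw [ih]; simp only [mul_assoc]
          _ = x * y * (c * y ^ m) * c ^ m * d₂ ^ m.choose 2 := by rw [hc]; simp only [mul_assoc]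
          _ = x * (y * y ^ m) * c * (d₂ ^ m * c ^ m) * d₂ ^ m.choose 2 := by
            rw [hyc]; simp only [mul_assoc]
          _ = x * (y * y ^ m) * (c * c ^ m) * (d₂ ^ m * d₂ ^ m.choose 2) := by
            rw [((h2c.pow_left m).pow_right m).eq]; simp only [mul_assoc]
          _ = _ := by
            rw [← pow_succ', ← pow_succ', ← pow_add, Nat.choose_succ_succ m 1, Nat.choose_one_right]
  induction n with
  | zero => simp
  | succ n ih =>
      set A := n.choose 2 with hA
      set B := n.choose 3 with hB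
      have h1xy : Commute (d₁ ^ B) (x * y) := (h1x.mul_right h1y).pow_left B
      have h2xy : Commute (d₂ ^ (A + 2 * B)) (x * y) := (h2x.mul_right h2y).pow_left _
      calc (x * y) ^ (n + 1) = (x * y) ^ n * (x * y) := pow_succ _ _
        _ = x ^ n * y ^ n * c ^ A * d₁ ^ B * (d₂ ^ (A + 2 * B) * (x * y)) := by
          rw [ih]; simp only [mul_assoc]
        _ = x ^ n * y ^ n * c ^ A * (d₁ ^ B * (x * y)) * d₂ ^ (A + 2 * B) := by
          rw [h2xy.eq]; simp only [mul_assoc]
        _ = x ^ n * y ^ n * (c ^ A * x) * y * d₁ ^ B * d₂ ^ (A + 2 * B) := by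
          rw [h1xy.eq]; simp only [mul_assoc]
        _ = x ^ n * (y ^ n * x) * c ^ A * (d₁ ^ A * y) * d₁ ^ B * d₂ ^ (A + 2 * B) := by
          rw [powc x d₁ h1 h1c]; simp only [mul_assoc]
        _ = x ^ n * (y ^ n * x) * (c ^ A * y) * d₁ ^ A * d₁ ^ B * d₂ ^ (A + 2 * B) := by
          rw [(h1y.pow_left A).eq]; simp only [mul_assoc]
        _ = (x ^ n * x) * y ^ n * c ^ n * (d₂ ^ A * y) * c ^ A * d₂ ^ A * d₁ ^ A * d₁ ^ B *
              d₂ ^ (A + 2 * B) := by
          rw [hyx, powc y d₂ h2 h2c]; simp only [mul_assoc, ← hA]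
        _ = (x ^ n * x) * y ^ n * (c ^ n * y) * (d₂ ^ A * c ^ A) * d₂ ^ A * d₁ ^ A * d₁ ^ B *
              d₂ ^ (A + 2 * B) := by
          rw [(h2y.pow_left A).eq]; simp only [mul_assoc]
        _ = (x ^ n * x) * (y ^ n * y) * c ^ n * (d₂ ^ n * c ^ A) * d₂ ^ A * d₂ ^ A * d₁ ^ A *
              d₁ ^ B * d₂ ^ (A + 2 * B) := by
          rw [powc y d₂ h2 h2c, ((h2c.pow_left A).pow_right A).eq]
          simp only [mul_assoc]
        _ = x ^ (n + 1) * y ^ (n + 1) * (c ^ n * c ^ A) * (d₂ ^ n * d₂ ^ A * d₂ ^ A) *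
              (d₁ ^ A * d₁ ^ B) * d₂ ^ (A + 2 * B) := by
          rw [((h2c.pow_left n).pow_right A).eq, ← pow_succ, ← pow_succ]; simp only [mul_assoc]
        _ = _ := by
          have hd : Commute d₂ d₁ := by
            have h : d₁ = (x * c)⁻¹ * (c * x) := by rw [h1, inv_mul_cancel_left]
            rw [h]
            exact ((h2x.mul_right h2c).inv_right).mul_right (h2c.mul_right h2x)
          simp only [← pow_add]
          rw [mul_assoc _ (d₂ ^ (n + A + A)) (d₁ ^ (A + B)),
            (hd.pow_pow _ _).eq, ← mul_assoc, mul_assoc _ (d₂ ^ (n + A + A)), ← pow_add,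
            Nat.choose_succ_succ n 1, Nat.choose_succ_succ n 2, Nat.choose_one_right, ← hA, ← hB]
          congr 2
          ring

/-- `(xy)^p = x^p y^p` when `p ≥ 3`, the triple commutators are central of order dividing `p`,
and `p > 3` or they are trivial. -/
theorem mul_pow_prime_of_class_three {p : ℕ} (hp : p.Prime) (hp2 : p ≠ 2) {x y : G}
    (hc : ⁅x⁻¹, y⁻¹⁆⁻¹ ^ p = 1)
    (h : ∀ c : G, y * x = x * y * c → ∃ d₁ d₂ : G, c * x = x * c * d₁ ∧ c * y = y * c * d₂ ∧
      Commute d₁ x ∧ Commute d₁ y ∧ Commute d₂ x ∧ Commute d₂ y ∧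
      ((d₁ = 1 ∧ d₂ = 1) ∨ (3 < p ∧ d₁ ^ p = 1 ∧ d₂ ^ p = 1))) :
    (x * y) ^ p = x ^ p * y ^ p := by
  set c := ⁅x⁻¹, y⁻¹⁆⁻¹ with hcdef
  have hcrel : y * x = x * y * c := by rw [hcdef, commutatorElement_def]; group
  obtain ⟨d₁, d₂, e1, e2, h1x, h1y, h2x, h2y, hd⟩ := h c hcrel
  rw [mul_pow_of_class_three hcrel e1 e2 h1x h1y h2x h2y p]
  have hdvd2 : p ∣ p.choose 2 :=
    hp.dvd_choose_self (by norm_num) (by have := hp.two_le; omega)
  have hone : ∀ (a : G) (m : ℕ), a ^ p = 1 → p ∣ m → a ^ m = 1 := by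
    rintro a m ha ⟨k, rfl⟩
    rw [pow_mul, ha, one_pow]
  rw [hone c _ hc hdvd2, mul_one]
  rcases hd with ⟨rfl, rfl⟩ | ⟨h3, ha, hb⟩
  · simp
  · have hdvd3 : p ∣ p.choose 3 := hp.dvd_choose_self (by norm_num) h3
    rw [hone d₁ _ ha hdvd3, hone d₂ _ hb (dvd_add hdvd2 (dvd_mul_of_dvd_right hdvd3 2)),
      mul_one, mul_one]

end CfsgLib.Transfer
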