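import Cfsg.Agent.Lib.Transfer.PResidual
import Cfsg.Agent.Lib.Transfer.Conj
import Mathlib.GroupTheory.Transfer

/-!
# Small abelian Sylow subgroups: a prime acting nontrivially
-/

namespace CfsgLib.Transfer

open Cfsg Subgroup

variable {G : Type*} [Group G] [Finite G] {p : ℕ} [hp : Fact p.Prime]

/-- If an abelian Sylow `p`-subgroup `P` has no normal complement, some prime `q ≠ p` dividing
`|G|` divides `|P| - |C|` for a proper subgroup `C` of `P`. -/
theorem exists_prime_dvd_card_sub (P : Sylow p G) (hP : IsMulCommutative (P : Subgroup G))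
    (h : ¬ HasNormalPComplement p G) :
    ∃ q : ℕ, q.Prime ∧ q ≠ p ∧ q ∣ Nat.card G ∧ ∃ C : Subgroup G, C < (P : Subgroup G) ∧
      q ∣ Nat.card (P : Subgroup G) - Nat.card C := by
  classical
  set N := Subgroup.normalizer ((P : Subgroup G) : Set G) with hN
  have hNC : ¬ N ≤ Subgroup.centralizer ((P : Subgroup G) : Set G) := fun hle =>
    h ((exists_complement_iff P).mp ⟨_, inferInstance, MonoidHom.ker_transferSylow_isComplement' P hle⟩)
  set ρ : N →* MulAut (P : Subgroup G) := Subgroup.normalizerMonoidHom (P : Subgroup G)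
  have hρker : ρ.ker = (Subgroup.centralizer ((P : Subgroup G) : Set G)).subgroupOf N :=
    Subgroup.normalizerMonoidHom_ker _
  have hPker : (P : Subgroup G).subgroupOf N ≤ ρ.ker := by
    rw [hρker]
    exact fun x hx => mem_subgroupOf.mpr (mem_centralizer_iff.mpr fun y hy =>
      congrArg Subtype.val (hP.is_comm.comm ⟨y, hy⟩ ⟨(x : G), hx⟩))
  obtain ⟨k, hk, hkρ⟩ : ∃ k : N, Nat.Coprime (orderOf k) p ∧ ρ k ≠ 1 := by
    by_contra hcon
    push Not at hcon
    refine hNC fun x hx => ?_
    obtain ⟨a, ha, b, hb, hab⟩ := exists_mul_mem_pResidual (P.subtype le_normalizer) (⟨x, hx⟩ : N)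
    have hb' : b ∈ ρ.ker := (pResidual_le_iff.mpr hcon) hb
    have : (⟨x, hx⟩ : N) ∈ ρ.ker := hab ▸ mul_mem (hPker ha) hb'
    rw [hρker] at this
    exact mem_subgroupOf.mp this
  have hd1 : orderOf (ρ k) ≠ 1 := fun h1 => hkρ (orderOf_eq_one_iff.mp h1)
  obtain ⟨q, hq, hqd⟩ := Nat.exists_prime_and_dvd hd1
  have hqk : q ∣ orderOf k := hqd.trans (orderOf_map_dvd ρ k)
  have hqp : q ≠ p := fun he => by
    subst he
    exact hq.not_dvd_one (by simpa [hk.gcd_eq_one] using Nat.dvd_gcd hqk (dvd_refl q))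
  refine ⟨q, hq, hqp, ?_, ?_⟩
  · rw [← Subgroup.orderOf_coe] at hqk
    exact hqk.trans (orderOf_dvd_natCard _)
  set φ : MulAut (P : Subgroup G) := ρ k ^ (orderOf (ρ k) / q)
  have hφ : orderOf φ = q := orderOf_pow_orderOf_div (orderOf_pos _).ne' hqd
  have : Fact q.Prime := ⟨hq⟩
  have hQ : IsPGroup q (zpowers φ) :=
    IsPGroup.of_card (n := 1) (by rw [Nat.card_zpowers, hφ, pow_one])
  let C₀ : Subgroup (P : Subgroup G) := φ.toMonoidHom.eqLocus (MonoidHom.id _)
  have hmod := hQ.card_modEq_card_fixedPoints (α := (P : Subgroup G))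
  have hfix : MulAction.fixedPoints (zpowers φ) (P : Subgroup G) = (C₀ : Set (P : Subgroup G)) := by
    ext x
    constructor
    · exact fun hx => hx ⟨φ, mem_zpowers φ⟩
    · intro hx g
      have hmem : φ ∈ MulAction.stabilizer (MulAut (P : Subgroup G)) x := hx
      exact zpowers_le.mpr hmem g.2
  rw [Nat.card_congr (Equiv.setCongr hfix)] at hmod
  refine ⟨C₀.map (P : Subgroup G).subtype, lt_of_le_of_ne (map_subtype_le _) fun he => ?_, ?_⟩
  · have htop : C₀ = ⊤ := by
      refine Subgroup.map_injective (P : Subgroup G).subtype_injective ?_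
      rw [he, ← MonoidHom.range_eq_map, range_subtype]
    have h1 : φ = 1 := MulEquiv.ext fun x => htop.ge (mem_top x)
    rw [h1, orderOf_one] at hφ
    exact hq.ne_one hφ.symm
  · rw [card_map_of_injective (P : Subgroup G).subtype_injective]
    exact (Nat.modEq_iff_dvd' (Subgroup.card_le_card_group C₀)).mp hmod.symm

end CfsgLib.Transfer
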